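import Cfsg.Agent.Lib.Fusion.Prod.Local

/-!
# The automizer of a fully normalized subgroup in the system of maps trivial modulo `T`

A fully normalized subgroup `P` is moved by a map `θ` of `F` on `N_S(P)` into good position; the
hyperfocal subgroup theorem in the automorphisms trivial modulo `T` there gives the Sylow condition.
-/

set_option autoImplicit false
set_option linter.style.haveILetI false

namespace Cfsg.Agent.Fusion.Prod

open Cfsg Cfsg.Agent.Fusion Cfsg.Agent.Fusion.NormalLift Cfsg.Agent.Fusion.Inter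
open Cfsg.FusionSystem (normalizerIn centralizerIn)

variable {Ω : Type*} [Group Ω] {S T : Subgroup Ω} {F : FusionSystem S} {E : FusionSystem T} {p : ℕ}

/-- A map carrying `P` with its normalizers into good position. -/
structure Pos (n : NData F E p) (P P' : Subgroup Ω) (θ : Ω → Ω) : Prop where
  nice : Nice F T P'
  map : IsMap F (normalizerIn S P) θ
  iso : IsIso F P P' θ
  mapsTo : ∀ g ∈ normalizerIn S P, θ g ∈ normalizerIn S P'
  tnorm : ∀ y ∈ normalizerIn T P', ∃ x ∈ normalizerIn T P, θ x = y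

/-- The elements of `N_S(P)` whose action on `P` lies in `V`. -/
def pre (S P : Subgroup Ω) (V : Subgroup (MulAut P)) : Subgroup Ω :=
  (V.comap (conjAutHom S P)).map (normalizerIn S P).subtype

theorem mem_pre {P : Subgroup Ω} {V : Subgroup (MulAut P)} {g : Ω} :
    g ∈ pre S P V ↔ ∃ h : g ∈ normalizerIn S P, conjAutHom S P ⟨g, h⟩ ∈ V :=
  ⟨fun ⟨⟨_, hg⟩, hv, e⟩ => by subst e; exact ⟨hg, hv⟩, fun ⟨h, hv⟩ => ⟨⟨g, h⟩, hv, rfl⟩⟩

theorem pre_le (P : Subgroup Ω) (V : Subgroup (MulAut P)) : pre S P V ≤ normalizerIn S P :=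
  Subgroup.map_subtype_le _

theorem le_pre {P : Subgroup Ω} {V : Subgroup (MulAut P)} (hP : P ≤ S) (hV : autInducedBy P P ≤ V) :
    P ≤ pre S P V := fun x hx =>
  mem_pre.mpr ⟨le_normalizerIn hP hx, hV (mem_autInducedBy.mpr ⟨x, hx, fun y => conjAutHom_apply ..⟩)⟩

theorem conjAutHom_autFun {P : Subgroup Ω} {g : Ω} (hg : g ∈ normalizerIn S P) {x : Ω} (hx : x ∈ P) :
    autFun (conjAutHom S P ⟨g, hg⟩) x = g * x * g⁻¹ := by
  rw [autFun_of_mem _ hx]; rfl

theorem exists_pre {P : Subgroup Ω} {V : Subgroup (MulAut P)} (hV : V ≤ autInducedBy S P)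
    {v : MulAut P} (hv : v ∈ V) : ∃ g ∈ pre S P V, ∀ x ∈ P, autFun v x = g * x * g⁻¹ := by
  obtain ⟨⟨g, hg⟩, he⟩ := (range_conjAutHom (S) P).ge (hV hv)
  exact ⟨g, mem_pre.mpr ⟨hg, he.symm ▸ hv⟩, fun x hx => by rw [← he, conjAutHom_autFun hg hx]⟩

/-- Inner automorphisms are permuted by all automorphisms. -/
theorem conj_inner {P : Subgroup Ω} (b : MulAut P) {v : MulAut P} (hv : v ∈ autInducedBy P P) :
    b * v * b⁻¹ ∈ autInducedBy P P := by
  obtain ⟨g, hg, hge⟩ := mem_autInducedBy.mp hv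
  refine mem_autInducedBy.mpr ⟨(b ⟨g, hg⟩ : P), (b ⟨g, hg⟩).2, fun x => ?_⟩
  obtain ⟨y, rfl⟩ := b.surjective x
  rw [MulAut.mul_apply, MulAut.mul_apply, MulAut.inv_apply_self,
    show v y = ⟨g, hg⟩ * y * (⟨g, hg⟩ : P)⁻¹ from Subtype.ext (hge y), map_mul, map_mul, map_inv]
  rfl

theorem pow_mem_of_conj {P : Subgroup Ω} {V : Subgroup (MulAut P)} {a : MulAut P}
    (h : ∀ v ∈ V, a * v * a⁻¹ ∈ V) : ∀ v ∈ V ⊔ autInducedBy P P, a * v * a⁻¹ ∈ V ⊔ autInducedBy P P := by
  have h1 : V ⊔ autInducedBy P P ≤ (V ⊔ autInducedBy P P).comap (MulAut.conj a).toMonoidHom :=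
    sup_le (fun v hv => Subgroup.mem_sup_left (h v hv)) fun v hv => Subgroup.mem_sup_right (conj_inner a hv)
  exact fun v hv => h1 hv

variable [Finite S] [Fact p.Prime]

/-- The extension lemma in terms of automorphisms. -/
theorem exists_ext_pre (n : NData F E p) {P : Subgroup Ω} (hn : Nice F T P) {a : MulAut P}
    (ha : MCo F E p P (autFun a)) {V : Subgroup (MulAut P)} (hV : V ≤ autInducedBy S P)
    (hI : autInducedBy P P ≤ V) (hinv : ∀ v ∈ V, a * v * a⁻¹ ∈ V) :
    ∃ f M, MCo F E p M f ∧ pre S P V ≤ M ∧ P ≤ M ∧ M ≤ S ∧ Set.EqOn f (autFun a) P := by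
  obtain ⟨f, hf, hfe⟩ := ext_mco n hn ha (K := pre S P V) (le_pre hn.le hI) (pre_le P V) fun k hk => by
    obtain ⟨hkN, hkV⟩ := mem_pre.mp hk
    obtain ⟨k', hk', hke⟩ := exists_pre hV (hinv _ hkV)
    refine ⟨k', Subgroup.mem_sup_left hk', fun x hx => ?_⟩
    rw [← hke _ (autFun_mem_self a hx), autFun_mul _ _ (autFun_mem_self a hx), Function.comp_apply,
      PrimeIndex.autFun_inv_apply _ hx, autFun_mul _ _ hx, Function.comp_apply,
      conjAutHom_autFun hkN hx]
  exact ⟨f, _, hf, le_sup_right, (le_pre hn.le hI).trans le_sup_right, hf.iso.dom_le, hfe⟩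

set_option maxHeartbeats 1000000 in
/-- The residual of the automorphisms trivial modulo `T` meets a Sylow subgroup in conjugations by
elements of `T`. -/
theorem residual_inf_induced (n : NData F E p) {P : Subgroup Ω} (hn : Nice F T P)
    (hct : CT F T (P ⊓ T)) (Y : Sylow p ↥(modGrp F E hn.le n.closed))
    (hY : ∀ b : modGrp F E hn.le n.closed, b ∈ (Y : Subgroup _) →
      ((b : F.autGroup P) : MulAut P) ∈ autInducedBy S P) :
    ∀ b ∈ (Y : Subgroup _) ⊓ pResidual p ↥(modGrp F E hn.le n.closed),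
      ((b : F.autGroup P) : MulAut P) ∈ autInducedBy T P := by
  have hPS := hn.le
  haveI := finite_of_le hPS
  haveI := finite_mulAut P
  set ι : ↥(modGrp F E hn.le n.closed) →* MulAut P := (F.autGroup P).subtype.comp (modGrp F E hn.le n.closed).subtype with hι
  suffices H : (Y : Subgroup ↥(modGrp F E hn.le n.closed)) ⊓ pResidual p ↥(modGrp F E hn.le n.closed) ≤ (autInducedBy T P).comap ι from fun b hb => H hb
  rw [← hyperfocal_eq Y]
  refine (Subgroup.closure_le _).mpr ?_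
  rintro _ ⟨Q, α, u, hQ, hα, rfl⟩
  set G := (autInducedBy T P).comap ι with hG
  revert u
  show ∀ u : Q, (u : ↥(modGrp F E hn.le n.closed))⁻¹ * (((α : MulAut Q) u : Q) : ↥(modGrp F E hn.le n.closed)) ∈ G
  induction hα using Subgroup.closure_induction with
  | one => intro u; simp
  | mul a b _ _ iha ihb =>
    intro u
    have := G.mul_mem (ihb u) (iha ((b : MulAut Q) u))
    convert this using 1
    rw [Subgroup.coe_mul, MulAut.mul_apply]
    group
  | inv a _ iha =>
    intro u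
    have := G.inv_mem (iha (((a : MulAut Q)⁻¹) u))
    rw [MulAut.apply_inv_self] at this
    convert this using 1
    rw [Subgroup.coe_inv]
    group
  | mem a ha =>
    intro u
    haveI := finite_mulAut Q
    obtain ⟨φ, hφ, hφe⟩ := ((mem_autGroup hQ).mp a.2).1
    obtain ⟨-, -, g₀, hg₀⟩ := hφ
    have hg₀a : ∀ x : Q, (((a : MulAut Q) x : Q) : ↥(modGrp F E hn.le n.closed)) = g₀ * (x : ↥(modGrp F E hn.le n.closed)) * g₀⁻¹ := fun x => by
      rw [← autFun_coe, ← hφe x, hg₀ x]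
    have hg₀N : g₀ ∈ normalizerIn (⊤ : Subgroup ↥(modGrp F E hn.le n.closed)) Q :=
      ⟨Subgroup.mem_top _, mem_normalizer_of_induces hg₀a⟩
    obtain ⟨k, hk, hke⟩ := exists_pow_coprime (p := p) (⟨g₀, hg₀N⟩ : normalizerIn ⊤ Q) (a : MulAut Q)
      (by rwa [Subgroup.orderOf_coe])
    set g : ↥(modGrp F E hn.le n.closed) := g₀ ^ k with hg
    have hgo : (orderOf g).Coprime p := by
      rwa [← Subgroup.orderOf_coe, Subgroup.coe_pow] at hk
    have hga : ∀ x : Q, (((a : MulAut Q) x : Q) : ↥(modGrp F E hn.le n.closed)) = g * (x : ↥(modGrp F E hn.le n.closed)) * g⁻¹ := fun x => by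
      have h1 : conjAutHom (⊤ : Subgroup ↥(modGrp F E hn.le n.closed)) Q ⟨g₀, hg₀N⟩ = (a : MulAut Q) :=
        MulEquiv.ext fun y => Subtype.ext ((conjAutHom_apply ..).trans (hg₀a y).symm)
      have h2 : conjAutHom (⊤ : Subgroup ↥(modGrp F E hn.le n.closed)) Q (⟨g₀, hg₀N⟩ ^ k) = (a : MulAut Q) := by
        rw [map_pow, h1, hke]
      rw [← h2, conjAutHom_apply, Subgroup.coe_pow]
    have hgM : MCo F E p P (autFun (ι g)) :=
      ⟨(mem_autGroup hPS).mp (g : F.autGroup P).2, hct,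
        cop_of_pow (β := ι g) (by
          rwa [hι, MonoidHom.comp_apply, Subgroup.coe_subtype, Subgroup.coe_subtype, Subgroup.orderOf_coe,
            Subgroup.orderOf_coe]) le_rfl, g.2.1, g.2.2⟩
    have hQV : Q.map ι ≤ autInducedBy S P := by
      rintro _ ⟨v, hv, rfl⟩
      exact hY v (hQ hv)
    have hgV : ∀ v ∈ Q.map ι, ι g * v * (ι g)⁻¹ ∈ Q.map ι := by
      rintro _ ⟨v, hv, rfl⟩
      exact ⟨_, ((a : MulAut Q) ⟨v, hv⟩).2, by rw [hga, map_mul, map_mul, map_inv]⟩
    obtain ⟨f, M, hf, hVM, hPM, -, hfe⟩ := exists_ext_pre n hn hgM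
      (V := Q.map ι ⊔ autInducedBy P P) (sup_le hQV (autInducedBy_mono hPS)) le_sup_right
      (pow_mem_of_conj hgV)
    obtain ⟨q, hq, hqe⟩ := exists_pre (sup_le hQV (autInducedBy_mono hPS))
      (Subgroup.mem_sup_left ⟨u, u.2, rfl⟩ : ι u ∈ Q.map ι ⊔ autInducedBy P P)
    have hqM : q ∈ M := hVM hq
    have hfT := hf.mod q hqM
    refine Subgroup.mem_comap.mpr (mem_autInducedBy.mpr ⟨q⁻¹ * f q, hfT, fun x => ?_⟩)
    rw [map_mul, map_inv, MulAut.mul_apply]
    set y := (ι (((a : MulAut Q) u : Q) : ↥(modGrp F E hn.le n.closed))) x with hy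
    have hay : (y : Ω) = f q * x * (f q)⁻¹ := by
      obtain ⟨z, rfl⟩ := (ι g).surjective x
      have hz : q * z * q⁻¹ ∈ P := (hqe z z.2).symm ▸ autFun_mem_self _ z.2
      have e1 : y = ι g (ι (u : ↥(modGrp F E hn.le n.closed)) z) := by
        rw [hy, hga, map_mul, map_mul, map_inv, MulAut.mul_apply, MulAut.mul_apply, MulAut.inv_apply_self]
      rw [e1, ← autFun_coe, ← autFun_coe (ι (u : ↥(modGrp F E hn.le n.closed))), hqe z z.2, ← hfe hz,
        hf.iso.1.map_conj hqM (hPM z.2), hfe z.2, autFun_coe]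
    obtain ⟨z, hz⟩ := (ι (u : ↥(modGrp F E hn.le n.closed))).surjective y
    rw [← hz, MulAut.inv_apply_self]
    have h1 : (y : Ω) = q * z * q⁻¹ := by rw [← hz, ← autFun_coe, hqe z z.2]
    calc (z : Ω) = q⁻¹ * (y : Ω) * q := by rw [h1]; group
      _ = _ := by rw [hay]; group

omit [Finite S] [Fact p.Prime] in
/-- Conjugations in the source become conjugations in the target. -/
theorem Pos.congr_conj {n : NData F E p} {P P' : Subgroup Ω} {θ : Ω → Ω} (h : Pos n P P' θ) {g : Ω}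
    (hg : g ∈ normalizerIn S P) :
    MulAut.congr h.iso.equiv (conjAutHom S P ⟨g, hg⟩) = conjAutHom S P' ⟨θ g, h.mapsTo g hg⟩ := by
  refine MulEquiv.ext fun y => Subtype.ext ?_
  obtain ⟨x, rfl⟩ := h.iso.equiv.surjective y
  rw [congr_apply_equiv]
  show θ (g * x * g⁻¹) = θ g * θ x * (θ g)⁻¹
  exact h.map.map_conj hg (le_normalizerIn h.iso.dom_le x.2)

omit [Finite S] in
/-- Transport of maps along the isomorphism, as functions. -/
theorem congr_autFun {P P' : Subgroup Ω} {f fi : Ω → Ω} (hf : IsIso F P P' f)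
    (hl : ∀ x ∈ P, fi (f x) = x) (a : MulAut P) :
    Set.EqOn (f ∘ autFun a ∘ fi) (autFun (MulAut.congr hf.equiv a)) P' := fun y hy => by
  obtain ⟨x, hx, rfl⟩ := hf.exists_preimage hy
  simp only [Function.comp_apply, hl x hx]
  rw [autFun_of_mem _ hy,
    show (⟨f x, hy⟩ : P') = hf.equiv ⟨x, hx⟩ from Subtype.ext (hf.equiv_apply ⟨x, hx⟩).symm,
    congr_apply_equiv, autFun_of_mem _ hx]

omit [Finite S] in
theorem orderOf_congr {P P' : Subgroup Ω} {f : Ω → Ω} (hf : IsIso F P P' f) (a : MulAut P) :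
    orderOf (MulAut.congr hf.equiv a) = orderOf a :=
  MulEquiv.orderOf_eq (MulAut.congr hf.equiv) a

/-- An automorphism in the system of order prime to `p`, read as a function. -/
theorem mco_autFun (n : NData F E p) {P : Subgroup Ω} (hP : P ≤ S) (hct : CT F T (P ⊓ T))
    {a : MulAut P} (ha : a ∈ (pSys n).autGroup P) (ho : (orderOf a).Coprime p) :
    MCo F E p P (autFun a) :=
  mco_of_cop n ((mem_autGroup hP).mp ha) hct (cop_of_pow (β := a) ho le_rfl)

omit [Fact p.Prime] in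
theorem oGrp_le (n : NData F E p) (P : Subgroup Ω) : oGrp n P ≤ (pSys n).autGroup P :=
  (Subgroup.closure_le _).mpr fun _ ha => ha.1

omit [Fact p.Prime] in
theorem oGrp_conj (n : NData F E p) {P : Subgroup Ω} {a o : MulAut P} (ha : a ∈ (pSys n).autGroup P)
    (ho : o ∈ oGrp n P) : a * o * a⁻¹ ∈ oGrp n P := by
  have h1 : oGrp n P ≤ (oGrp n P).comap (MulAut.conj a).toMonoidHom :=
    (Subgroup.closure_le _).mpr fun b hb => Subgroup.subset_closure
      ⟨Subgroup.mul_mem _ (Subgroup.mul_mem _ ha hb.1) (Subgroup.inv_mem _ ha),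
        (MulEquiv.orderOf_eq (MulAut.conj a) b).symm ▸ hb.2⟩
  exact h1 ho

set_option maxHeartbeats 1000000 in
/-- The Sylow condition. -/
theorem fullyAutomized_pSys (n : NData F E p) {P P' : Subgroup Ω} {θ : Ω → Ω}
    (hpos : Pos n P P' θ) (hct : CT F T (P ⊓ T))
    (hgam : ∀ u, IsIso (pSys n) P P u → InGam n P u) : (pSys n).IsFullyAutomized p P := by
  have hPS := hpos.iso.dom_le
  have hn := hpos.nice
  have hP'S := hn.le
  haveI := finite_of_le hPS
  haveI := finite_mulAut P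
  haveI := finite_of_le hP'S
  haveI := finite_mulAut P'
  have hct' : CT F T (P' ⊓ T) := hct.of_isConj n.closed (isIso_inf n.closed hpos.iso).isConj
  obtain ⟨θi, hθi, hl, hr⟩ := hpos.iso.exists_inv
  refine ⟨hPS, ?_⟩
  set A := (pSys n).autGroup P with hA
  set S' := autInducedBy S P with hS'
  have hS'A : S' ≤ A := autInducedBy_le_autGroup hPS
  set ψ := MulAut.congr hpos.iso.equiv with hψ
  let ι : ↥(modGrp F E hn.le n.closed) →* MulAut P' :=
    (F.autGroup P').subtype.comp (modGrp F E hn.le n.closed).subtype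
  have hιi : Function.Injective ι := fun a b h => Subtype.ext (Subtype.ext h)
  set R := pResidual p ↥(modGrp F E hn.le n.closed) with hR
  set J := R.map ι with hJ
  have hOJ : (oGrp n P).map ψ.toMonoidHom ≤ J := by
    rw [oGrp, MonoidHom.map_closure, Subgroup.closure_le]
    rintro _ ⟨a, ⟨ha, hao⟩, rfl⟩
    have hM := ((mco_autFun n hPS hct ha hao).transport n hpos.iso hθi hl).congr
      (congr_autFun hpos.iso hl a)
    refine ⟨⟨⟨ψ a, autGroup_mem_of_isMap hM.iso.1⟩, hM.mod, hM.emap⟩, ?_, rfl⟩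
    refine Transfer.mem_pResidual_of_coprime ?_
    rw [← orderOf_injective ι hιi]
    exact (orderOf_congr hpos.iso a).symm ▸ hao
  have hJO : J ≤ (oGrp n P).map ψ.toMonoidHom := by
    rw [hJ, hR, pResidual, MonoidHom.map_closure, Subgroup.closure_le]
    rintro _ ⟨b, hb, rfl⟩
    have hbo : (orderOf (ι b)).Coprime p := by rw [orderOf_injective ι hιi]; exact hb
    have hbM : MCo F E p P' (autFun (ι b)) :=
      ⟨(mem_autGroup hP'S).mp (b : F.autGroup P').2, hct', cop_of_pow (β := ι b) hbo le_rfl, b.2.1, b.2.2⟩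
    have hM := hbM.transport n hθi hpos.iso fun y hy => hr y hy
    obtain ⟨a, ha, hae⟩ := (hM.isIso_pSys n).exists_aut
    have hψa : ψ a = ι b := by
      refine MulEquiv.ext fun y => Subtype.ext ?_
      have h1 := (congr_autFun hpos.iso hl a) y.2
      rw [← autFun_coe, ← autFun_coe (ι b), ← h1]
      have hy' := hθi.mem y.2
      simp only [Function.comp_apply]
      rw [hae hy']
      simp only [Function.comp_apply, hr y y.2, hr _ (autFun_mem_self (ι b) y.2)]
    refine ⟨a, Subgroup.subset_closure ⟨ha, ?_⟩, hψa⟩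
    rwa [← orderOf_congr hpos.iso a, ← hψ, hψa]
  -- a Sylow subgroup of the automizer containing the conjugations
  have hSp : IsPGroup p (S'.subgroupOf A) :=
    (autInducedBy_isPGroup n.pgroup P).comap_of_injective _ (Subgroup.subtype_injective _)
  obtain ⟨U, hU⟩ := hSp.exists_le_sylow
  refine ⟨U, le_antisymm (fun u hu => ?_) hU⟩
  set U₀ := (U : Subgroup A).map A.subtype with hU₀
  have hS'U : S' ≤ U₀ := fun s hs => ⟨⟨s, hS'A hs⟩, hU (Subgroup.mem_subgroupOf.mpr hs), rfl⟩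
  -- the automizer is the product
  have hnorm : S' ≤ Subgroup.normalizer (oGrp n P : Set (MulAut P)) := fun s hs =>
    Subgroup.mem_normalizer_fintype fun o ho => oGrp_conj n (hS'A hs) ho
  have humem : (u : MulAut P) ∈ ((S' ⊔ oGrp n P : Subgroup _) : Set (MulAut P)) := by
    obtain ⟨α, hα, hαe⟩ := hgam _ ((mem_autGroup hPS).mp u.2)
    have : α = (u : MulAut P) := MulEquiv.ext fun x => Subtype.ext (by
      rw [← autFun_coe, ← autFun_coe, hαe x.2])
    exact this ▸ hα
  rw [Subgroup.coe_mul_of_left_le_normalizer_right S' (oGrp n P) hnorm] at humem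
  obtain ⟨s, hs, o, ho, hso⟩ := humem
  refine Subgroup.mem_subgroupOf.mpr (hso ▸ S'.mul_mem hs ?_)
  -- the part in the subgroup generated by the automorphisms of order prime to `p`
  set V := U₀ ⊓ oGrp n P with hV
  have hoV : o ∈ V := by
    refine ⟨?_, ho⟩
    have := U₀.mul_mem (U₀.inv_mem (hS'U hs)) (show (u : MulAut P) ∈ U₀ from ⟨u, hu, rfl⟩)
    rwa [← hso, inv_mul_cancel_left] at this
  suffices hcard : Nat.card V ≤ Nat.card (S' ⊓ oGrp n P : Subgroup (MulAut P)) from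
    ((Subgroup.eq_of_le_of_card_ge (inf_le_inf_right _ hS'U) hcard).ge hoV).1
  obtain ⟨Y, hY⟩ := (hn.automized n).2
  haveI : (modGrp F E hn.le n.closed).Normal := modGrp_normal n hn.le
  obtain ⟨YB, hYB⟩ := Transfer.exists_sylow_subgroupOf_normal Y (modGrp F E hn.le n.closed)
  haveI : R.Normal := Transfer.pResidual_normal
  obtain ⟨W, hW⟩ := Transfer.exists_sylow_subgroupOf_normal YB R
  let f : R →* MulAut P' := ι.comp R.subtype
  have hfi : Function.Injective f := hιi.comp (Subgroup.subtype_injective _)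
  have hfr : f.range = J := by rw [hJ, MonoidHom.range_comp, Subgroup.range_subtype]
  have hVp : IsPGroup p ((V.map ψ.toMonoidHom).comap f) :=
    (((U.2.map _).to_le inf_le_left).map _).comap_of_injective _ hfi
  obtain ⟨W', hW'⟩ := hVp.exists_le_sylow
  have h1 : Nat.card V ≤ Nat.card (W : Subgroup R) := by
    refine le_trans (le_of_eq ?_) ((Subgroup.card_le_of_le hW').trans (le_of_eq ?_))
    · rw [← Subgroup.card_map_of_injective hfi (K := (V.map ψ.toMonoidHom).comap f),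
        Subgroup.map_comap_eq_self (hfr.symm ▸ (Subgroup.map_mono inf_le_right).trans hOJ)]
      exact (Subgroup.card_map_of_injective ψ.injective).symm
    · exact (Sylow.card_eq_multiplicity W').trans (Sylow.card_eq_multiplicity W).symm
  refine h1.trans ?_
  have h2 : ((W : Subgroup R).map f).map ψ.symm.toMonoidHom ≤ S' ⊓ oGrp n P := by
    rintro _ ⟨_, ⟨w, hw, rfl⟩, rfl⟩
    rw [hW, SetLike.mem_coe, Subgroup.mem_subgroupOf] at hw
    have hT := residual_inf_induced n hn hct' YB (fun b hb => by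
      rw [hYB, Subgroup.mem_subgroupOf, hY, Subgroup.mem_subgroupOf] at hb
      exact hb) w.1 ⟨hw, w.2⟩
    obtain ⟨y, hy, hye⟩ := mem_autInducedBy.mp hT
    obtain ⟨x, hx, rfl⟩ := hpos.tnorm y ⟨hy, mem_normalizer_of_induces hye⟩
    have hxS : x ∈ normalizerIn S P := ⟨n.tS hx.1, hx.2⟩
    have he : f w = ψ (conjAutHom S P ⟨x, hxS⟩) := by
      rw [hψ, hpos.congr_conj hxS]
      exact MulEquiv.ext fun z => Subtype.ext (hye z)
    obtain ⟨o', ho', ho'e⟩ := hJO (show f w ∈ J from hfr ▸ ⟨w, rfl⟩)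
    refine ⟨?_, ?_⟩
    · show ψ.symm (f w) ∈ S'
      rw [he, MulEquiv.symm_apply_apply, hS', ← range_conjAutHom]
      exact ⟨_, rfl⟩
    · show ψ.symm (f w) ∈ oGrp n P
      rwa [← ho'e, MulEquiv.coe_toMonoidHom, MulEquiv.symm_apply_apply]
  refine le_trans (le_of_eq ?_) (Subgroup.card_le_of_le h2)
  exact ((Subgroup.card_map_of_injective ψ.symm.injective).trans
    (Subgroup.card_map_of_injective hfi)).symm

set_option maxHeartbeats 1000000 in
/-- An automorphism of order prime to `p` normalizing a group of conjugations extends. -/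
theorem extends_cop (n : NData F E p) {P P' : Subgroup Ω} {θ : Ω → Ω} (hpos : Pos n P P' θ)
    (hct : CT F T (P ⊓ T)) {a : MulAut P} (ha : a ∈ (pSys n).autGroup P) (hao : (orderOf a).Coprime p)
    {V : Subgroup (MulAut P)} (hV : V ≤ autInducedBy S P) (hI : autInducedBy P P ≤ V)
    (hinv : ∀ v ∈ V, a * v * a⁻¹ ∈ V) :
    ∃ g, IsMap (pSys n) (pre S P V) g ∧ Set.EqOn g (autFun a) P := by
  have hPS := hpos.iso.dom_le
  have hn := hpos.nice
  obtain ⟨θi, hθi, hl, -⟩ := hpos.iso.exists_inv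
  set ψ := MulAut.congr hpos.iso.equiv with hψ
  have ha' : MCo F E p P' (autFun (ψ a)) :=
    ((mco_autFun n hPS hct ha hao).transport n hpos.iso hθi hl).congr (congr_autFun hpos.iso hl a)
  set V' := V.map ψ.toMonoidHom with hV'
  have hV'S : V' ≤ autInducedBy S P' := by
    rintro _ ⟨v, hv, rfl⟩
    obtain ⟨⟨g, hg⟩, rfl⟩ := (range_conjAutHom S P).ge (hV hv)
    rw [MulEquiv.coe_toMonoidHom, hψ, hpos.congr_conj hg, ← range_conjAutHom]
    exact ⟨_, rfl⟩
  have hI' : autInducedBy P' P' ≤ V' := by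
    intro v hv
    obtain ⟨y, hy, hye⟩ := mem_autInducedBy.mp hv
    obtain ⟨x, hx, rfl⟩ := hpos.iso.exists_preimage hy
    have hxN := le_normalizerIn hPS hx
    refine ⟨conjAutHom S P ⟨x, hxN⟩, hI (mem_autInducedBy.mpr ⟨x, hx, fun z => conjAutHom_apply ..⟩), ?_⟩
    rw [MulEquiv.coe_toMonoidHom, hψ, hpos.congr_conj hxN]
    exact MulEquiv.ext fun z => Subtype.ext (show _ = _ from (hye z).symm)
  have hinv' : ∀ v ∈ V', ψ a * v * (ψ a)⁻¹ ∈ V' := by
    rintro _ ⟨v, hv, rfl⟩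
    exact ⟨_, hinv v hv, by
      rw [MulEquiv.coe_toMonoidHom, map_mul, map_mul, map_inv]⟩
  obtain ⟨f, M, hf, hVM, hP'M, hMS, hfe⟩ := exists_ext_pre n hn ha' hV'S hI' hinv'
  set K := pre S P V with hK
  have hKN : K ≤ normalizerIn S P := pre_le P V
  obtain ⟨K', hK'⟩ := (hpos.map.mono hKN).exists_image
  have hθV : ∀ k ∈ K, θ k ∈ M := fun k hk => by
    obtain ⟨hkN, hkV⟩ := mem_pre.mp hk
    refine hVM (mem_pre.mpr ⟨hpos.mapsTo k hkN, ?_⟩)
    rw [← hpos.congr_conj hkN]
    exact ⟨_, hkV, rfl⟩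
  have hK'M : K' ≤ M := fun y hy => by
    obtain ⟨k, hk, rfl⟩ := hK'.exists_preimage hy
    exact hθV k hk
  have hst : ∀ y ∈ K', f y ∈ K' := fun y hy => by
    obtain ⟨k, hk, rfl⟩ := hK'.exists_preimage hy
    obtain ⟨hkN, hkV⟩ := mem_pre.mp hk
    have hkM := hθV k hk
    have hN1 : θ k ∈ normalizerIn S P' := hpos.mapsTo k hkN
    have hN2 : f (θ k) ∈ Subgroup.normalizer (P' : Set Ω) :=
      (map_mem_normalizer hf.iso.1 hP'M
        ((Set.image_congr hfe).trans (autFun_image _)) hkM hN1.2).2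
    obtain ⟨x, hx, hxe⟩ := hpos.tnorm _ (show (θ k)⁻¹ * f (θ k) ∈ normalizerIn T P' from
      ⟨hf.mod _ hkM, Subgroup.mul_mem _ (Subgroup.inv_mem _ hN1.2) hN2⟩)
    have hxS : x ∈ normalizerIn S P := ⟨n.tS hx.1, hx.2⟩
    have hkx : k * x ∈ normalizerIn S P := Subgroup.mul_mem _ hkN hxS
    have hθkx : θ (k * x) = f (θ k) := by
      rw [hpos.map.map_mul hkN hxS, hxe, mul_inv_cancel_left]
    rw [← hθkx]
    refine hK'.mem (mem_pre.mpr ⟨hkx, ?_⟩)
    have e : ψ (conjAutHom S P ⟨k * x, hkx⟩) = ψ (a * conjAutHom S P ⟨k, hkN⟩ * a⁻¹) := by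
      rw [map_mul, map_mul, map_inv, hψ, hpos.congr_conj hkx, hpos.congr_conj hkN, ← hψ]
      refine MulEquiv.ext fun y => Subtype.ext ?_
      obtain ⟨z, rfl⟩ := (ψ a).surjective y
      rw [MulAut.mul_apply, MulAut.mul_apply, MulAut.inv_apply_self, conjAutHom_apply,
        ← autFun_coe (ψ a) z, ← autFun_coe (ψ a) (conjAutHom S P' ⟨θ k, hN1⟩ z), conjAutHom_apply]
      have hz : θ k * (z : Ω) * (θ k)⁻¹ ∈ P' := conj_mem_of_mem_normalizer hN1.2 z.2
      show θ (k * x) * autFun (ψ a) z * (θ (k * x))⁻¹ = autFun (ψ a) (θ k * z * (θ k)⁻¹)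
      rw [hθkx, ← hfe hz, ← hfe z.2, hf.iso.1.map_conj hkM (hP'M z.2)]
    rw [ψ.injective e]
    exact hinv _ hkV
  obtain ⟨θk, hθk, hθkl, -⟩ := hK'.exists_inv
  have hPK : P ≤ K := le_pre hPS hI
  have hP'K' : P' ≤ K' := fun y hy => by
    obtain ⟨x, hx, rfl⟩ := hpos.iso.exists_preimage hy
    exact hK'.mem (hPK hx)
  have hct' : CT F T (K' ⊓ T) := (hct.of_isConj n.closed (isIso_inf n.closed hpos.iso).isConj).mono
    n.closed (inf_le_inf_right _ hP'K') inf_le_right
  have hfK := hf.restrict hK'M hst hct'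
  obtain ⟨θki, hθki, hkil, hkir⟩ := hθk.exists_inv
  have h2 : MCo F E p K (θk ∘ f ∘ θki) := hfK.transport n hθk hθki fun y hy => hkil y hy
  refine ⟨_, (h2.isIso_pSys n).1, fun x hx => ?_⟩
  have hxK := hPK hx
  simp only [Function.comp_apply]
  have e1 : θki x = θ x := by
    have := hkil _ (hK'.mem hxK)
    rwa [hθkl x hxK] at this
  have hθx : θ x ∈ P' := hpos.iso.mem hx
  have h3 := congr_autFun hpos.iso hl a hθx
  simp only [Function.comp_apply, hl x hx] at h3
  rw [e1, hfe hθx, ← h3, hθkl _ (hPK (autFun_mem_self a hx))]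

end Cfsg.Agent.Fusion.Prod
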