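import Cfsg.Agent.Lib.Fusion.Prod.Normalizer
import Cfsg.Agent.Lib.Fusion.Inter.Fitting
import Cfsg.Agent.Lib.Fusion.Comp.Commute
import Cfsg.Agent.Lib.Fusion.FittingCentralizer
import Cfsg.Agent.Fusion92.CentE.Normal
import Cfsg.Agent.Fus19.Quasi

/-!
# Components of the normalizer of a fully normalized subgroup

Every component of `N_F(X)` lives inside the group of the layer of `F`.
-/

set_option autoImplicit false
set_option linter.style.haveILetI false

namespace Cfsg.Agent.Fusion.Prod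

open Cfsg Cfsg.Agent.Fusion Cfsg.Agent.Fusion.NormalLift Cfsg.Agent.Fusion.Inter Cfsg.Agent.Fusion.Comp
open Cfsg.FusionSystem (normalizerIn centralizerIn)

variable {Ω : Type*} [Group Ω] {S T : Subgroup Ω} {F : FusionSystem S} {E : FusionSystem T} {p : ℕ}

/-- The group of every component of a normalizer system lies in the group of the layer. -/
def Bal (F : FusionSystem S) (p : ℕ) : Prop :=
  ∀ (X : Subgroup Ω) (hX : F.IsFullyNormalized X) (V : Subgroup Ω) (C : FusionSystem V),
    C.IsComponentIn (normalizerSystem F X hX.1) p →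
      ∀ (T : Subgroup Ω) (E : FusionSystem T), E.IsLayerOf F p → V ≤ T

variable [Finite S] [Fact p.Prime]

/-- An automorphism of order prime to `p` of a `p`-group fixing a subgroup that contains its
centralizer is trivial. -/
theorem fix_of_cop (hS : IsPGroup p S) {M : Subgroup Ω} {f : Ω → Ω} (hf : IsIso F M M f)
    (hc : Cop p M f) : ∀ {V : Subgroup Ω}, V ≤ M → (∀ x ∈ V, f x = x) → centralizerIn M V ≤ V →
      ∀ x ∈ M, f x = x := by
  have hM := hf.dom_le
  haveI := finite_of_le hM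
  suffices H : ∀ k, ∀ V : Subgroup Ω, V ≤ M → Nat.card M - Nat.card V = k → (∀ x ∈ V, f x = x) →
      centralizerIn M V ≤ V → ∀ x ∈ M, f x = x from fun {V} hV => H _ V hV rfl
  intro k
  induction k using Nat.strong_induction_on with
  | _ k ih =>
  intro V hV hk hfix hC
  rcases hV.eq_or_lt with rfl | hlt
  · exact hfix
  set W := normalizerIn M V with hW
  have hWM : W ≤ M := Fusion.normalizerIn_le M V
  have hVW : V ≤ W := le_normalizerIn hV
  have hst : ∀ x ∈ W, f x ∈ W := fun x hx => ⟨hf.mem hx.1,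
    (map_mem_normalizer hf.1 hV ((Set.image_congr hfix).trans (Set.image_id' _)) hx.1 hx.2).2⟩
  have hWS : W ≤ S := hWM.trans hM
  haveI := finite_of_le hWS
  haveI := finite_mulAut W
  obtain ⟨β, hβ, hβe⟩ := (isIso_of_mapsTo (hf.1.mono hWM) hWS hst le_rfl).exists_aut
  have hmem : β ∈ fixMod W V := by
    refine ⟨fun x hx => Subtype.ext ?_, fun x => hC ⟨hWM (x⁻¹ * β x).2, ?_⟩⟩
    · rw [← autFun_coe, hβe x.2, hfix _ hx]
    · rw [Subgroup.coe_mul, Subgroup.coe_inv, ← autFun_coe, hβe x.2]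
      refine (inv_mul_mem_centralizerIn (hst x x.2).1 (hWM x.2) fun v hv => ?_).2
      conv_rhs => rw [← hfix ((x : Ω) * v * (x : Ω)⁻¹) (conj_mem_of_mem_normalizer x.2.2 hv),
        hf.1.map_conj (hWM x.2) (hV hv), hfix v hv]
  have hco : (orderOf β).Coprime p := by
    obtain ⟨m, hm, hme⟩ := hc
    exact orderOf_coprime_of_cop (f := f) ⟨m, hm, fun x hx => hme x (hWM hx)⟩ hβe
  obtain ⟨j, hj⟩ := fixMod_isPGroup (Z := V) (hS.to_le hWS) ⟨β, hmem⟩
  have hd := orderOf_dvd_of_pow_eq_one (show β ^ p ^ j = 1 from congrArg Subtype.val hj)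
  have h1 : orderOf β = 1 := (Nat.Coprime.pow_right j hco).eq_one_of_dvd hd
  have hβ1 : β = 1 := orderOf_eq_one_iff.mp h1
  refine ih _ ?_ W hWM rfl (fun x hx => ?_) ?_
  · have hlt' := card_lt_of_lt hWS (lt_normalizerIn (hS.to_le hM) hlt)
    have := Subgroup.card_le_of_le hWM
    omega
  · rw [← hβe hx, hβ1, autFun_one hx, id_eq]
  · exact ((inf_le_inf_left M (Subgroup.centralizer_le hVW)).trans hC).trans hVW

omit [Finite S] in
/-- The hyperfocal subgroup of a system of maps fixing `W` lies in that of the centralizer system. -/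
theorem hyperfocal_le_centralizer {W V : Subgroup Ω} (hW : W ≤ S) {C : FusionSystem V}
    (hVC : ∀ t ∈ V, t ∈ centralizerIn S W) (hsub : C.IsSubsystemOf F)
    (hfix : ∀ P f, IsMap C P f → ExtendsFix F W P f) :
    C.hyperfocalSubgroup p ≤ (centralizerSystem F W hW).hyperfocalSubgroup p := by
  refine PPow.hyperfocal_mono hVC fun P => hom_subset_of_isMap fun f hf => ?_
  exact (IsCentralizerSystem.isMap_iff (isCentralizerSystem_centralizerSystem W hW)).mpr
    ⟨hf.of_isSubsystemOf hsub, hf.dom_le.trans hVC, fun x hx => hVC _ (hf.apply_mem hx), hfix P f hf⟩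

/-- What centralizes the layer and the core lies in the core. -/
theorem cE_le_core (hS : IsPGroup p S) (hF : F.IsSaturated p) (hE : E.IsLayerOf F p) {y : Ω}
    (hy : y ∈ cE F E) (hyQ : y ∈ Subgroup.centralizer (F.core : Set Ω)) : y ∈ F.core := by
  have n : NData F E p := ⟨hS, hF, hE.1⟩
  have hcS : cE F E ≤ S := cE_le.trans (centralizerIn_le S T)
  haveI := finite_of_le (centralizerIn_le S T)
  haveI := finite_of_le hcS
  obtain ⟨C, hCs, hCi⟩ := PPow.exists_pPowerIndex _ _ (centralizerSystem F T n.tS) inferInstance rfl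
    (hS.to_le (centralizerIn_le S T))
    (centralizerSystem_isSaturated hS hF (n.centralized n.t_fullyNormalized)) _
    cE_le (Fusion92.CentE.hyperfocal_le_cE n)
  have hC : C.IsNormalIn F p :=
    Fusion92.CentE.isNormalIn (hTS := n.tS) ⟨n, cE_le, n.cE_closed, hCs, hCi⟩
  have hcon : C.IsConstrained p := by
    by_contra hnc
    obtain ⟨V, K, hK⟩ := exists_component (hS.to_le hcS) hCs hnc
    have hVT : V ≤ T := le_of_component_sub (hE.2.1 V K ⟨.step hK.1 hC, hK.2⟩)
    have hVc : V ≤ cE F E := Fusion91.le_of_subnormal hK.1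
    exact component_not_comm (hS.to_le hcS) hK fun a ha b hb =>
      (Subgroup.mem_centralizer_iff.1 (cE_le (hVc ha)).2 b (hVT hb)).symm
  obtain ⟨-, Q₀, hQ₀, hQ₀c⟩ := hcon
  have hRF : C.core ≤ F.core :=
    le_sSup (core_normal_of_invariant hS hF hC.1.2.2 (Fusion91.isNormal_core C))
  exact hRF ((le_sSup hQ₀ : Q₀ ≤ C.core) (centralizer_le_of_centric hQ₀c
    ⟨hy, Subgroup.mem_centralizer_iff.2 fun q hq =>
      Subgroup.mem_centralizer_iff.1 hyQ q (hRF ((le_sSup hQ₀ : Q₀ ≤ C.core) hq))⟩))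

omit [Finite S] [Fact p.Prime] in
/-- A map of the normalizer system, as a map of `F`. -/
theorem sub_normalizerSystem {X : Subgroup Ω} (hX : X ≤ S) {V : Subgroup Ω} {C : FusionSystem V}
    (hC : C.IsSubsystemOf (normalizerSystem F X hX)) : C.IsSubsystemOf F := fun P =>
  hom_subset_of_isMap fun _ hf => (isMap_normalizerSystem.mp (hf.of_isSubsystemOf hC)).1

set_option maxHeartbeats 1000000 in
/-- The case in which `T` normalizes `X`. -/
theorem bal_normalizes (hS : IsPGroup p S) (hF : F.IsSaturated p) {X : Subgroup Ω}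
    (hX : F.IsFullyNormalized X) (hE : E.IsLayerOf F p) (hTX : T ≤ Subgroup.normalizer (X : Set Ω))
    {V : Subgroup Ω} {C : FusionSystem V} (hC : C.IsComponentIn (normalizerSystem F X hX.1) p) :
    V ≤ T := by
  obtain ⟨n, -, hTQ⟩ := layer_data hS hF hE
  have hXS := hX.1
  set N := normalizerSystem F X hXS with hN
  haveI := finite_of_le (Fusion.normalizerIn_le S X)
  have hNp := hS.to_le (Fusion.normalizerIn_le S X)
  have hNsat : N.IsSaturated p := normalizerSystem_isSaturated hS hF hX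
  obtain ⟨D, hD, -⟩ := exists_normalizer_normal n hX
  have hTW : T ≤ normalizerIn T X := le_inf le_rfl hTX
  rcases component_dichotomy hC.1 inferInstance hNp hC.2 hD with h | h
  swap
  · exact h.1.trans (Fusion.normalizerIn_le T X)
  exfalso
  obtain ⟨hVW, hfixW⟩ := component_fix hC.1 hC.2 inferInstance hNp hNsat _ hD.1.2.2.2.1 h
  have hVN : V ≤ normalizerIn S X := Fusion91.le_of_subnormal hC.1
  have hCN : C.IsSubsystemOf N := Fus19.subnormal_sub hC.1
  have hCF : C.IsSubsystemOf F := sub_normalizerSystem hXS hCN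
  have hVS : V ≤ S := hVN.trans (Fusion.normalizerIn_le S X)
  haveI := finite_of_le hVS
  have hhyp : C.hyperfocalSubgroup p = V := hC.2.2.1
  have hVc : V ≤ cE F E := by
    refine le_trans (le_of_eq hhyp.symm) ((hyperfocal_le_centralizer n.tS
      (fun t ht => ⟨hVS ht, Subgroup.centralizer_le hTW (hVW t ht)⟩) hCF fun P f hf => ?_).trans
      (Fusion92.CentE.hyperfocal_le_cE n))
    obtain ⟨g, hg, hge, hgf⟩ := hfixW P f hf
    exact ⟨g, (isMap_normalizerSystem.mp hg).1.mono (sup_le_sup_left hTW P), hge,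
      fun x hx => hgf x (hTW hx)⟩
  -- the core
  set Q := F.core with hQ
  have hQn : F.IsNormal Q := Fusion91.isNormal_core F
  have hQS := hQn.1
  have hSQ : S ≤ Subgroup.normalizer (Q : Set Ω) := stronglyClosed_le_normalizer (stronglyClosed_of_normal hQn)
  set U := X ⊔ normalizerIn Q X with hU
  have hUN : U ≤ normalizerIn S X := sup_le (le_normalizerIn hXS) (inf_le_inf_right _ hQS)
  have hUn : N.IsNormal U := by
    refine isNormal_iff.mpr ⟨hUN, fun P f hf => ?_⟩
    obtain ⟨-, hP, -, f₁, hf₁, hf₁e, hf₁X⟩ := isMap_normalizerSystem.mp hf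
    obtain ⟨f₂, hf₂, hf₂e, hf₂Q⟩ := (isNormal_iff.mp hQn).2 _ f₁ hf₁
    have hPU : P ⊔ U ≤ P ⊔ X ⊔ Q := sup_le (le_sup_left.trans le_sup_left)
      (sup_le (le_sup_right.trans le_sup_left) ((Fusion.normalizerIn_le Q X).trans le_sup_right))
    have hX2 : f₂ '' (X : Set Ω) = (X : Set Ω) :=
      (Set.image_congr fun x hx => hf₂e (Subgroup.mem_sup_right hx : x ∈ P ⊔ X)).trans hf₁X
    have hUm : ∀ x ∈ U, f₂ x ∈ U := isMap_mem_sup hf₂ (le_sup_right.trans le_sup_left)
      ((Fusion.normalizerIn_le Q X).trans le_sup_right)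
      (fun x hx => Subgroup.mem_sup_left (show f₂ x ∈ (X : Set Ω) from hX2 ▸ ⟨x, hx, rfl⟩))
      fun x hx => Subgroup.mem_sup_right ⟨show f₂ x ∈ (Q : Set Ω) from hf₂Q ▸ ⟨x, hx.1, rfl⟩,
        (map_mem_normalizer hf₂ (le_sup_right.trans le_sup_left) hX2 (Subgroup.mem_sup_right hx.1) hx.2).2⟩
    refine ⟨f₂, ?_, fun x hx => (hf₂e (Subgroup.mem_sup_left hx)).trans (hf₁e hx),
      (isIso_of_mapsTo (hf₂.mono (le_sup_right.trans hPU)) (hUN.trans (Fusion.normalizerIn_le S X))
        hUm le_rfl).2⟩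
    exact isMap_normalizerSystem_of_le hXS (hf₂.mono hPU) ((le_sup_left : X ≤ U).trans le_sup_right)
      (sup_le hP hUN) hX2
  obtain ⟨-, hfixU⟩ := Fusion92.Layer.component_fix hC.1 hC.2 inferInstance hNp hNsat U hUn
  -- components centralize the core
  have hcop : ∀ P : Subgroup Ω, P ≤ V → ∀ a : C.autGroup P, (orderOf a).Coprime p →
      ∀ x ∈ P, x⁻¹ * autFun (a : MulAut P) x ∈ centralizerIn S Q := by
    intro P hP a ha
    haveI := finite_of_le (hP.trans hVS)
    have hPS : P ≤ S := hP.trans hVS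
    obtain ⟨g, hg, hge, hgU⟩ := hfixU P _ ((mem_autGroup hP).mp a.2).1
    have hgF := (isMap_normalizerSystem.mp hg).1
    obtain ⟨g₂, hg₂, hg₂e, hg₂Q⟩ := (isNormal_iff.mp hQn).2 _ g hgF
    have hg₂P : Set.EqOn g₂ (autFun (a : MulAut P)) P := fun x hx =>
      (hg₂e (Subgroup.mem_sup_left hx)).trans (hge hx)
    have hg₂U : ∀ x ∈ U, g₂ x = x := fun x hx =>
      (hg₂e (Subgroup.mem_sup_right hx)).trans (hgU x hx)
    have hDS : P ⊔ U ⊔ Q ≤ S := sup_le (sup_le hPS (hUN.trans (Fusion.normalizerIn_le S X))) hQS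
    haveI := finite_of_le hDS
    haveI := finite_mulAut ↥(P ⊔ U ⊔ Q)
    have hst : ∀ v ∈ P ⊔ U ⊔ Q, g₂ v ∈ P ⊔ U ⊔ Q := isMap_mem_sup hg₂ le_sup_left le_sup_right
      (isMap_mem_sup hg₂ (le_sup_left.trans le_sup_left) (le_sup_right.trans le_sup_left)
        (fun x hx => Subgroup.mem_sup_left (Subgroup.mem_sup_left (hg₂P hx ▸ autFun_mem_self _ hx)))
        fun x hx => Subgroup.mem_sup_left (Subgroup.mem_sup_right ((hg₂U x hx).symm ▸ hx)))
      fun x hx => Subgroup.mem_sup_right (show g₂ x ∈ (Q : Set Ω) from hg₂Q ▸ ⟨x, hx, rfl⟩)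
    obtain ⟨β, hβ, hβe⟩ := (isIso_of_mapsTo hg₂ hDS hst le_rfl).exists_aut
    obtain ⟨m, hm, hme⟩ := exists_pow_coprime (p := p) β (a : MulAut P) (by rwa [Subgroup.orderOf_coe])
    set h := autFun (β ^ m) with hh
    have hPD : P ≤ P ⊔ U ⊔ Q := le_sup_left.trans le_sup_left
    have hhP : Set.EqOn h (autFun (a : MulAut P)) P := fun x hx => by
      rw [hh, pow_eqOn hPD (fun y hy => (hβe (hPD hy)).trans (hg₂P hy)) m hx, hme]
    have hpow : ∀ k : ℕ, (∀ x ∈ U, autFun (β ^ k) x = x) ∧ ∀ x ∈ Q, autFun (β ^ k) x ∈ Q := by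
      intro k
      induction k with
      | zero =>
        exact ⟨fun x hx => by rw [pow_zero, autFun_one (Subgroup.mem_sup_left (Subgroup.mem_sup_right hx)
            : x ∈ P ⊔ U ⊔ Q), id_eq],
          fun x hx => by rw [pow_zero, autFun_one (Subgroup.mem_sup_right hx : x ∈ P ⊔ U ⊔ Q), id_eq]; exact hx⟩
      | succ k ih =>
        refine ⟨fun x hx => ?_, fun x hx => ?_⟩
        · have hxD : x ∈ P ⊔ U ⊔ Q := Subgroup.mem_sup_left (Subgroup.mem_sup_right hx)
          rw [pow_succ', autFun_mul _ _ hxD, Function.comp_apply, ih.1 x hx, hβe hxD, hg₂U x hx]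
        · have hxD : x ∈ P ⊔ U ⊔ Q := Subgroup.mem_sup_right hx
          rw [pow_succ', autFun_mul _ _ hxD, Function.comp_apply, hβe (autFun_mem_self _ hxD)]
          exact show g₂ _ ∈ (Q : Set Ω) from hg₂Q ▸ ⟨_, ih.2 x hx, rfl⟩
    set M := X ⊔ Q with hMdef
    have hMD : M ≤ P ⊔ U ⊔ Q := sup_le (((le_sup_left : X ≤ U).trans le_sup_right).trans le_sup_left) le_sup_right
    have hhi := (mem_autGroup hDS).mp (Subgroup.pow_mem _ hβ m)
    have hMi : IsIso F M M h := isIso_of_mapsTo (hhi.1.mono hMD) (sup_le hXS hQS)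
      (isMap_mem_sup (hhi.1.mono hMD) le_sup_left le_sup_right
        (fun x hx => Subgroup.mem_sup_left (show autFun (β ^ m) x ∈ X by
          rw [(hpow m).1 x (Subgroup.mem_sup_left hx)]; exact hx))
        fun x hx => Subgroup.mem_sup_right ((hpow m).2 x hx)) le_rfl
    obtain ⟨m', hm', hm'e⟩ := cop_of_pow (p := p) hm (le_refl (P ⊔ U ⊔ Q))
    have hall := fix_of_cop hS hMi ⟨m', hm', fun x hx => hm'e x (hMD hx)⟩
      (sup_le le_sup_left ((Fusion.normalizerIn_le Q X).trans le_sup_right) : U ≤ M) (hpow m).1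
      fun c hc => by
        have hcN : c ∈ Subgroup.normalizer (X : Set Ω) :=
          Subgroup.centralizer_le_normalizer _ (Subgroup.centralizer_le (le_sup_left : X ≤ U) hc.2)
        have hc1 : c ∈ ((X ⊔ Q : Subgroup Ω) : Set Ω) := hc.1
        rw [Subgroup.coe_mul_of_left_le_normalizer_right X Q (hXS.trans hSQ)] at hc1
        obtain ⟨u, hu, q, hq, rfl⟩ := hc1
        refine U.mul_mem (Subgroup.mem_sup_left hu) (Subgroup.mem_sup_right ⟨hq, ?_⟩)
        have := Subgroup.mul_mem _ (Subgroup.inv_mem _ (Subgroup.le_normalizer hu)) hcN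
        rwa [inv_mul_cancel_left] at this
    intro x hx
    have hax := autFun_mem_self (a : MulAut P) hx
    refine inv_mul_mem_centralizerIn (hPS hax) (hPS hx) fun q hq => ?_
    have hxq : x * q * x⁻¹ ∈ Q := conj_mem_of_mem_normalizer (hSQ (hPS hx)) hq
    conv_rhs => rw [← hall (x * q * x⁻¹) (Subgroup.mem_sup_right hxq), hh,
      hhi.1.map_conj (hPD hx) (Subgroup.mem_sup_right hq), ← hh, hhP hx, hall q (Subgroup.mem_sup_right hq)]
  have hVQ : V ≤ centralizerIn S Q := by
    refine le_trans (le_of_eq hhyp.symm) ((Subgroup.closure_le _).mpr ?_)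
    rintro _ ⟨P, α, x, hP, hα, rfl⟩
    let H : Subgroup (C.autGroup P) :=
      { carrier := {a | ∀ y ∈ P, y⁻¹ * autFun (a : MulAut P) y ∈ centralizerIn S Q}
        one_mem' := fun y hy => by rw [Subgroup.coe_one, autFun_one hy]; simp
        mul_mem' := fun {a b} ha hb y hy => by
          rw [Subgroup.coe_mul, autFun_mul _ _ hy, Function.comp_apply]
          have := (centralizerIn S Q).mul_mem (hb y hy) (ha _ (autFun_mem_self (b : MulAut P) hy))
          simpa [mul_assoc] using this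
        inv_mem' := fun {a} ha y hy => by
          obtain ⟨z, hz, rfl⟩ := ((mem_autGroup hP).mp a.2).exists_preimage hy
          rw [Subgroup.coe_inv, PrimeIndex.autFun_inv_apply _ hz]
          simpa using (centralizerIn S Q).inv_mem (ha z hz) }
    have := (Subgroup.closure_le H).mpr (fun a ha => hcop P hP a ha) hα x x.2
    rwa [autFun_coe] at this
  exact component_not_comm hNp hC fun a ha b hb =>
    Subgroup.mem_centralizer_iff.mp (hVQ hb).2 a (cE_le_core hS hF hE (hVc ha) (hVQ ha).2)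

omit [Finite S] [Fact p.Prime] in
/-- Transport of maps between normalizer systems. -/
theorem push_normalizer {X X' : Subgroup Ω} (hX : X ≤ S) (hX' : X' ≤ S) {θ θi : Ω → Ω}
    (hθ : IsIso F (normalizerIn S X) (normalizerIn S X') θ)
    (hθi : IsIso F (normalizerIn S X') (normalizerIn S X) θi)
    (hl : ∀ x ∈ normalizerIn S X, θi (θ x) = x) (hXX : IsIso F X X' θ)
    {P P' : Subgroup Ω} {f : Ω → Ω} (hf : IsMap (normalizerSystem F X hX) P f)
    (hP' : (P' : Set Ω) = θ '' (P : Set Ω)) :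
    IsMap (normalizerSystem F X' hX') P' (θ ∘ f ∘ θi) := by
  obtain ⟨hfF, hP, hfN, f₁, hf₁, hf₁e, hf₁X⟩ := isMap_normalizerSystem.mp hf
  have hXN : X ≤ normalizerIn S X := le_normalizerIn hX
  have hP'N : P' ≤ normalizerIn S X' := fun y hy => by
    obtain ⟨x, hx, rfl⟩ : y ∈ θ '' (P : Set Ω) := hP' ▸ hy
    exact hθ.mem (hP hx)
  have hback : ∀ y ∈ P', θi y ∈ P := fun y hy => by
    obtain ⟨x, hx, rfl⟩ : y ∈ θ '' (P : Set Ω) := hP' ▸ hy
    rwa [hl x (hP hx)]
  have hM : P' ⊔ X' ≤ normalizerIn S X' := sup_le hP'N (le_normalizerIn hX')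
  have hX'i : ∀ y ∈ X', θi y ∈ X := fun y hy => by
    obtain ⟨x, hx, rfl⟩ := hXX.exists_preimage hy
    rwa [hl x (hXN hx)]
  have hbackM : ∀ y ∈ P' ⊔ X', θi y ∈ P ⊔ X := isMap_mem_sup (hθi.1.mono hM) le_sup_left le_sup_right
    (fun y hy => Subgroup.mem_sup_left (hback y hy)) fun y hy => Subgroup.mem_sup_right (hX'i y hy)
  have hf₁N : ∀ y ∈ P ⊔ X, f₁ y ∈ normalizerIn S X := isMap_mem_sup hf₁ le_sup_left le_sup_right
    (fun y hy => hf₁e hy ▸ hfN y hy) fun y hy => hXN (show f₁ y ∈ (X : Set Ω) from hf₁X ▸ ⟨y, hy, rfl⟩)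
  have hbig : IsMap F (P' ⊔ X') (θ ∘ f₁ ∘ θi) :=
    ((hθi.1.mono hM).comp hf₁ hbackM).comp hθ.1 fun y hy => hf₁N _ (hbackM y hy)
  have he : Set.EqOn (θ ∘ f₁ ∘ θi) (θ ∘ f ∘ θi) P' := fun y hy => by
    simp only [Function.comp_apply, hf₁e (hback y hy)]
  refine isMap_normalizerSystem.mpr ⟨(hbig.mono le_sup_left).congr he, hP'N,
    fun y hy => hθ.mem (hfN _ (hback y hy)), θ ∘ f₁ ∘ θi, hbig, he, ?_⟩
  have hiX : θi '' (X' : Set Ω) = (X : Set Ω) := by
    rw [← hXX.2, ← Set.image_comp]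
    exact (Set.image_congr fun x hx => hl x (hXN hx)).trans (Set.image_id' _)
  rw [Set.image_comp, Set.image_comp, hiX, hf₁X, hXX.2]

set_option maxHeartbeats 1000000 in
/-- The main case, `X ⊔ N_T(X)` being fully normalized. -/
theorem bal_big (hS : IsPGroup p S) (hF : F.IsSaturated p) {X : Subgroup Ω}
    (hX : F.IsFullyNormalized X) (hE : E.IsLayerOf F p)
    (hX2 : F.IsFullyNormalized (X ⊔ normalizerIn T X))
    (hsmall : Bal (normalizerSystem F (X ⊔ normalizerIn T X) hX2.1) p)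
    (hbig : ∀ (V : Subgroup Ω) (C : FusionSystem V),
      C.IsComponentIn (normalizerSystem F (X ⊔ normalizerIn T X) hX2.1) p → V ≤ T)
    {V : Subgroup Ω} {C : FusionSystem V} (hC : C.IsComponentIn (normalizerSystem F X hX.1) p) :
    V ≤ T := by
  obtain ⟨n, -, -⟩ := layer_data hS hF hE
  have hXS := hX.1
  set W := normalizerIn T X with hW
  set X₂ := X ⊔ W with hX₂
  set N := normalizerSystem F X hXS with hN
  set N₂ := normalizerSystem F X₂ hX2.1 with hN₂
  have hWS : W ≤ S := (Fusion.normalizerIn_le T X).trans n.tS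
  have hWN : W ≤ normalizerIn S X := inf_le_inf_right _ n.tS
  haveI := finite_of_le (Fusion.normalizerIn_le S X)
  haveI := finite_of_le (Fusion.normalizerIn_le S X₂)
  haveI := finite_of_le ((Fusion.normalizerIn_le (normalizerIn S X₂) X).trans (Fusion.normalizerIn_le S X₂))
  have hNp := hS.to_le (Fusion.normalizerIn_le S X)
  have hN₂p := hS.to_le (Fusion.normalizerIn_le S X₂)
  have hNsat : N.IsSaturated p := normalizerSystem_isSaturated hS hF hX
  have hN₂sat : N₂.IsSaturated p := normalizerSystem_isSaturated hS hF hX2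
  obtain ⟨D, hD, -⟩ := exists_normalizer_normal n hX
  rcases component_dichotomy hC.1 inferInstance hNp hC.2 hD with h | h
  swap
  · exact h.1.trans (Fusion.normalizerIn_le T X)
  obtain ⟨hVW, hfixW⟩ := component_fix hC.1 hC.2 inferInstance hNp hNsat _ hD.1.2.2.2.1 h
  -- the centralizer of `N_T(X)` in `N`
  have nD : NData N D p := ⟨hNp, hNsat, hD⟩
  haveI := finite_of_le ((centralizerIn_le (normalizerIn S X) W).trans (Fusion.normalizerIn_le S X))
  set R := cE N D with hR
  obtain ⟨CV, hCVs, hCVi⟩ := PPow.exists_pPowerIndex _ _ (centralizerSystem N W nD.tS) inferInstance rfl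
    (hNp.to_le (centralizerIn_le _ _))
    (centralizerSystem_isSaturated hNp hNsat (nD.centralized nD.t_fullyNormalized)) _
    cE_le (Fusion92.CentE.hyperfocal_le_cE nD)
  have hCV : CV.IsNormalIn N p :=
    Fusion92.CentE.isNormalIn (hTS := nD.tS) ⟨nD, cE_le, nD.cE_closed, hCVs, hCVi⟩
  have hVR : V ≤ R := by
    refine le_trans (le_of_eq hC.2.2.1.symm) ((hyperfocal_le_centralizer nD.tS
      (fun t ht => ⟨Fusion91.le_of_subnormal hC.1 ht, hVW t ht⟩) (Fus19.subnormal_sub hC.1)
      hfixW).trans (Fusion92.CentE.hyperfocal_le_cE nD))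
  have hCsub := component_sub_of_le hNp hC hCV hVR
  have hCsn := subnormal_in_normal hC.1 hC.2 inferInstance hNp CV hCV hVR
  -- `X` in the normalizer of `X ⊔ N_T(X)`
  have hNX : normalizerIn S X ≤ normalizerIn S X₂ := fun g hg => by
    haveI := finite_of_le hX2.1
    refine ⟨hg.1, Subgroup.mem_normalizer_fintype fun x hx => ?_⟩
    exact isMap_mem_sup (isMap_conj (F := F) hX2.1 hg.1) le_sup_left le_sup_right
      (fun y hy => Subgroup.mem_sup_left (conj_mem_of_mem_normalizer hg.2 hy))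
      (fun y hy => Subgroup.mem_sup_right (show g * y * g⁻¹ ∈ W from ⟨n.conj_t hg.1 hy.1,
        Subgroup.mul_mem _ (Subgroup.mul_mem _ hg.2 hy.2) (Subgroup.inv_mem _ hg.2)⟩)) x hx
  have hXN₂ : X ≤ normalizerIn S X₂ := (le_normalizerIn hXS).trans hNX
  have hBle : normalizerIn S X ≤ normalizerIn (normalizerIn S X₂) X := fun g hg => ⟨hNX hg, hg.2⟩
  have hBge : normalizerIn (normalizerIn S X₂) X ≤ normalizerIn S X := fun g hg => ⟨hg.1.1, hg.2⟩
  have hXn₂ : N₂.IsFullyNormalized X := by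
    refine ⟨hXN₂, fun Q hQ => ?_⟩
    obtain ⟨f, hf⟩ := isConj_iff.mp hQ
    have hfF : IsIso F X Q f := ⟨(isMap_normalizerSystem.mp hf.1).1, hf.2⟩
    haveI := finite_of_le ((Fusion.normalizerIn_le (normalizerIn S X₂) X).trans (Fusion.normalizerIn_le S X₂))
    haveI := finite_of_le (Fusion.normalizerIn_le S Q)
    refine le_trans ?_ ((hX.2 Q hfF.isConj).trans (Subgroup.card_le_of_le hBle))
    exact Subgroup.card_le_of_le (fun g hg => ⟨hg.1.1, hg.2⟩)
  set N₂X := normalizerSystem N₂ X hXn₂.1 with hN₂X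
  have hN₂Xsat : N₂X.IsSaturated p := normalizerSystem_isSaturated hN₂p hN₂sat hXn₂
  have hN₂XN : ∀ {P : Subgroup Ω} {f : Ω → Ω}, IsMap N₂X P f → IsMap N P f := fun {P f} hf => by
    obtain ⟨h1, h2, h3, f', hf', he, him⟩ := isMap_normalizerSystem.mp hf
    exact isMap_normalizerSystem.mpr ⟨(isMap_normalizerSystem.mp h1).1, h2.trans hBge,
      fun x hx => hBge (h3 x hx), f', (isMap_normalizerSystem.mp hf').1, he, him⟩
  -- a map of `F` fixing `X` and `N_T(X)` as sets
  have hlift : ∀ {M : Subgroup Ω} {h : Ω → Ω}, IsMap F M h → X ≤ M → W ≤ M → M ≤ normalizerIn S X →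
      h '' (X : Set Ω) = (X : Set Ω) → (∀ w ∈ W, h w ∈ W) → IsMap N₂X M h := by
    intro M h hh hXM hWM hM hhX hhW
    have hX₂M : X₂ ≤ M := sup_le hXM hWM
    have him : h '' (X₂ : Set Ω) = (X₂ : Set Ω) := (isIso_of_mapsTo (hh.mono hX₂M) hX2.1
      (isMap_mem_sup (hh.mono hX₂M) le_sup_left le_sup_right
        (fun x hx => Subgroup.mem_sup_left (show h x ∈ (X : Set Ω) from hhX ▸ ⟨x, hx, rfl⟩))
        fun x hx => Subgroup.mem_sup_right (hhW x hx)) le_rfl).2
    exact isMap_normalizerSystem_of_le hXn₂.1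
      (isMap_normalizerSystem_of_le hX2.1 hh hX₂M (hM.trans hNX) him) hXM (hM.trans hBle) hhX
  have hCVsub : CV.IsSubsystemOf N₂X := fun P => hom_subset_of_isMap fun f hf => by
    obtain ⟨-, hPC, -, g, hg, hge, hgW⟩ :=
      (IsCentralizerSystem.isMap_iff (isCentralizerSystem_centralizerSystem W nD.tS)).mp
        (hf.of_isSubsystemOf hCVi.1)
    obtain ⟨-, hgd, -, g', hg', hg'e, hg'X⟩ := isMap_normalizerSystem.mp hg
    refine (((hlift hg' le_sup_right (le_sup_right.trans le_sup_left)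
      (sup_le hgd (le_normalizerIn hXS)) hg'X fun w hw => ?_).mono
      (le_sup_left.trans le_sup_left)).congr fun x hx => ?_)
    · rw [hg'e (Subgroup.mem_sup_right hw), hgW w hw]
      exact hw
    · rw [hg'e (Subgroup.mem_sup_left hx), hge hx]
  have nCV : NData N CV p := ⟨hNp, hNsat, hCV⟩
  have hRB : R ≤ normalizerIn (normalizerIn S X₂) X := (nCV.tS).trans hBle
  have hclosed : N₂X.StronglyClosed R := stronglyClosed_iff.mpr ⟨hRB, fun P f hf x hx hxR =>
    Fusion92.closed_apply nCV.closed (hN₂XN hf) hx hxR⟩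
  have hinv : CV.IsInvariantIn N₂X := invariant_of_strongInv
    (hN₂p.to_le (Fusion.normalizerIn_le _ _)) hN₂Xsat hCVsub hclosed
    fun P P' Q φ ψ hPQ hQT hφ hφQ hψ hψP =>
      nCV.strongInv P P' Q φ ψ hPQ hQT hφ hφQ (hN₂XN hψ) ⟨hN₂XN hψP.1, hψP.2⟩
  have hRC : W ≤ centralizerIn (normalizerIn S X) R := fun w hw => ⟨hWN hw,
    Subgroup.mem_centralizer_iff.mpr fun r hr =>
      (Subgroup.mem_centralizer_iff.mp (cE_le hr).2 w hw).symm⟩
  have hCVnorm : CV.IsNormalIn N₂X p := by
    refine Fus93.isNormalIn_of ⟨hCVs, hN₂Xsat, hinv⟩ fun k hk => ?_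
    obtain ⟨g, hg, hgk, hgc⟩ := Fus93.normal_ext hCV hk
    have hM1 : R ⊔ centralizerIn (normalizerIn (normalizerIn S X₂) X) R ≤
        R ⊔ centralizerIn (normalizerIn S X) R := sup_le_sup_left (inf_le_inf_right _ hBge) R
    have hM2 : R ⊔ centralizerIn (normalizerIn S X) R ≤
        R ⊔ centralizerIn (normalizerIn (normalizerIn S X₂) X) R := sup_le_sup_left (inf_le_inf_right _ hBle) R
    set M := R ⊔ centralizerIn (normalizerIn S X) R with hMdef
    have hMN : M ≤ normalizerIn S X := sup_le nCV.tS (centralizerIn_le _ _)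
    obtain ⟨-, -, -, g', hg', hg'e, hg'X⟩ := isMap_normalizerSystem.mp hg.1
    have hWM : W ≤ M := hRC.trans le_sup_right
    have hmap : IsMap N₂X (M ⊔ X) g' := hlift hg' le_sup_right (hWM.trans le_sup_left)
      (sup_le hMN (le_normalizerIn hXS)) hg'X fun w hw => by
        rw [hg'e (hWM hw)]
        exact Fusion92.closed_apply hD.1.2.2.2.1 hg.1 (hWM hw) hw
    have hgi : IsIso N₂X M M g := ⟨(hmap.mono le_sup_left).congr hg'e, hg.2⟩
    refine ⟨g, le_antisymm hM2 hM1 ▸ hgi, hgk, fun c hc => hgc c ⟨hBge hc.1, hc.2⟩⟩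
  have hC2 : C.IsComponentIn N₂X p := ⟨.step hCsn hCVnorm, hC.2⟩
  -- induction
  obtain ⟨T₂, E₂, hE₂⟩ := exists_layer (F := N₂) hN₂p hN₂sat
  have hVT₂ : V ≤ T₂ := hsmall X hXn₂ V C hC2 T₂ E₂ hE₂
  obtain ⟨D₂, hD₂, -⟩ := exists_normalizer_normal n hX2
  have hsub := hE₂.2.2 _ D₂ hD₂ fun U K hK => component_sub_of_le hN₂p hK hD₂
    fun x hx => ⟨hbig U K hK hx, (Fusion91.le_of_subnormal hK.1 hx).2⟩
  exact hVT₂.trans ((le_of_component_sub hsub).trans (Fusion.normalizerIn_le T X₂))

omit [Fact p.Prime] in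
theorem numMaps_lt' {S' : Subgroup Ω} (G : FusionSystem S') (h : S' = S) (hsub : G.IsSubsystemOf F)
    {P : Subgroup Ω} {f : Ω → Ω} (hf : IsMap F P f) (hn : ¬ IsMap G P f) : numMaps G < numMaps F := by
  subst h
  exact numMaps_lt hsub (P := P) fun e => hn (IsMap.of_subset e.ge hf)

set_option maxHeartbeats 1000000 in
/-- Every component of a normalizer system lies in the group of the layer. -/
theorem bal (hS : IsPGroup p S) (hF : F.IsSaturated p) : Bal F p := by
  suffices H : ∀ a b, ∀ (S : Subgroup Ω) (F : FusionSystem S), Finite S → Nat.card S = a → numMaps F = b →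
      IsPGroup p S → F.IsSaturated p → Bal F p from H _ _ S F inferInstance rfl rfl hS hF
  intro a
  induction a using Nat.strong_induction_on with
  | _ a iha =>
  intro b
  induction b using Nat.strong_induction_on with
  | _ b ihb =>
  intro S F _ ha hb hS hF X hX V C hC T E hE
  suffices H : ∀ j X, ∀ hX : F.IsFullyNormalized X, Nat.card S - Nat.card X = j →
      ∀ (V : Subgroup Ω) (C : FusionSystem V), C.IsComponentIn (normalizerSystem F X hX.1) p → V ≤ T from
    H _ X hX rfl V C hC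
  clear hC C V hX X
  intro j
  induction j using Nat.strong_induction_on with
  | _ j ihj =>
  intro X hX hj V C hC
  obtain ⟨n, -, hTQ⟩ := layer_data hS hF hE
  by_cases hTX : T ≤ Subgroup.normalizer (X : Set Ω)
  · exact bal_normalizes hS hF hX hE hTX hC
  have hXS := hX.1
  set W := normalizerIn T X with hW
  have hX₂S : X ⊔ W ≤ S := sup_le hXS ((Fusion.normalizerIn_le T X).trans n.tS)
  have hlt : Nat.card X < Nat.card (X ⊔ W : Subgroup Ω) := by
    refine card_lt_of_lt hX₂S (lt_of_le_of_ne le_sup_left fun e => hTX ?_)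
    have hlt : X < X ⊔ T := lt_of_le_of_ne le_sup_left fun e' =>
      hTX ((le_sup_right.trans e'.ge).trans X.le_normalizer)
    have hXT : X ⊔ T ≤ S := sup_le hXS n.tS
    haveI := finite_of_le hXT
    obtain ⟨d, hd, hdX⟩ := SetLike.exists_of_lt (lt_normalizerIn (hS.to_le hXT) hlt)
    have hd1 : (d : Ω) ∈ ((X ⊔ T : Subgroup Ω) : Set Ω) := hd.1
    rw [Subgroup.coe_mul_of_left_le_normalizer_right X T (hXS.trans n.s_le)] at hd1
    obtain ⟨x, hx, t, ht, rfl⟩ := hd1
    have htN : t ∈ Subgroup.normalizer (X : Set Ω) := by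
      have := Subgroup.mul_mem _ (Subgroup.inv_mem _ (Subgroup.le_normalizer hx)) hd.2
      rwa [inv_mul_cancel_left] at this
    exact absurd (X.mul_mem hx (e.ge (Subgroup.mem_sup_right (show t ∈ W from ⟨ht, htN⟩)))) hdX
  -- move to a fully normalized `X ⊔ N_T(X)`
  obtain ⟨Z, hZ, hZn⟩ := exists_fullyNormalized (F := F) hX₂S
  obtain ⟨θ, hθ, hθZ, -⟩ := exists_normalizer_map hS (fullyAutomized_of_fullyNormalized hS hF hZn)
    (receptive_of_fullyNormalized hS hF hZn) hZ
  have hNX : normalizerIn S X ≤ normalizerIn S (X ⊔ W) := fun g hg => by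
    haveI := finite_of_le hX₂S
    refine ⟨hg.1, Subgroup.mem_normalizer_fintype fun x hx => ?_⟩
    exact isMap_mem_sup (isMap_conj (F := F) hX₂S hg.1) le_sup_left le_sup_right
      (fun y hy => Subgroup.mem_sup_left (conj_mem_of_mem_normalizer hg.2 hy))
      (fun y hy => Subgroup.mem_sup_right (show g * y * g⁻¹ ∈ W from ⟨n.conj_t hg.1 hy.1,
        Subgroup.mul_mem _ (Subgroup.mul_mem _ hg.2 hy.2) (Subgroup.inv_mem _ hg.2)⟩)) x hx
  have hθX := hθ.mono hNX
  have hXN : X ≤ normalizerIn S X := le_normalizerIn hXS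
  obtain ⟨X', hX'⟩ := (hθX.mono hXN).exists_image
  have hmaps : ∀ g ∈ normalizerIn S X, θ g ∈ normalizerIn S X' :=
    fun g hg => map_mem_normalizer hθX hXN hX'.2 hg hg.2
  have hX'n : F.IsFullyNormalized X' := ⟨hX'.cod_le, fun Q hQ => (hX.2 Q (isConj_trans hX'.isConj hQ)).trans
    (card_le_of_injOn (Fusion.normalizerIn_le S X') hθX.injOn hmaps)⟩
  have hθN : IsIso F (normalizerIn S X) (normalizerIn S X') θ := isIso_of_mapsTo hθX
    (Fusion.normalizerIn_le S X') hmaps (hX.2 X' hX'.isConj)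
  obtain ⟨θi, hθi, hl, hr⟩ := hθN.exists_inv
  have hX'N : X' ≤ normalizerIn S X' := le_normalizerIn hX'.cod_le
  have hi : IsIso F X' X θi := ⟨hθi.1.mono hX'N, by
    rw [← hX'.2, ← Set.image_comp]
    exact (Set.image_congr fun x hx => hl x (hXN hx)).trans (Set.image_id' _)⟩
  have hfiso : Fus93.FIso (normalizerSystem F X hX.1) (normalizerSystem F X' hX'n.1) θ θi :=
    { map_mul := fun x hx y hy => hθX.map_mul hx hy
      mem := hmaps
      mem' := fun y hy => hθi.mem hy
      left := hl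
      right := hr
      push := fun P f hf P' hP' => push_normalizer hX.1 hX'n.1 hθN hθi hl hX' hf hP'
      pull := fun P' f hf P hP => push_normalizer hX'n.1 hX.1 hθi hθN hr hi hf hP }
  haveI := finite_of_le (Fusion.normalizerIn_le S X)
  haveI := finite_of_le (Fusion.normalizerIn_le S X')
  have hVN : V ≤ normalizerIn S X := Fusion91.le_of_subnormal hC.1
  have hCN := Fus19.subnormal_sub hC.1
  have hC' := Fus19.component_transport (hS.to_le (Fusion.normalizerIn_le S X))
    (hS.to_le (Fusion.normalizerIn_le S X')) hfiso hC (hfiso.restrictIso C hVN hCN)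
  suffices hV' : Fus93.img θ V ≤ T by
    intro x hx
    have h1 : θ x ∈ T := hV' (hfiso.apply_mem_img hx)
    have := Fusion92.closed_apply n.closed hθi.1 (hmaps x (hVN hx)) h1
    rwa [hl x (hVN hx)] at this
  by_cases hTX' : T ≤ Subgroup.normalizer (X' : Set Ω)
  · exact bal_normalizes hS hF hX'n hE hTX' hC'
  -- `Z` is `X' ⊔ N_T(X')`
  have hX₂N : X ⊔ W ≤ normalizerIn S X := sup_le hXN (inf_le_inf_right _ n.tS)
  have hZeq : X' ⊔ normalizerIn T X' = Z := by
    refine le_antisymm (sup_le ?_ ?_) fun z hz => ?_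
    · intro y hy
      obtain ⟨x, hx, rfl⟩ := hX'.exists_preimage hy
      exact hθZ.mem (Subgroup.mem_sup_left hx)
    · intro y hy
      have hyN : y ∈ normalizerIn S X' := ⟨n.tS hy.1, hy.2⟩
      have hxT := Fusion92.closed_apply n.closed hθi.1 hyN hy.1
      rw [← hr y hyN]
      exact hθZ.mem (Subgroup.mem_sup_right ⟨hxT, (hθi.mem hyN).2⟩)
    · obtain ⟨x, hx, rfl⟩ := hθZ.exists_preimage hz
      exact isMap_mem_sup (hθX.mono hX₂N) le_sup_left le_sup_right
        (fun u hu => Subgroup.mem_sup_left (hX'.mem hu))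
        (fun u hu => Subgroup.mem_sup_right (show θ u ∈ normalizerIn T X' from
          ⟨Fusion92.closed_apply n.closed hθX ⟨n.tS hu.1, hu.2⟩ hu.1,
            (hmaps u ⟨n.tS hu.1, hu.2⟩).2⟩)) x hx
  subst hZeq
  refine bal_big hS hF hX'n hE hZn ?_ (fun U K hK => ?_) hC'
  · haveI := finite_of_le (Fusion.normalizerIn_le S (X' ⊔ normalizerIn T X'))
    have hp2 := hS.to_le (Fusion.normalizerIn_le S (X' ⊔ normalizerIn T X'))
    have hs2 := normalizerSystem_isSaturated hS hF hZn
    by_cases hbase : normalizerIn S (X' ⊔ normalizerIn T X') = S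
    · refine ihb _ ?_ _ (normalizerSystem F _ hZn.1) inferInstance (by rw [hbase, ha]) rfl hp2 hs2
      obtain ⟨P, f, hf, hnf⟩ : ∃ P f, IsMap F P f ∧
          ¬ IsMap (normalizerSystem F (X' ⊔ normalizerIn T X') hZn.1) P f := by
        by_contra hcon
        push Not at hcon
        have hnorm : F.IsNormal (X' ⊔ normalizerIn T X') := isNormal_iff.mpr ⟨hZn.1, fun P f hf =>
          (isMap_normalizerSystem.mp (hcon P f hf)).2.2.2⟩
        have hX'Q : X' ≤ F.core := le_sup_left.trans (Fusion91.le_core hnorm)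
        exact hTX' (hTQ.trans (inf_le_right.trans ((Subgroup.centralizer_le hX'Q).trans
          (Subgroup.centralizer_le_normalizer _))))
      rw [← hb]
      exact numMaps_lt' _ hbase (fun P => hom_subset_of_isMap fun g hg => (isMap_normalizerSystem.mp hg).1)
        hf hnf
    · refine iha _ ?_ _ _ (normalizerSystem F _ hZn.1) inferInstance rfl rfl hp2 hs2
      rw [← ha]
      exact card_lt_of_lt le_rfl (lt_of_le_of_ne (Fusion.normalizerIn_le S _) hbase)
  · refine ihj _ ?_ _ hZn rfl U K hK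
    have h1 := isConj_card hZ
    have h2 := Subgroup.card_le_of_le hX₂S
    omega

/-- Balance of layers. -/
theorem layer_balance (hS : IsPGroup p S) (hF : F.IsSaturated p) {X : Subgroup Ω}
    (hX : F.IsFullyNormalized X) {U : Subgroup Ω} {EN : FusionSystem U}
    (hEN : EN.IsLayerOf (normalizerSystem F X hX.1) p) (hE : E.IsLayerOf F p) :
    EN.IsSubsystemOf E := by
  obtain ⟨n, -, -⟩ := layer_data hS hF hE
  obtain ⟨D, hD, hDE⟩ := exists_normalizer_normal n hX
  haveI := finite_of_le (Fusion.normalizerIn_le S X)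
  have hNp := hS.to_le (Fusion.normalizerIn_le S X)
  have hsub := hEN.2.2 _ D hD fun V C hC => component_sub_of_le hNp hC hD
    fun x hx => ⟨bal hS hF X hX V C hC T E hE hx, (Fusion91.le_of_subnormal hC.1 hx).2⟩
  exact fun P => hom_subset_of_isMap fun f hf => hDE P f (hf.of_isSubsystemOf hsub)

end Cfsg.Agent.Fusion.Prod
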