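import Cfsg.Agent.Lib.Fusion.Inter.Sylow

/-!
# Maps trivial modulo a normal subsystem

For a normal subsystem `E` over `T` the automorphisms of order prime to `p` that are trivial modulo
`T` and lie in `E` on the intersection with `T`, and the maps they generate with the conjugations by
elements of `T`.
-/

set_option autoImplicit false
set_option linter.style.haveILetI false

namespace Cfsg.Agent.Fusion.Prod

open Cfsg Cfsg.Agent.Fusion Cfsg.Agent.Fusion.NormalLift Cfsg.Agent.Fusion.Inter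
open Cfsg.FusionSystem (normalizerIn centralizerIn)

variable {Ω : Type*} [Group Ω] {S T : Subgroup Ω} {F : FusionSystem S} {E : FusionSystem T} {p : ℕ}

/-- All conjugates of `U ≤ T` contain their centralizers in `T`. -/
def CT (F : FusionSystem S) (T U : Subgroup Ω) : Prop :=
  U ≤ T ∧ ∀ Q, F.IsConj U Q → centralizerIn T Q ≤ Q

/-- An isomorphism carries the part in a strongly closed subgroup onto the part in it. -/
theorem isIso_inf (hT : F.StronglyClosed T) {P P' : Subgroup Ω} {f : Ω → Ω} (hf : IsIso F P P' f) :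
    IsIso F (P ⊓ T) (P' ⊓ T) f := by
  refine ⟨hf.1.mono inf_le_left, Set.Subset.antisymm ?_ fun y hy => ?_⟩
  · rintro _ ⟨x, hx, rfl⟩
    exact ⟨hf.mem hx.1, Fusion92.closed_apply hT hf.1 hx.1 hx.2⟩
  · obtain ⟨g, hg, hgl, hgr⟩ := hf.exists_inv
    exact ⟨g y, ⟨hg.mem hy.1, Fusion92.closed_apply hT hg.1 hy.1 hy.2⟩, hgr y hy.1⟩

theorem CT.of_isConj (hT : F.StronglyClosed T) {U U' : Subgroup Ω} (h : CT F T U) (hc : F.IsConj U U') :
    CT F T U' := by
  refine ⟨fun y hy => ?_, fun Q hQ => h.2 Q (isConj_trans hc hQ)⟩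
  obtain ⟨f, hf⟩ := isConj_iff.mp hc
  obtain ⟨x, hx, rfl⟩ := hf.exists_preimage hy
  exact Fusion92.closed_apply hT hf.1 hx (h.1 hx)

theorem CT.mono (hT : F.StronglyClosed T) {U U' : Subgroup Ω} (h : CT F T U) (hle : U ≤ U')
    (hU' : U' ≤ T) : CT F T U' := by
  refine ⟨hU', fun Q hQ => ?_⟩
  obtain ⟨f, hf⟩ := isConj_iff.mp hQ
  obtain ⟨Q₀, hQ₀, hf₀⟩ := hf.restrict hle
  exact le_trans (le_trans (inf_le_inf_left _ (Subgroup.centralizer_le hQ₀)) (h.2 Q₀ hf₀.isConj)) hQ₀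

theorem ct_top [Finite S] (hT : F.StronglyClosed T) : CT F T T := by
  refine ⟨le_rfl, fun Q hQ => ?_⟩
  haveI := finite_of_le hT.1
  obtain ⟨f, hf⟩ := isConj_iff.mp hQ
  have hle : Q ≤ T := fun y hy => by
    obtain ⟨x, hx, rfl⟩ := hf.exists_preimage hy
    exact Fusion92.closed_apply hT hf.1 hx hx
  rw [Subgroup.eq_of_le_of_card_ge hle (isConj_card hQ).le]
  exact inf_le_left

theorem ct_of_fullyNormalized [Finite S] [Fact p.Prime] (n : NData F E p) {R : Subgroup Ω}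
    (hR : F.IsFullyNormalized R) (hRT : R ≤ T) (hc : centralizerIn T R ≤ R) : CT F T R :=
  ⟨hRT, fun _ hQ => n.centT_conj hR hc (isConj_symm hQ)⟩

/-- An automorphism of order prime to `p` of a subgroup `P` with `P ∩ T` centric in `T`, trivial
modulo `T` and lying in `E` on `P ∩ T`. -/
structure MCo (F : FusionSystem S) (E : FusionSystem T) (p : ℕ) (P : Subgroup Ω) (f : Ω → Ω) : Prop where
  iso : IsIso F P P f
  ct : CT F T (P ⊓ T)
  cop : Cop p P f
  mod : ∀ x ∈ P, x⁻¹ * f x ∈ T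
  emap : IsMap E (P ⊓ T) f

theorem MCo.congr {P : Subgroup Ω} {f g : Ω → Ω} (h : MCo F E p P f) (he : Set.EqOn f g P) :
    MCo F E p P g := by
  refine ⟨h.iso.congr he, h.ct, ?_, fun x hx => he hx ▸ h.mod x hx,
    h.emap.congr (he.mono fun x hx => hx.1)⟩
  obtain ⟨m, hm, hme⟩ := h.cop
  refine ⟨m, hm, fun x hx => ?_⟩
  suffices H : ∀ k : ℕ, g^[k] x = f^[k] x ∧ f^[k] x ∈ P by rw [(H m).1, hme x hx]
  intro k
  induction k with
  | zero => exact ⟨rfl, hx⟩
  | succ k ih =>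
    rw [Function.iterate_succ_apply', Function.iterate_succ_apply', ih.1]
    exact ⟨(he ih.2).symm, h.iso.mem ih.2⟩

theorem MCo.restrict [Finite S] {P P₀ : Subgroup Ω} {f : Ω → Ω} (h : MCo F E p P f) (hle : P₀ ≤ P)
    (hst : ∀ x ∈ P₀, f x ∈ P₀) (hct : CT F T (P₀ ⊓ T)) : MCo F E p P₀ f := by
  obtain ⟨m, hm, hme⟩ := h.cop
  exact ⟨isIso_of_mapsTo (h.iso.1.mono hle) (hle.trans h.iso.dom_le) hst le_rfl, hct,
    ⟨m, hm, fun x hx => hme x (hle hx)⟩, fun x hx => h.mod x (hle hx),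
    h.emap.mono (inf_le_inf_right _ hle)⟩

theorem Cop.transport {P : Subgroup Ω} {f g gi : Ω → Ω} (hf : ∀ x ∈ P, f x ∈ P)
    (hgl : ∀ x ∈ P, gi (g x) = x) (h : Cop p P f) {P' : Subgroup Ω}
    (hsurj : ∀ y ∈ P', ∃ x ∈ P, g x = y) : Cop p P' (g ∘ f ∘ gi) := by
  obtain ⟨m, hm, hme⟩ := h
  refine ⟨m, hm, fun y hy => ?_⟩
  obtain ⟨x, hx, rfl⟩ := hsurj y hy
  suffices H : ∀ k : ℕ, (g ∘ f ∘ gi)^[k] (g x) = g (f^[k] x) ∧ f^[k] x ∈ P by
    rw [(H m).1, hme x hx]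
  intro k
  induction k with
  | zero => exact ⟨rfl, hx⟩
  | succ k ih =>
    rw [Function.iterate_succ_apply', Function.iterate_succ_apply', ih.1]
    exact ⟨by simp only [Function.comp_apply, hgl _ ih.2], hf _ ih.2⟩

/-- Transport of an automorphism along an isomorphism. -/
theorem MCo.transport (n : NData F E p) {P P' : Subgroup Ω} {f g gi : Ω → Ω} (h : MCo F E p P f)
    (hg : IsIso F P P' g) (hgi : IsIso F P' P gi) (hgl : ∀ x ∈ P, gi (g x) = x) :
    MCo F E p P' (g ∘ f ∘ gi) := by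
  have hgT := isIso_inf n.closed hg
  refine ⟨(hgi.comp h.iso).comp hg, h.ct.of_isConj n.closed hgT.isConj,
    Cop.transport (fun x hx => h.iso.mem hx) hgl h.cop fun y hy => hg.exists_preimage hy, fun y hy => ?_, ?_⟩
  · obtain ⟨x, hx, rfl⟩ := hg.exists_preimage hy
    have hfx := h.iso.mem hx
    simp only [Function.comp_apply, hgl x hx]
    rw [← hg.1.map_inv hx, ← hg.1.map_mul (P.inv_mem hx) hfx]
    exact Fusion92.closed_apply n.closed hg.1 (P.mul_mem (P.inv_mem hx) hfx) (h.mod x hx)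
  · obtain ⟨χ, hχ, hχe⟩ := n.strongInv (P ⊓ T) (P' ⊓ T) (P ⊓ T) f g le_rfl inf_le_right h.emap
      (fun x hx => ⟨h.iso.mem hx.1, Fusion92.closed_apply n.closed h.iso.1 hx.1 hx.2⟩)
      hgT.1 hgT
    refine hχ.congr fun y hy => ?_
    obtain ⟨x, hx, rfl⟩ := hgT.exists_preimage hy
    simp only [Function.comp_apply, hgl x hx.1]
    exact hχe x hx

/-- The maps generated by the automorphisms above and conjugation by elements of `T`. -/
inductive TGen (F : FusionSystem S) (E : FusionSystem T) (p : ℕ) : Subgroup Ω → (Ω → Ω) → Prop where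
  | aut {P Q : Subgroup Ω} {f : Ω → Ω} : MCo F E p P f → Q ≤ P → TGen F E p Q f
  | conj {P : Subgroup Ω} {t : Ω} : P ≤ S → t ∈ T → TGen F E p P fun x => t * x * t⁻¹
  | comp {P Q : Subgroup Ω} {f g : Ω → Ω} : TGen F E p P f → TGen F E p Q g → (∀ x ∈ P, f x ∈ Q) →
      TGen F E p P (g ∘ f)
  | inv {P Q : Subgroup Ω} {f g : Ω → Ω} : TGen F E p P f → f '' (P : Set Ω) = (Q : Set Ω) →
      (∀ x ∈ P, g (f x) = x) → TGen F E p Q g
  | congr {P : Subgroup Ω} {f g : Ω → Ω} : TGen F E p P f → Set.EqOn f g P → TGen F E p P g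

theorem TGen.isMap (n : NData F E p) {P : Subgroup Ω} {f : Ω → Ω} (h : TGen F E p P f) :
    IsMap F P f := by
  induction h with
  | aut ha hle => exact ha.iso.1.mono hle
  | conj hP ht => exact isMap_conj hP (n.tS ht)
  | comp _ _ hm ih1 ih2 => exact ih1.comp ih2 hm
  | @inv P Q f g _ him hgl ih =>
    obtain ⟨k, hk, hkl, -⟩ := (show IsIso F P Q f from ⟨ih, him⟩).exists_inv
    refine hk.1.congr fun y hy => ?_
    obtain ⟨x, hx, rfl⟩ := (show IsIso F P Q f from ⟨ih, him⟩).exists_preimage hy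
    rw [hkl x hx, hgl x hx]
  | congr _ he ih => exact ih.congr he

theorem TGen.dom_le (n : NData F E p) {P : Subgroup Ω} {f : Ω → Ω} (h : TGen F E p P f) : P ≤ S :=
  (h.isMap n).dom_le

theorem tgen_id (n : NData F E p) {P : Subgroup Ω} (hP : P ≤ S) : TGen F E p P id :=
  (TGen.conj hP T.one_mem).congr fun x _ => by simp

theorem TGen.mono (n : NData F E p) {P P' : Subgroup Ω} {f : Ω → Ω} (h : TGen F E p P f) (hle : P' ≤ P) :
    TGen F E p P' f :=
  ((tgen_id n (hle.trans (h.dom_le n))).comp h fun _ hx => hle hx).congr fun _ _ => rfl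

theorem TGen.mod [Finite S] (n : NData F E p) {P : Subgroup Ω} {f : Ω → Ω} (h : TGen F E p P f) :
    ∀ x ∈ P, x⁻¹ * f x ∈ T := by
  induction h with
  | aut ha hle => exact fun x hx => ha.mod x (hle hx)
  | @conj P t hP ht =>
    intro x hx
    rw [show x⁻¹ * (t * x * t⁻¹) = x⁻¹ * t * x * t⁻¹ by group]
    refine T.mul_mem ?_ (T.inv_mem ht)
    simpa using n.conj_t (S.inv_mem (hP hx)) ht
  | @comp P Q f g _ _ hm ih1 ih2 =>
    intro x hx
    have := T.mul_mem (ih1 x hx) (ih2 _ (hm x hx))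
    simpa [mul_assoc] using this
  | @inv P Q f g h him hgl ih =>
    intro y hy
    obtain ⟨x, hx, rfl⟩ : y ∈ f '' (P : Set Ω) := him ▸ hy
    rw [hgl x hx]
    simpa using T.inv_mem (ih x hx)
  | congr _ he ih => exact fun x hx => he hx ▸ ih x hx

theorem TGen.apply_mem_sup [Finite S] (n : NData F E p) {P : Subgroup Ω} {f : Ω → Ω}
    (h : TGen F E p P f) {x : Ω} (hx : x ∈ P) : f x ∈ P ⊔ T := by
  have := Subgroup.mul_mem_sup hx (h.mod n x hx)
  rwa [mul_inv_cancel_left] at this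

theorem TGen.apply_mem_t [Finite S] (n : NData F E p) {P : Subgroup Ω} {f : Ω → Ω}
    (h : TGen F E p P f) {x : Ω} (hx : x ∈ P) : f x ∈ T ↔ x ∈ T := by
  refine ⟨fun hfx => ?_, fun hxT => ?_⟩
  · have := T.mul_mem hfx (T.inv_mem (h.mod n x hx))
    simpa using this
  · have := T.mul_mem hxT (h.mod n x hx)
    rwa [mul_inv_cancel_left] at this

/-- The image of `P ⊔ T` under the identification modulo `T`. -/
theorem TGen.image_sup [Finite S] (n : NData F E p) {P P' : Subgroup Ω} {f : Ω → Ω}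
    (h : TGen F E p P f) (him : f '' (P : Set Ω) = (P' : Set Ω)) : P' ⊔ T = P ⊔ T := by
  refine le_antisymm (sup_le (fun y hy => ?_) le_sup_right) (sup_le (fun x hx => ?_) le_sup_right)
  · obtain ⟨x, hx, rfl⟩ : y ∈ f '' (P : Set Ω) := him ▸ hy
    exact h.apply_mem_sup n hx
  · have h1 : f x ∈ P' := by rw [← SetLike.mem_coe, ← him]; exact ⟨x, hx, rfl⟩
    have := Subgroup.mul_mem_sup h1 (T.inv_mem (h.mod n x hx))
    simpa using this

theorem TGen.emap [Finite S] (n : NData F E p) {P : Subgroup Ω} {f : Ω → Ω} (h : TGen F E p P f) :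
    IsMap E (P ⊓ T) f := by
  induction h with
  | aut ha hle => exact ha.emap.mono (inf_le_inf_right _ hle)
  | conj hP ht => exact isMap_conj inf_le_right ht
  | @comp P Q f g hf _ hm ih1 ih2 =>
    exact ih1.comp ih2 fun x hx => ⟨hm x hx.1, (hf.apply_mem_t n hx.1).mpr hx.2⟩
  | @inv P Q f g hf him hgl ih =>
    have hi : IsIso E (P ⊓ T) (Q ⊓ T) f := by
      refine ⟨ih, Set.Subset.antisymm ?_ fun y hy => ?_⟩
      · rintro _ ⟨x, hx, rfl⟩
        exact ⟨show f x ∈ (Q : Set Ω) from him ▸ ⟨x, hx.1, rfl⟩, (hf.apply_mem_t n hx.1).mpr hx.2⟩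
      · obtain ⟨x, hx, rfl⟩ : y ∈ f '' (P : Set Ω) := him ▸ hy.1
        exact ⟨x, ⟨hx, (hf.apply_mem_t n hx).mp hy.2⟩, rfl⟩
    obtain ⟨k, hk, hkl, -⟩ := hi.exists_inv
    refine hk.1.congr fun y hy => ?_
    obtain ⟨x, hx, rfl⟩ := hi.exists_preimage hy
    rw [hkl x hx, hgl x hx.1]
  | congr _ he ih => exact ih.congr (he.mono fun x hx => hx.1)

theorem TGen.transport_aux [Finite S] (n : NData F E p) {P : Subgroup Ω} {f : Ω → Ω}
    (h : TGen F E p P f) : ∀ {P₁ : Subgroup Ω}, P₁ ≤ P → ∀ {Y : Subgroup Ω} {g : Ω → Ω}, IsMap F Y g →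
      P₁ ⊔ T ≤ Y → ∀ {P' : Subgroup Ω}, g '' (P₁ : Set Ω) = (P' : Set Ω) →
        ∃ k, TGen F E p P' k ∧ ∀ x ∈ P₁, k (g x) = g (f x) := by
  induction h with
  | @aut P₀ Q₀ f ha hle =>
    intro Q hQ Y g hg hY P' hP'
    set R := P₀ ⊓ (Q ⊔ T) with hR
    have hQR : Q ≤ R := le_inf (hQ.trans hle) le_sup_left
    have hst : ∀ x ∈ R, f x ∈ R := fun x hx => ⟨ha.iso.mem hx.1, by
      have := (Q ⊔ T).mul_mem hx.2 (Subgroup.mem_sup_right (ha.mod x hx.1))
      rwa [mul_inv_cancel_left] at this⟩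
    have hRT : R ⊓ T = P₀ ⊓ T := le_antisymm (inf_le_inf_right _ inf_le_left)
      fun x hx => ⟨⟨hx.1, Subgroup.mem_sup_right hx.2⟩, hx.2⟩
    have ha' := ha.restrict inf_le_left hst (hRT.symm ▸ ha.ct)
    obtain ⟨R', hR'⟩ := (hg.mono (inf_le_right.trans hY) : IsMap F R g).exists_image
    obtain ⟨gi, hgi, hgl, -⟩ := hR'.exists_inv
    refine ⟨g ∘ f ∘ gi, .aut (ha'.transport n hR' hgi hgl) fun y hy => ?_, fun x hx => ?_⟩
    · obtain ⟨x, hx, rfl⟩ : y ∈ g '' (Q : Set Ω) := hP' ▸ hy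
      exact hR'.mem (hQR hx)
    · simp only [Function.comp_apply, hgl x (hQR hx)]
  | @conj P₀ t hP ht =>
    intro P hle Y g hg hY P' hP'
    have hP'S : P' ≤ S := fun y hy => by
      obtain ⟨x, hx, rfl⟩ : y ∈ g '' (P : Set Ω) := hP' ▸ hy
      exact hg.apply_mem (hY (Subgroup.mem_sup_left hx))
    have htY : t ∈ Y := hY (Subgroup.mem_sup_right ht)
    refine ⟨_, .conj hP'S (Fusion92.closed_apply n.closed hg htY ht), fun x hx => ?_⟩
    exact (hg.map_conj htY (hY (Subgroup.mem_sup_left hx))).symm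
  | @comp P₀ Q f₁ f₂ h₁ h₂ hm ih1 ih2 =>
    intro P hle Y g hg hY P' hP'
    obtain ⟨P₁, hP₁⟩ := ((h₁.mono n hle).isMap n).exists_image
    have hP₁T := (h₁.mono n hle).image_sup n hP₁.2
    have hP₁Q : P₁ ≤ Q := fun y hy => by
      obtain ⟨x, hx, rfl⟩ := hP₁.exists_preimage hy
      exact hm x (hle hx)
    obtain ⟨k₁, hk₁, hk₁e⟩ := ih1 hle hg hY hP'
    have hY₁ : P₁ ⊔ T ≤ Y := hP₁T.le.trans hY
    obtain ⟨Q₁, hQ₁⟩ := (hg.mono (le_sup_left.trans hY₁) : IsMap F P₁ g).exists_image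
    obtain ⟨k₂, hk₂, hk₂e⟩ := ih2 hP₁Q hg hY₁ hQ₁.2
    refine ⟨k₂ ∘ k₁, hk₁.comp hk₂ fun y hy => ?_, fun x hx => ?_⟩
    · obtain ⟨x, hx, rfl⟩ : y ∈ g '' (P : Set Ω) := hP' ▸ hy
      rw [hk₁e x hx]
      exact hQ₁.mem (hP₁.mem hx)
    · simp only [Function.comp_apply]
      rw [hk₁e x hx, hk₂e _ (hP₁.mem hx)]
  | @inv P₀ Q₀ f fi hf him hgl ih =>
    intro Q hle Y g hg hY P' hP'
    obtain ⟨fj, hfj, hfjl, hfjr⟩ := (show IsIso F P₀ Q₀ f from ⟨hf.isMap n, him⟩).exists_inv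
    obtain ⟨P, hPP₀, hP⟩ := hfj.restrict hle
    have himP : f '' (P : Set Ω) = (Q : Set Ω) := by
      rw [← hP.2, ← Set.image_comp]
      exact (Set.image_congr fun y hy => hfjr y (hle hy)).trans (Set.image_id' _)
    have hPT := (hf.mono n hPP₀).image_sup n himP
    have hPY : P ⊔ T ≤ Y := hPT.symm.le.trans hY
    obtain ⟨P₂, hP₂⟩ := (hg.mono (le_sup_left.trans hPY) : IsMap F P g).exists_image
    obtain ⟨k, hk, hke⟩ := ih hPP₀ hg hPY hP₂.2
    have himk : k '' (P₂ : Set Ω) = (P' : Set Ω) := by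
      rw [← hP₂.2, ← Set.image_comp, ← hP', ← himP, ← Set.image_comp]
      exact Set.image_congr fun x hx => hke x hx
    obtain ⟨ki, hki, hkil, -⟩ := (show IsIso F P₂ P' k from ⟨hk.isMap n, himk⟩).exists_inv
    refine ⟨ki, .inv hk himk hkil, fun y hy => ?_⟩
    obtain ⟨x, hx, rfl⟩ : y ∈ f '' (P : Set Ω) := himP ▸ hy
    rw [hgl x (hPP₀ hx), ← hke x hx, hkil _ (hP₂.mem hx)]
  | @congr P₀ f f' _ he ih =>
    intro P hle Y g hg hY P' hP'
    obtain ⟨k, hk, hke⟩ := ih hle hg hY hP'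
    exact ⟨k, hk, fun x hx => by rw [hke x hx, he (hle hx)]⟩

/-- Transport of the generated maps by a map defined on `P ⊔ T`. -/
theorem TGen.transport [Finite S] (n : NData F E p) {P : Subgroup Ω} {f : Ω → Ω}
    (h : TGen F E p P f) {Y : Subgroup Ω} {g : Ω → Ω} (hg : IsMap F Y g) (hY : P ⊔ T ≤ Y)
    {P' : Subgroup Ω} (hP' : g '' (P : Set Ω) = (P' : Set Ω)) :
    ∃ k, TGen F E p P' k ∧ ∀ x ∈ P, k (g x) = g (f x) :=
  h.transport_aux n le_rfl hg hY hP'

end Cfsg.Agent.Fusion.Prod
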