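import Cfsg.Agent.Lib.Fusion.Prod.Frattini

/-!
# Extension of the automorphisms trivial modulo `T`

An automorphism of order prime to `p` of `P` in good position, trivial modulo `T` and normalising the
action of a subgroup `K` of `N_S(P)`, extends to such an automorphism of `K P C_S(P ∩ T)`.
-/

set_option autoImplicit false
set_option linter.style.haveILetI false

namespace Cfsg.Agent.Fusion.Prod

open Cfsg Cfsg.Agent.Fusion Cfsg.Agent.Fusion.NormalLift Cfsg.Agent.Fusion.Inter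
open Cfsg.FusionSystem (normalizerIn centralizerIn)

variable {Ω : Type*} [Group Ω] {S T : Subgroup Ω} {F : FusionSystem S} {E : FusionSystem T} {p : ℕ}

theorem orderOf_coprime_of_cop {P : Subgroup Ω} {α : MulAut P} {f : Ω → Ω} (h : Cop p P f)
    (he : Set.EqOn (autFun α) f P) : (orderOf α).Coprime p := by
  obtain ⟨m, hm, hme⟩ := h
  refine Nat.Coprime.coprime_dvd_left (orderOf_dvd_of_pow_eq_one ?_) hm
  refine MulEquiv.ext fun x => Subtype.ext ?_
  rw [← autFun_coe, iterate_autFun he m x x.2, hme x x.2]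
  rfl

theorem pow_eqOn {M R : Subgroup Ω} {β : MulAut M} {α : MulAut R} (hRM : R ≤ M)
    (h : Set.EqOn (autFun β) (autFun α) R) (m : ℕ) : Set.EqOn (autFun (β ^ m)) (autFun (α ^ m)) R := by
  induction m with
  | zero =>
    intro x hx
    rw [pow_zero, pow_zero, autFun_one (hRM hx), autFun_one hx]
  | succ m ih =>
    intro x hx
    rw [pow_succ', pow_succ', autFun_mul _ _ (hRM hx), autFun_mul _ _ hx, Function.comp_apply,
      Function.comp_apply, ih hx]
    exact h (autFun_mem_self _ hx)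

theorem pow_mod {M R : Subgroup Ω} {β : MulAut M} (h : ∀ x ∈ M, x⁻¹ * autFun β x ∈ R) (m : ℕ) :
    ∀ x ∈ M, x⁻¹ * autFun (β ^ m) x ∈ R := by
  induction m with
  | zero =>
    intro x hx
    rw [pow_zero, autFun_one hx]
    simp
  | succ m ih =>
    intro x hx
    rw [pow_succ', autFun_mul _ _ hx, Function.comp_apply]
    have := R.mul_mem (ih x hx) (h _ (autFun_mem_self (β ^ m) hx))
    simpa [mul_assoc] using this

/-- The automorphisms trivial modulo `T`. -/
def modT (hT : F.StronglyClosed T) (M : Subgroup Ω) (hM : M ≤ S) : Subgroup (F.autGroup M) where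
  carrier := {a | ∀ x ∈ M, x⁻¹ * autFun (a : MulAut M) x ∈ T}
  one_mem' x hx := by rw [Subgroup.coe_one, autFun_one hx]; simp
  mul_mem' {a b} ha hb x hx := by
    rw [Subgroup.coe_mul, autFun_mul _ _ hx, Function.comp_apply]
    have := T.mul_mem (hb x hx) (ha _ (autFun_mem_self (b : MulAut M) hx))
    simpa [mul_assoc] using this
  inv_mem' {a} ha y hy := by
    obtain ⟨x, hx, rfl⟩ := ((mem_autGroup hM).mp a.2).exists_preimage hy
    rw [Subgroup.coe_inv, PrimeIndex.autFun_inv_apply _ hx]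
    simpa using T.inv_mem (ha x hx)

theorem modT_normal (hT : F.StronglyClosed T) (M : Subgroup Ω) (hM : M ≤ S) :
    (modT hT M hM).Normal := by
  refine ⟨fun a ha b y hy => ?_⟩
  have hbi := (mem_autGroup hM).mp b.2
  have hai := (mem_autGroup hM).mp a.2
  obtain ⟨x, hx, rfl⟩ := hbi.exists_preimage hy
  rw [Subgroup.coe_mul, Subgroup.coe_mul, Subgroup.coe_inv, autFun_mul _ _ (hbi.mem hx),
    Function.comp_apply, PrimeIndex.autFun_inv_apply _ hx, autFun_mul _ _ hx, Function.comp_apply,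
    ← hbi.1.map_inv hx, ← hbi.1.map_mul (M.inv_mem hx) (hai.mem hx)]
  exact Fusion92.closed_apply hT hbi.1 (M.mul_mem (M.inv_mem hx) (hai.mem hx)) (ha x hx)

variable [Finite S] [Fact p.Prime]

/-- The extension in `E` part: a coprime automorphism trivial modulo `T` lies in `E` as soon as it
does on a fully normalized centric subgroup. -/
theorem emap_of_coprime (n : NData F E p) {R V : Subgroup Ω} {a f : Ω → Ω}
    (hR : F.IsFullyNormalized R) (hRT : R ≤ T) (hc : centralizerIn T R ≤ R)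
    (ha : IsIso E R R a) (hRV : R ≤ V) (hV : V ≤ normalizerIn T R) (hf : IsIso F V V f)
    (hfa : ∀ x ∈ R, f x = a x) (hcop : Cop p V f) : IsMap E V f := by
  haveI := n.finiteT
  have hVT : V ≤ T := hV.trans inf_le_left
  haveI := finite_of_le hVT
  haveI := finite_mulAut V
  have hM : IsExtendable T R a V := by
    refine ⟨hVT, fun v hv => ⟨(hV hv).2, f v, hVT (hf.mem hv), fun x hx => ?_⟩⟩
    rw [← hfa _ (conj_mem_of_mem_normalizer (hV hv).2 hx), ← hfa x hx, hf.1.map_conj hv (hRV hx)]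
  obtain ⟨e, he, hee⟩ := receptive_extend
    (receptive_of_fullyNormalized n.tp n.eSat (n.fullyNormalized_e hR hRT)) ha hM
  rw [sup_eq_right.mpr hRV] at he
  have hsame : ∀ v ∈ V, (f v)⁻¹ * e v ∈ R := fun v hv => hc (inv_mul_mem_centralizerIn
    (he.apply_mem hv) (hVT (hf.mem hv)) fun y hy => by
      obtain ⟨x, hx, rfl⟩ := ha.exists_preimage hy
      have h1 := conj_mem_of_mem_normalizer (hV hv).2 hx
      conv_lhs => rw [← hee hx, ← he.map_conj hv (hRV hx), hee h1]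
      conv_rhs => rw [← hfa x hx, ← hf.1.map_conj hv (hRV hx), hfa _ h1])
  have hei : IsIso E V V e := isIso_of_mapsTo he hVT (fun v hv => by
    have := V.mul_mem (hf.mem hv) (hRV (hsame v hv))
    rwa [mul_inv_cancel_left] at this) le_rfl
  obtain ⟨αe, hαe, hαee⟩ := hei.exists_aut
  obtain ⟨αf, hαf, hαfe⟩ := hf.exists_aut
  have hαeF : αe ∈ F.autGroup V := autGroup_mono (n.sub V) hαe
  set H := (E.autGroup V).subgroupOf (F.autGroup V) with hH
  haveI : H.Normal := ⟨fun x hx b => Subgroup.mem_subgroupOf.mpr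
    (autGroup_conj_mem n hVT (Subgroup.mem_subgroupOf.mp hx) b.2)⟩
  have hmemδ : αe⁻¹ * αf ∈ fixMod V R := by
    refine ⟨fun x hx => αe.injective ?_, fun x => ?_⟩
    · rw [MulAut.mul_apply, MulAut.apply_inv_self]
      apply Subtype.ext
      rw [← autFun_coe αf, ← autFun_coe αe, hαfe x.2, hαee x.2, hfa _ hx, hee hx]
    · have h1 : (((αe (x⁻¹ * (αe⁻¹ * αf) x)) : V) : Ω) ∈ R := by
        rw [map_mul, map_inv, MulAut.mul_apply, MulAut.apply_inv_self, Subgroup.coe_mul,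
          Subgroup.coe_inv, ← autFun_coe αf, ← autFun_coe αe, hαfe x.2, hαee x.2]
        simpa using R.inv_mem (hsame x x.2)
      obtain ⟨w, hw, hwe⟩ := ha.exists_preimage h1
      rw [← hee hw, ← autFun_coe αe, hαee (x⁻¹ * (αe⁻¹ * αf) x).2] at hwe
      exact he.injOn (hRV hw) (x⁻¹ * (αe⁻¹ * αf) x).2 hwe ▸ hw
  obtain ⟨k, hk⟩ := fixMod_isPGroup (Z := R) (n.tp.to_le hVT) ⟨_, hmemδ⟩
  have hmem : (⟨αf, hαf⟩ : F.autGroup V) ∈ H := by
    refine mem_of_coprime_mod H (b := ⟨αe⁻¹ * αf, Subgroup.mul_mem _ (Subgroup.inv_mem _ hαeF) hαf⟩)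
      (by rw [← Subgroup.orderOf_coe]; exact orderOf_coprime_of_cop hcop hαfe) (k := k)
      (Subtype.ext (by simpa using congrArg Subtype.val hk)) (Subgroup.mem_subgroupOf.mpr ?_)
    show (αe⁻¹ * αf)⁻¹ * αf ∈ E.autGroup V
    rw [show (αe⁻¹ * αf)⁻¹ * αf = αf⁻¹ * αe * αf⁻¹⁻¹ by group]
    exact autGroup_conj_mem n hVT hαe (Subgroup.inv_mem _ hαf)
  exact ((mem_autGroup hVT).mp (Subgroup.mem_subgroupOf.mp hmem)).1.congr hαfe

set_option maxHeartbeats 2000000 in
/-- The extension lemma. -/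
theorem ext_mco (n : NData F E p) {P K : Subgroup Ω} {a : Ω → Ω} (hn : Nice F T P)
    (ha : MCo F E p P a) (hPK : P ≤ K) (hK : K ≤ normalizerIn S P)
    (hnorm : ∀ k ∈ K, ∃ k' ∈ K ⊔ centralizerIn S P, ∀ x ∈ P, a (k * x * k⁻¹) = k' * a x * k'⁻¹) :
    ∃ f, MCo F E p (P ⊓ T ⊔ centralizerIn S (P ⊓ T) ⊔ K) f ∧ Set.EqOn f a P := by
  have hPS := hn.le
  obtain ⟨hRn, hPn⟩ := hn
  set R := P ⊓ T with hR
  have hRT : R ≤ T := inf_le_right
  have hRP : R ≤ P := inf_le_left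
  have hRS := hRn.1
  have hc : centralizerIn T R ≤ R := ha.ct.2 R (isConj_refl hRS)
  have hct : CT F T R := ha.ct
  have hsupR : R ⊔ centralizerIn T R = R := sup_eq_left.mpr hc
  haveI := finite_of_le hRS
  haveI := finite_mulAut R
  haveI := finite_of_le hPS
  haveI := finite_mulAut P
  -- the restriction to `R`
  have haR : IsIso E R R a := ⟨ha.emap, (isIso_inf n.closed ha.iso).2⟩
  obtain ⟨αR, hαR, hαRe⟩ := haR.exists_aut
  have hcopR : (orderOf αR).Coprime p := by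
    obtain ⟨m, hm, hme⟩ := ha.cop
    exact orderOf_coprime_of_cop (f := a) ⟨m, hm, fun x hx => hme x (hRP hx)⟩ hαRe
  set D := R ⊔ centralizerIn S R with hD
  have hDS : D ≤ S := sup_le hRS (Fusion.centralizerIn_le _ _)
  have hDN : D ≤ normalizerIn S R := supC_le hRS
  haveI := finite_of_le hDS
  haveI := finite_mulAut D
  obtain ⟨γ₀, hγ₀, hγ₀e, hγ₀c⟩ := n.exists_lift hRn hRT hc αR hαR
  have hγ₀i := (mem_autGroup hDS).mp hγ₀
  have hγ₀m : ∀ y ∈ D, y⁻¹ * autFun γ₀ y ∈ R := mod_sup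
    (inf_le_right.trans (Subgroup.centralizer_le_normalizer _)) hγ₀i.1
    (fun x hx => hγ₀e hx ▸ autFun_mem_self αR hx) hγ₀c
  obtain ⟨m₀, hm₀, hαm₀⟩ := exists_pow_coprime (p := p) γ₀ αR hcopR
  set γ := γ₀ ^ m₀ with hγdef
  have hγR : ∀ x ∈ R, autFun γ x = a x := fun x hx => by
    rw [hγdef, pow_eqOn le_sup_left hγ₀e m₀ hx, hαm₀, hαRe hx]
  have hγi : IsIso F D D (autFun γ) := (mem_autGroup hDS).mp (Subgroup.pow_mem _ hγ₀ m₀)
  have hγm : ∀ y ∈ D, y⁻¹ * autFun γ y ∈ R := pow_mod hγ₀m m₀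
  -- the ambient normalizers
  have hKN : K ≤ normalizerIn S R := hK.trans (normalizerIn_le_inf n.closed P)
  have hDconj : ∀ g ∈ normalizerIn S R, ∀ y ∈ D, g * y * g⁻¹ ∈ D := fun g hg y hy =>
    conj_mem_of_mem_normalizer (normalizer_supC hg) hy
  haveI := finite_of_le (Fusion.normalizerIn_le S R)
  have hNp := n.pgroup.to_le (Fusion.normalizerIn_le S R)
  have hNsat := normalizerSystem_isSaturated n.pgroup n.sat hRn
  have hinvR : ∀ {X : Subgroup Ω}, R ≤ X → X ≤ normalizerIn S R →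
      ∀ α ∈ (normalizerSystem F R hRS).autGroup X, ∀ z ∈ R, autFun α z ∈ R := fun hRX hX α hα z hz => by
    rw [← SetLike.mem_coe, ← ((mem_stabAut hRS hRX hX).mp hα).2]
    exact ⟨z, hz, rfl⟩
  -- elements of `T` normalising `R` act trivially modulo `R` on `D`
  have hTmod : ∀ t ∈ normalizerIn T R, ∀ y ∈ D, y⁻¹ * (t * y * t⁻¹) ∈ R := by
    intro t ht
    refine mod_sup (inf_le_right.trans (Subgroup.centralizer_le_normalizer _))
      (isMap_conj (F := F) hDS (n.tS ht.1)) (fun x hx => conj_mem_of_mem_normalizer ht.2 hx)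
      fun c hcC => hc ⟨?_, Subgroup.mul_mem _ (Subgroup.inv_mem _ hcC.2) ?_⟩
    · exact (n.comm_mem hcC.1 ht.1).2
    · refine Subgroup.mem_centralizer_iff.mpr fun x hx => ?_
      have h1 : t⁻¹ * x * t ∈ R := by
        simpa using conj_mem_of_mem_normalizer (Subgroup.inv_mem _ ht.2) hx
      have h2 := Subgroup.mem_centralizer_iff.mp hcC.2 _ h1
      calc x * (t * c * t⁻¹) = t * ((t⁻¹ * x * t) * c) * t⁻¹ := by group
        _ = t * (c * (t⁻¹ * x * t)) * t⁻¹ := by rw [h2]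
        _ = t * c * t⁻¹ * x := by group
  -- the lift normalises the action of `K` on `D`
  have hstep : ∀ k ∈ K, ∃ h ∈ S, ∀ y ∈ D, autFun γ (k * y * k⁻¹) = h * autFun γ y * h⁻¹ := by
    intro k hk
    obtain ⟨k', hk', hke⟩ := hnorm k hk
    have hkR : k ∈ normalizerIn S R := hKN hk
    have hk'R : k' ∈ normalizerIn S R :=
      (sup_le hKN ((centralizerIn_le_normalizerIn S P).trans (normalizerIn_le_inf n.closed P))) hk'
    set s := k⁻¹ * k' with hs
    have hsN : s ∈ normalizerIn S R := Subgroup.mul_mem _ (Subgroup.inv_mem _ hkR) hk'R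
    have hsE : IsMap E (R ⊔ centralizerIn T R) fun x => s * x * s⁻¹ := by
      rw [hsupR]
      have hkm : conjAutHom S R ⟨k, hkR⟩ ∈ F.autGroup R := autInducedBy_le_autGroup hRS (by
        rw [← range_conjAutHom]; exact ⟨_, rfl⟩)
      have hβ := Subgroup.mul_mem _ (autGroup_conj_mem n hRT hαR (Subgroup.inv_mem _ hkm))
        (Subgroup.inv_mem _ hαR)
      refine ((mem_autGroup hRT).mp hβ).1.congr fun y hy => ?_
      obtain ⟨x, rfl⟩ : ∃ x : R, ((αR x : R) : Ω) = y := ⟨αR⁻¹ ⟨y, hy⟩, by rw [MulAut.apply_inv_self]⟩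
      rw [autFun_coe, MulAut.mul_apply, MulAut.inv_apply_self, inv_inv, MulAut.mul_apply,
        MulAut.mul_apply]
      have h1 : ∀ z : R, ((((conjAutHom S R ⟨k, hkR⟩)⁻¹ : MulAut R) z : R) : Ω) = k⁻¹ * (z : Ω) * k := by
        intro z
        rw [← map_inv, conjAutHom_apply]
        simp
      rw [h1, ← autFun_coe αR, hαRe (Subtype.mem _), conjAutHom_apply, ← autFun_coe αR x, hαRe x.2]
      rw [hke x (hRP x.2), hs]
      group
    obtain ⟨t, ht, htc⟩ := induced_single n hRn hRT hsN hsE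
    have hh₀S : k * t ∈ S := S.mul_mem hkR.1 (n.tS ht.1)
    have hh₀N : k * t ∈ normalizerIn S R :=
      ⟨hh₀S, Subgroup.mul_mem _ hkR.2 ht.2⟩
    -- the discrepancy
    obtain ⟨γi, hγii, hγl, hγr⟩ := hγi.exists_inv
    set δ := (fun z => (k * t)⁻¹ * z * (k * t)⁻¹⁻¹) ∘ autFun γ ∘ (fun z => k * z * k⁻¹) ∘ γi with hδ
    have hck : IsIso F D D (fun z => k * z * k⁻¹) := isIso_of_mapsTo (isMap_conj hDS hkR.1) hDS
      (hDconj k hkR) le_rfl
    have hch : IsIso F D D (fun z => (k * t)⁻¹ * z * (k * t)⁻¹⁻¹) := isIso_of_mapsTo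
      (isMap_conj hDS (S.inv_mem hh₀S)) hDS (hDconj _ (Subgroup.inv_mem _ hh₀N)) le_rfl
    have hδi : IsIso F D D δ := ((hγii.comp hck).comp hγi).comp hch
    have hfix : ∀ z ∈ R, δ z = z := by
      intro z hz
      obtain ⟨x, hx, rfl⟩ := haR.exists_preimage hz
      have hxk : k * x * k⁻¹ ∈ R := conj_mem_of_mem_normalizer hkR.2 hx
      simp only [hδ, Function.comp_apply]
      rw [show γi (a x) = x by rw [← hγR x hx, hγl x (Subgroup.mem_sup_left hx)], hγR _ hxk,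
        hke x (hRP hx)]
      have h1 := Subgroup.mem_centralizer_iff.mp htc.2 (a x) (Subgroup.mem_sup_left (haR.mem hx))
      calc (k * t)⁻¹ * (k' * a x * k'⁻¹) * (k * t)⁻¹⁻¹
          = (t⁻¹ * s) * a x * (t⁻¹ * s)⁻¹ := by rw [hs]; group
        _ = a x * (t⁻¹ * s) * (t⁻¹ * s)⁻¹ := by rw [← h1]
        _ = a x := by group
    have hmodδ : ∀ y ∈ D, y⁻¹ * δ y ∈ R := by
      intro y hy
      set w := γi y with hw
      have hwD : w ∈ D := hγii.mem hy
      have hyw : autFun γ w = y := hγr y hy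
      have h1 := hγm w hwD
      rw [hyw] at h1
      have hkw : k * w * k⁻¹ ∈ D := hDconj k hkR _ hwD
      have h2 := hγm _ hkw
      have h3 : k⁻¹ * ((k * w * k⁻¹)⁻¹ * autFun γ (k * w * k⁻¹)) * k ∈ R := by
        simpa using conj_mem_of_mem_normalizer (Subgroup.inv_mem _ hkR.2) h2
      have h4 := hTmod t⁻¹ (Subgroup.inv_mem _ ht) w hwD
      have h5 : t⁻¹ * (k⁻¹ * ((k * w * k⁻¹)⁻¹ * autFun γ (k * w * k⁻¹)) * k) * t ∈ R := by
        simpa using conj_mem_of_mem_normalizer (Subgroup.inv_mem _ ht.2) h3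
      have := R.mul_mem (R.mul_mem (R.inv_mem h1) h4) h5
      simp only [hδ, Function.comp_apply]
      convert this using 1
      rw [← hw]
      group
    have hδR : δ '' (R : Set Ω) = (R : Set Ω) := (Set.image_congr hfix).trans (Set.image_id' _)
    obtain ⟨c, hcC, -, hce⟩ := exists_centralizer_conj hNp hNsat
      (fullyNormalized_of_normalized (F := normalizerSystem F R hRS) hDN fun g hg => normalizer_supC hg)
      le_sup_left (hinvR le_sup_left hDN)
      (δ := δ) ⟨isMap_normalizerSystem_of_le hRS hδi.1 le_sup_left hDN hδR, hδi.2⟩ hfix hmodδ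
    refine ⟨k * t * c, S.mul_mem hh₀S hcC.1.1, fun y hy => ?_⟩
    have h1 := hce _ (hγi.mem hy)
    simp only [hδ, Function.comp_apply, hγl y hy] at h1
    calc autFun γ (k * y * k⁻¹)
        = (k * t) * ((k * t)⁻¹ * autFun γ (k * y * k⁻¹) * (k * t)⁻¹⁻¹) * (k * t)⁻¹ := by group
      _ = (k * t) * (c * autFun γ y * c⁻¹) * (k * t)⁻¹ := by rw [h1]
      _ = _ := by group
  -- extension to `M = D K`
  have hext : IsExtendable S D (autFun γ) K :=
    ⟨hKN.trans inf_le_left, fun k hk => ⟨normalizer_supC (hKN hk), hstep k hk⟩⟩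
  obtain ⟨g, hg, hge⟩ := receptive_extend (receptive_supC n.pgroup n.sat
    (fullyCentralized_of_fullyNormalized n.pgroup n.sat hRn)) hγi hext
  set M := D ⊔ K with hM
  have hMN : M ≤ normalizerIn S R := sup_le hDN hKN
  have hMS : M ≤ S := hMN.trans inf_le_left
  haveI := finite_of_le hMS
  haveI := finite_mulAut M
  have hCPD : centralizerIn S P ≤ D := (inf_le_inf_left _ (Subgroup.centralizer_le hRP)).trans le_sup_right
  have hgR : ∀ x ∈ R, g x = a x := fun x hx => by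
    rw [hge (Subgroup.mem_sup_left hx : x ∈ D), hγR x hx]
  have hgi : IsIso F M M g := by
    refine isIso_of_mapsTo hg hMS (isMap_mem_sup hg le_sup_left le_sup_right
      (fun x hx => Subgroup.mem_sup_left (hge hx ▸ hγi.mem hx)) fun k hk => ?_) le_rfl
    obtain ⟨k', hk', hke⟩ := hnorm k hk
    have hk'M : k' ∈ M := sup_le le_sup_right (hCPD.trans le_sup_left) hk'
    have h1 : k'⁻¹ * g k ∈ centralizerIn S R := inv_mul_mem_centralizerIn
      (hg.apply_mem (Subgroup.mem_sup_right hk)) (hMS hk'M) fun z hz => by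
        obtain ⟨x, hx, rfl⟩ := haR.exists_preimage hz
        have hxk : k * x * k⁻¹ ∈ R := conj_mem_of_mem_normalizer (hKN hk).2 hx
        conv_lhs => rw [← hgR x hx, ← hg.map_conj (Subgroup.mem_sup_right hk)
          (Subgroup.mem_sup_left (Subgroup.mem_sup_left hx)), hgR _ hxk]
        exact hke x (hRP hx)
    have := M.mul_mem hk'M (Subgroup.mem_sup_left (Subgroup.mem_sup_right h1))
    rwa [mul_inv_cancel_left] at this
  -- a coprime power, trivial modulo `T`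
  obtain ⟨β₀, hβ₀, hβ₀e⟩ := hgi.exists_aut
  obtain ⟨m₁, hm₁, hαm₁⟩ := exists_pow_coprime (p := p) β₀ αR hcopR
  set β₁ := β₀ ^ m₁ with hβ₁def
  have hβ₁ : β₁ ∈ F.autGroup M := Subgroup.pow_mem _ hβ₀ m₁
  have hβ₁i := (mem_autGroup hMS).mp hβ₁
  have hDM : D ≤ M := le_sup_left
  have hRM : R ≤ M := le_sup_left.trans hDM
  have hβ₁R : ∀ x ∈ R, autFun β₁ x = a x := fun x hx => by
    have h0 : Set.EqOn (autFun β₀) (autFun αR) R := fun y hy => by
      rw [hβ₀e (hRM hy), hgR y hy, hαRe hy]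
    rw [hβ₁def, pow_eqOn hRM h0 m₁ hx, hαm₁, hαRe hx]
  have hβ₁D : ∀ y ∈ D, y⁻¹ * autFun β₁ y ∈ R := fun y hy => by
    rw [hβ₁def, pow_eqOn hDM (fun z hz => (hβ₀e (hDM hz)).trans (hge hz)) m₁ hy]
    exact pow_mod hγm m₁ y hy
  have hβ₁T : ∀ q ∈ M, q⁻¹ * autFun β₁ q ∈ T := mod_single n hRn hRT hDM hMN hβ₁i
    ((Set.image_congr hβ₁R).trans haR.2) hβ₁D
    (by rw [hsupR]; exact haR.1.congr fun x hx => (hβ₁R x hx).symm) (cop_of_pow hm₁ le_rfl)
  -- it agrees with `a` on `P` up to conjugation by an element centralizing `R`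
  have hPM : P ≤ M := hPK.trans le_sup_right
  have hsame : ∀ x ∈ P, (autFun β₁ x)⁻¹ * a x ∈ R := by
    intro x hx
    refine hc ⟨?_, ?_⟩
    · have := T.mul_mem (T.inv_mem (hβ₁T x (hPM hx))) (ha.mod x hx)
      simpa [mul_assoc] using this
    · refine (inv_mul_mem_centralizerIn (W := S) (ha.iso.1.apply_mem hx)
        (hβ₁i.1.apply_mem (hPM hx)) fun z hz => ?_).2
      obtain ⟨w, hw, rfl⟩ := haR.exists_preimage hz
      have hxw : x * w * x⁻¹ ∈ R := conj_mem_of_mem_normalizer (hMN (hPM hx)).2 hw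
      rw [← ha.iso.1.map_conj hx (hRP hw), ← hβ₁R _ hxw, ← hβ₁R w hw,
        hβ₁i.1.map_conj (hPM hx) (hRM hw)]
  have hβ₁P : IsIso F P P (autFun β₁) := isIso_of_mapsTo (hβ₁i.1.mono hPM) hPS (fun x hx => by
    have := P.mul_mem (ha.iso.mem hx) (P.inv_mem (hRP (hsame x hx)))
    rwa [mul_inv_rev, inv_inv, mul_inv_cancel_left] at this) le_rfl
  obtain ⟨bi, hbi, hbl, hbr⟩ := hβ₁P.exists_inv
  have hδPi : IsIso F P P (bi ∘ a) := ha.iso.comp hbi
  have hδfix : ∀ z ∈ R, (bi ∘ a) z = z := fun z hz => by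
    rw [Function.comp_apply, ← hβ₁R z hz, hbl z (hRP hz)]
  have hδmod : ∀ x ∈ P, x⁻¹ * (bi ∘ a) x ∈ R := fun x hx => by
    have hw : (bi ∘ a) x ∈ P := hδPi.mem hx
    have h1 := hsame x hx
    rw [← hbr _ (ha.iso.mem hx), ← hβ₁P.1.map_inv hx, ← hβ₁P.1.map_mul (P.inv_mem hx)
      (hbi.mem (ha.iso.mem hx))] at h1
    obtain ⟨z, hz, hze⟩ := haR.exists_preimage h1
    rw [← hβ₁R z hz] at hze
    exact hβ₁P.1.injOn (hRP hz) (P.mul_mem (P.inv_mem hx) hw) hze ▸ hz
  have hPN : P ≤ normalizerIn S R := hPn.1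
  obtain ⟨c, hcC, hcN, hce⟩ := exists_centralizer_conj hNp hNsat hPn hRP (hinvR hRP hPN)
    (δ := bi ∘ a) ⟨isMap_normalizerSystem_of_le hRS hδPi.1 hRP hPN
      ((Set.image_congr hδfix).trans (Set.image_id' _)), hδPi.2⟩ hδfix hδmod
  have hcM : c ∈ normalizerIn S M := ⟨hcC.1.1, M.le_normalizer (hDM (Subgroup.mem_sup_right ⟨hcC.1.1, hcC.2⟩))⟩
  set κ := conjAutHom S M ⟨c, hcM⟩ with hκ
  have hκF : κ ∈ F.autGroup M := autInducedBy_le_autGroup hMS (by rw [← range_conjAutHom]; exact ⟨_, rfl⟩)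
  obtain ⟨αP, hαP, hαPe⟩ := ha.iso.exists_aut
  obtain ⟨m₂, hm₂, hαm₂⟩ := exists_pow_coprime (p := p) (β₁ * κ) αP (orderOf_coprime_of_cop ha.cop hαPe)
  have hκe : ∀ x ∈ M, autFun κ x = c * x * c⁻¹ := fun x hx => by rw [autFun_of_mem _ hx]; rfl
  have hβ₂P : Set.EqOn (autFun (β₁ * κ)) (autFun αP) P := fun x hx => by
    rw [autFun_mul _ _ (hPM hx), Function.comp_apply, hκe x (hPM hx), hαPe hx]
    have := hce x hx
    simp only [Function.comp_apply] at this
    rw [← this, hbr _ (ha.iso.mem hx)]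
  set β₂ : F.autGroup M := ⟨β₁, hβ₁⟩ * ⟨κ, hκF⟩ with hβ₂
  set f := autFun ((β₁ * κ) ^ m₂) with hfdef
  have hfF : (β₁ * κ) ^ m₂ ∈ F.autGroup M := Subgroup.pow_mem _ (Subgroup.mul_mem _ hβ₁ hκF) m₂
  have hfi : IsIso F M M f := (mem_autGroup hMS).mp hfF
  have hfP : Set.EqOn f a P := fun x hx => by
    rw [hfdef, pow_eqOn hPM hβ₂P m₂ hx, hαm₂, hαPe hx]
  haveI := modT_normal (F := F) n.closed M hMS
  obtain ⟨k, hk⟩ := n.pgroup ⟨c, hcM.1⟩
  have hκk : (⟨κ, hκF⟩ : F.autGroup M) ^ p ^ k = 1 := Subtype.ext (by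
    show (conjAutHom S M ⟨c, hcM⟩) ^ p ^ k = 1
    rw [← map_pow]
    convert map_one (conjAutHom S M)
    exact Subtype.ext (by simpa using congrArg Subtype.val hk))
  have hfT : β₂ ^ m₂ ∈ modT n.closed M hMS := by
    refine mem_of_coprime_mod (p := p) _ (b := (⟨κ, hκF⟩ : F.autGroup M) ^ m₂) ?_ (k := k) ?_ ?_
    · rw [← Subgroup.orderOf_coe, SubgroupClass.coe_pow]
      exact hm₂
    · rw [← pow_mul, mul_comm, pow_mul, hκk, one_pow]
    · apply (QuotientGroup.eq_one_iff _).mp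
      have h1 : ((⟨β₁, hβ₁⟩ : F.autGroup M) : F.autGroup M ⧸ modT n.closed M hMS) = 1 :=
        (QuotientGroup.eq_one_iff _).mpr hβ₁T
      rw [QuotientGroup.mk_mul, QuotientGroup.mk_inv, QuotientGroup.mk_pow, QuotientGroup.mk_pow,
        hβ₂, QuotientGroup.mk_mul, h1, one_mul, inv_mul_cancel]
  have hfmod : ∀ x ∈ M, x⁻¹ * f x ∈ T := fun x hx => by
    have := hfT x hx
    rwa [SubgroupClass.coe_pow] at this
  have hctM : CT F T (M ⊓ T) := hct.mono n.closed (le_inf hRM hRT) inf_le_right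
  refine ⟨f, ⟨hfi, hctM, cop_of_pow hm₂ le_rfl, hfmod, ?_⟩, hfP⟩
  refine emap_of_coprime n hRn hRT hc haR (le_inf hRM hRT) (fun v hv => ⟨hv.2, (hMN hv.1).2⟩)
    (isIso_inf n.closed hfi) (fun x hx => hfP (hRP hx)) ?_
  obtain ⟨m, hm, hme⟩ := cop_of_pow (p := p) hm₂ (le_refl M)
  exact ⟨m, hm, fun x hx => hme x hx.1⟩

end Cfsg.Agent.Fusion.Prod
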