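import Cfsg.Agent.Lib.Fusion.Prod.Sys
import Cfsg.Agent.Lib.Fusion.Inter.Extend

/-!
# The Frattini lemma: every map is a map trivial modulo `T` followed by a map defined on `P ⊔ T`
-/

set_option autoImplicit false
set_option linter.style.haveILetI false

namespace Cfsg.Agent.Fusion.Prod

open Cfsg Cfsg.Agent.Fusion Cfsg.Agent.Fusion.NormalLift Cfsg.Agent.Fusion.Inter
open Cfsg.FusionSystem (normalizerIn centralizerIn)

variable {Ω : Type*} [Group Ω] {S T : Subgroup Ω} {F : FusionSystem S} {E : FusionSystem T} {p : ℕ}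

/-- A subgroup in a good position: its part in `T` is fully normalized and it is fully normalized in
the normalizer system of that part. -/
def Nice (F : FusionSystem S) (T P : Subgroup Ω) : Prop :=
  ∃ h : F.IsFullyNormalized (P ⊓ T), (normalizerSystem F (P ⊓ T) h.1).IsFullyNormalized P

theorem Nice.le {P : Subgroup Ω} (h : Nice F T P) : P ≤ S := h.2.1.trans inf_le_left

theorem normalizerIn_le_inf (hT : F.StronglyClosed T) (P : Subgroup Ω) :
    normalizerIn S P ≤ normalizerIn S (P ⊓ T) := by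
  intro g hg
  refine ⟨hg.1, Subgroup.mem_normalizer_iff.mpr fun x => ⟨fun hx => ?_, fun hx => ?_⟩⟩
  · exact ⟨conj_mem_of_mem_normalizer hg.2 hx.1, Fusion92.conj_mem_closed hT hg.1 hx.2⟩
  · refine ⟨(Subgroup.mem_normalizer_iff.mp hg.2 x).mpr hx.1, ?_⟩
    have := Fusion92.conj_inv_mem_closed hT hg.1 hx.2
    simpa [mul_assoc] using this

section Finite

variable [Finite S] [Fact p.Prime]

theorem exists_nice (n : NData F E p) {P : Subgroup Ω} (hP : P ≤ S) :
    ∃ P' θ, Nice F T P' ∧ IsMap F (normalizerIn S P) θ ∧ IsIso F P P' θ ∧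
      ∀ g ∈ normalizerIn S P, θ g ∈ normalizerIn S P' := by
  obtain ⟨R, hR, hRn⟩ := exists_fullyNormalized (F := F) (inf_le_right.trans n.tS : P ⊓ T ≤ S)
  obtain ⟨θ₁, hθ₁, hθ₁R, hθ₁N⟩ := exists_normalizer_map n.pgroup
    (fullyAutomized_of_fullyNormalized n.pgroup n.sat hRn) (n.recv hRn) hR
  have hsub := normalizerIn_le_inf n.closed P
  have hPN : P ≤ normalizerIn S (P ⊓ T) := (le_normalizerIn hP).trans hsub
  obtain ⟨P₁, hP₁⟩ := (hθ₁.mono hPN).exists_image
  have hP₁T : P₁ ⊓ T = R := (isIso_inf n.closed hP₁).cod_unique hθ₁R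
  have hP₁N : P₁ ≤ normalizerIn S R := fun y hy => by
    obtain ⟨x, hx, rfl⟩ := hP₁.exists_preimage hy
    exact hθ₁N x (hPN hx)
  haveI := finite_of_le (Fusion.normalizerIn_le S R)
  have hNp := n.pgroup.to_le (Fusion.normalizerIn_le S R)
  have hNsat := normalizerSystem_isSaturated n.pgroup n.sat hRn
  set N := normalizerSystem F R hRn.1 with hN
  obtain ⟨P', hP'c, hP'n⟩ := exists_fullyNormalized (F := N) hP₁N
  obtain ⟨θ₂, hθ₂, hθ₂P, hθ₂N⟩ := exists_normalizer_map hNp
    (fullyAutomized_of_fullyNormalized hNp hNsat hP'n)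
    (receptive_of_fullyNormalized hNp hNsat hP'n) hP'c
  have hθ₂F : IsIso F P₁ P' θ₂ := ⟨(isMap_normalizerSystem.mp hθ₂P.1).1, hθ₂P.2⟩
  have hR₁ : R ≤ P₁ := hP₁T ▸ inf_le_left
  have hP'T : P' ⊓ T = R := by
    have h1 := isIso_inf n.closed hθ₂F
    rw [hP₁T] at h1
    exact h1.cod_unique ⟨hθ₂F.1.mono hR₁, image_of_normalizerSystem hθ₂P.1 hR₁⟩
  have hm : ∀ g ∈ normalizerIn S P, θ₁ g ∈ normalizerIn (normalizerIn S R) P₁ := fun g hg =>
    ⟨hθ₁N g (hsub hg), (map_mem_normalizer hθ₁ hPN hP₁.2 (hsub hg) hg.2).2⟩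
  have hθ : IsMap F (normalizerIn S P) (θ₂ ∘ θ₁) :=
    (hθ₁.mono hsub).comp (isMap_normalizerSystem.mp hθ₂).1 hm
  refine ⟨P', θ₂ ∘ θ₁, ?_, hθ, hP₁.comp hθ₂F, fun g hg => map_mem_normalizer hθ (le_normalizerIn hP)
    (hP₁.comp hθ₂F).2 hg hg.2⟩
  subst hP'T
  exact ⟨hRn, hP'n⟩

theorem Nice.receptive (n : NData F E p) {P : Subgroup Ω} (h : Nice F T P) : F.IsReceptive P :=
  receptive_of_fullyCentralized n.pgroup n.sat
    (fullyCentralized_of_normalizerSystem n.pgroup n.sat h.1 inf_le_left h.2)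

theorem Nice.automized (n : NData F E p) {P : Subgroup Ω} (h : Nice F T P) :
    F.IsFullyAutomized p P := by
  obtain ⟨hR, hP⟩ := h
  haveI := finite_of_le (Fusion.normalizerIn_le S (P ⊓ T))
  have hA := fullyAutomized_of_fullyNormalized (n.pgroup.to_le (Fusion.normalizerIn_le S (P ⊓ T)))
    (normalizerSystem_isSaturated n.pgroup n.sat hR) hP
  have hPS : P ≤ S := hP.1.trans inf_le_left
  have e1 : (normalizerSystem F (P ⊓ T) hR.1).autGroup P = F.autGroup P := by
    ext α
    rw [mem_stabAut hR.1 inf_le_left hP.1]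
    refine and_iff_left_of_imp fun hα => ?_
    exact (isIso_inf n.closed ((mem_autGroup hPS).mp hα)).2
  have e2 : autInducedBy (normalizerIn S (P ⊓ T)) P = autInducedBy S P := by
    refine le_antisymm (autInducedBy_mono (Fusion.normalizerIn_le _ _)) fun α hα => ?_
    obtain ⟨g, hg, hge⟩ := mem_autInducedBy.mp hα
    exact mem_autInducedBy.mpr
      ⟨g, normalizerIn_le_inf n.closed P ⟨hg, mem_normalizer_of_induces hge⟩, hge⟩
  obtain ⟨-, hU⟩ := hA
  rw [e1, e2] at hU
  exact ⟨hPS, hU⟩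

/-- `f` is a map trivial modulo `T` followed by a map defined on `P ⊔ T`. -/
def Fr (F : FusionSystem S) (E : FusionSystem T) (p : ℕ) (P : Subgroup Ω) (f : Ω → Ω) : Prop :=
  ∃ x g, TGen F E p P x ∧ IsMap F (P ⊔ T) g ∧ ∀ v ∈ P, f v = g (x v)

omit [Finite S] [Fact p.Prime] in
theorem Fr.congr {P : Subgroup Ω} {f f' : Ω → Ω} (h : Fr F E p P f) (he : Set.EqOn f f' P) :
    Fr F E p P f' := by
  obtain ⟨x, g, hx, hg, hxe⟩ := h
  exact ⟨x, g, hx, hg, fun v hv => (he hv).symm.trans (hxe v hv)⟩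

omit [Finite S] [Fact p.Prime] in
theorem Fr.mono (n : NData F E p) {P P' : Subgroup Ω} {f : Ω → Ω} (h : Fr F E p P f) (hle : P' ≤ P) :
    Fr F E p P' f := by
  obtain ⟨x, g, hx, hg, hxe⟩ := h
  exact ⟨x, g, hx.mono n hle, hg.mono (sup_le_sup_right hle T), fun v hv => hxe v (hle hv)⟩

omit [Finite S] [Fact p.Prime] in
theorem fr_of_map (n : NData F E p) {P : Subgroup Ω} {f g : Ω → Ω} (hP : P ≤ S)
    (hg : IsMap F (P ⊔ T) g) (he : Set.EqOn f g P) : Fr F E p P f :=
  ⟨id, g, tgen_id n hP, hg, fun _ hv => he hv⟩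

omit [Finite S] [Fact p.Prime] in
theorem fr_of_tgen (n : NData F E p) {P : Subgroup Ω} {f : Ω → Ω} (h : TGen F E p P f) :
    Fr F E p P f :=
  ⟨f, id, h, isMap_id (sup_le (h.dom_le n) n.tS), fun _ _ => rfl⟩

omit [Fact p.Prime] in
theorem Fr.comp (n : NData F E p) {P Q : Subgroup Ω} {f f' : Ω → Ω} (hf : Fr F E p P f)
    (hf' : Fr F E p Q f') (hm : ∀ v ∈ P, f v ∈ Q) : Fr F E p P (f' ∘ f) := by
  obtain ⟨x, g, hx, hg, hxe⟩ := hf
  obtain ⟨y, k, hy, hk, hye⟩ := hf'
  obtain ⟨X, hX⟩ := (hx.isMap n).exists_image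
  have hXT := hx.image_sup n hX.2
  have hgX : IsMap F (X ⊔ T) g := hXT.symm ▸ hg
  obtain ⟨P', hP'⟩ := (hgX.mono le_sup_left).exists_image
  obtain ⟨Y, hY⟩ := hgX.exists_image
  have hP'Q : P' ≤ Q := fun w hw => by
    obtain ⟨u, hu, rfl⟩ := hP'.exists_preimage hw
    obtain ⟨v, hv, rfl⟩ := hX.exists_preimage hu
    exact hxe v hv ▸ hm v hv
  obtain ⟨gi, hgi, hgl, hgr⟩ := hY.exists_inv
  have hP'Y : P' ⊔ T ≤ Y := by
    refine sup_le (fun w hw => ?_) fun t ht => ?_
    · obtain ⟨u, hu, rfl⟩ := hP'.exists_preimage hw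
      exact hY.mem (Subgroup.mem_sup_left hu)
    · haveI := n.finiteT
      obtain ⟨u, hu, rfl⟩ := surjOn_of_card_le (N := T) n.tS (hgX.injOn.mono fun u hu =>
          (Subgroup.mem_sup_right hu : u ∈ X ⊔ T))
        (fun u hu => Fusion92.closed_apply n.closed hgX (Subgroup.mem_sup_right hu) hu) le_rfl t ht
      exact hY.mem (Subgroup.mem_sup_right hu)
  have him : gi '' (P' : Set Ω) = (X : Set Ω) := by
    rw [← hP'.2, ← Set.image_comp]
    exact (Set.image_congr fun u hu => hgl u (Subgroup.mem_sup_left hu)).trans (Set.image_id' _)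
  obtain ⟨y', hy', hy'e⟩ := (hy.mono n hP'Q).transport n hgi.1 hP'Y him
  refine ⟨y' ∘ x, k ∘ g, hx.comp hy' fun v hv => hX.mem hv, ?_, fun v hv => ?_⟩
  · refine hg.comp hk fun u hu => ?_
    rw [← hXT] at hu
    refine isMap_mem_sup hgX le_sup_left le_sup_right (fun w hw => Subgroup.mem_sup_left ?_)
      (fun w hw => Subgroup.mem_sup_right
        (Fusion92.closed_apply n.closed hgX (Subgroup.mem_sup_right hw) hw)) u hu
    exact hP'Q (hP'.mem hw)
  · have hgxv : g (x v) ∈ P' := hP'.mem (hX.mem hv)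
    have h1 := hy'e _ hgxv
    rw [hgl _ (Subgroup.mem_sup_left (hX.mem hv))] at h1
    have hmem : y (g (x v)) ∈ Y :=
      hP'Y ((hy.mono n hP'Q).apply_mem_sup n hgxv)
    simp only [Function.comp_apply]
    rw [h1, hgr _ hmem, hxe v hv, hye _ (hP'Q hgxv)]

omit [Finite S] [Fact p.Prime] in
theorem card_lt_of_lt [Finite S] {A B : Subgroup Ω} (hB : B ≤ S) (hlt : A < B) :
    Nat.card A < Nat.card B := by
  haveI := finite_of_le hB
  by_contra hle
  exact hlt.ne (Subgroup.eq_of_le_of_card_ge hlt.le (not_lt.mp hle))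

/-- The automorphisms trivial modulo `T` lying in `E` on the part in `T`. -/
def modGrp (F : FusionSystem S) (E : FusionSystem T) {P : Subgroup Ω} (hP : P ≤ S)
    (hT : F.StronglyClosed T) : Subgroup (F.autGroup P) where
  carrier := {a | (∀ x ∈ P, x⁻¹ * autFun (a : MulAut P) x ∈ T) ∧ IsMap E (P ⊓ T) (autFun (a : MulAut P))}
  one_mem' := by
    refine ⟨fun x hx => ?_, ?_⟩
    · rw [Subgroup.coe_one, autFun_one hx]
      simp
    · exact (isMap_id inf_le_right).congr fun x hx => by rw [Subgroup.coe_one, autFun_one hx.1]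
  mul_mem' {a b} ha hb := by
    have hbi := (mem_autGroup hP).mp b.2
    refine ⟨fun x hx => ?_, ?_⟩
    · rw [Subgroup.coe_mul, autFun_mul _ _ hx, Function.comp_apply]
      have := T.mul_mem (hb.1 x hx) (ha.1 _ (hbi.mem hx))
      simpa [mul_assoc] using this
    · refine (hb.2.comp ha.2 fun x hx => ⟨hbi.mem hx.1,
        Fusion92.closed_apply hT hbi.1 hx.1 hx.2⟩).congr fun x hx => ?_
      rw [Subgroup.coe_mul, autFun_mul _ _ hx.1]
  inv_mem' {a} ha := by
    have hai := (mem_autGroup hP).mp a.2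
    have hi : ∀ x ∈ P, autFun ((a : MulAut P)⁻¹) (autFun (a : MulAut P) x) = x := fun x hx =>
      PrimeIndex.autFun_inv_apply _ hx
    refine ⟨fun y hy => ?_, ?_⟩
    · obtain ⟨x, hx, rfl⟩ := hai.exists_preimage hy
      rw [Subgroup.coe_inv, hi x hx]
      simpa using T.inv_mem (ha.1 x hx)
    · have h1 : IsIso E (P ⊓ T) (P ⊓ T) (autFun (a : MulAut P)) := ⟨ha.2, (isIso_inf hT hai).2⟩
      obtain ⟨k, hk, hkl, -⟩ := h1.exists_inv
      refine hk.1.congr fun y hy => ?_
      obtain ⟨x, hx, rfl⟩ := h1.exists_preimage hy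
      rw [hkl x hx, Subgroup.coe_inv, hi x hx.1]

theorem mem_modGrp {P : Subgroup Ω} {hP : P ≤ S} {hT : F.StronglyClosed T} {a : F.autGroup P} :
    a ∈ modGrp F E hP hT ↔
      (∀ x ∈ P, x⁻¹ * autFun (a : MulAut P) x ∈ T) ∧ IsMap E (P ⊓ T) (autFun (a : MulAut P)) :=
  Iff.rfl

set_option maxHeartbeats 800000 in
theorem modGrp_normal (n : NData F E p) {P : Subgroup Ω} (hP : P ≤ S) :
    (modGrp F E hP n.closed).Normal := by
  refine ⟨fun a ha b => ?_⟩
  have hbi := (mem_autGroup hP).mp b.2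
  have hai := (mem_autGroup hP).mp a.2
  have hbT := isIso_inf n.closed hbi
  have hval : ∀ x ∈ P, autFun ((b * a * b⁻¹ : F.autGroup P) : MulAut P) (autFun (b : MulAut P) x) =
      autFun (b : MulAut P) (autFun (a : MulAut P) x) := fun x hx => by
    rw [Subgroup.coe_mul, Subgroup.coe_mul, Subgroup.coe_inv, autFun_mul _ _ (hbi.mem hx),
      Function.comp_apply, PrimeIndex.autFun_inv_apply _ hx, autFun_mul _ _ hx, Function.comp_apply]
  refine ⟨fun y hy => ?_, ?_⟩
  · obtain ⟨x, hx, rfl⟩ := hbi.exists_preimage hy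
    rw [hval x hx, ← hbi.1.map_inv hx, ← hbi.1.map_mul (P.inv_mem hx) (hai.mem hx)]
    exact Fusion92.closed_apply n.closed hbi.1 (P.mul_mem (P.inv_mem hx) (hai.mem hx)) (ha.1 x hx)
  · obtain ⟨χ, hχ, hχe⟩ := n.strongInv (P ⊓ T) (P ⊓ T) (P ⊓ T) _ _ le_rfl inf_le_right ha.2
      (fun x hx => ⟨hai.mem hx.1, Fusion92.closed_apply n.closed hai.1 hx.1 hx.2⟩) hbT.1 hbT
    refine hχ.congr fun y hy => ?_
    obtain ⟨x, hx, rfl⟩ := hbT.exists_preimage hy
    rw [hχe x hx, hval x hx.1]

set_option maxHeartbeats 1600000 in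
/-- Every automorphism of a subgroup in good position, not containing `T`, decomposes. -/
theorem fr_aut (n : NData F E p) {P : Subgroup Ω} (hn : Nice F T P) (hPT : ¬ T ≤ P)
    (hbig : ∀ Q f, IsMap F Q f → Nat.card P < Nat.card Q → Fr F E p Q f) {θ : Ω → Ω}
    (hθ : IsIso F P P θ) : Fr F E p P θ := by
  have hPS := hn.le
  haveI := finite_of_le hPS
  haveI := finite_mulAut P
  have hrec := hn.receptive n
  obtain ⟨-, Y, hY⟩ := hn.automized n
  set U := P ⊓ T with hU
  -- extension to a larger extendable subgroup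
  have hext : ∀ {ν : Ω → Ω} {M : Subgroup Ω}, IsIso F P P ν → IsExtendable S P ν M → ¬ M ≤ P →
      Fr F E p P ν := by
    intro ν M hν hM hne
    obtain ⟨f', hf', he⟩ := receptive_extend hrec hν hM
    refine ((hbig _ f' hf' (card_lt_of_lt (hf'.dom_le) (lt_of_le_of_ne le_sup_left fun e => hne
      (le_sup_right.trans e.ge)))).mono n le_sup_left).congr he
  obtain ⟨α, hα, hαe⟩ := hθ.exists_aut
  refine Fr.congr ?_ hαe
  by_cases hc : centralizerIn T U ≤ U
  · have hct : CT F T U := ct_of_fullyNormalized n hn.1 inf_le_right hc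
    set B := modGrp F E hPS n.closed with hB
    haveI : B.Normal := modGrp_normal n hPS
    obtain ⟨YB, hYB⟩ := Transfer.exists_sylow_subgroupOf_normal Y B
    have htop := Sylow.normalizer_sup_eq_top (N := B) YB
    obtain ⟨ν, hν, b, hb, hνb⟩ :=
      Subgroup.mem_sup_of_normal_right.mp (htop.ge (Subgroup.mem_top ⟨α, hα⟩))
    have hbFr : Fr F E p P (autFun (b : MulAut P)) := by
      let H : Subgroup B :=
        { carrier := {c | Fr F E p P (autFun ((c : F.autGroup P) : MulAut P))}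
          one_mem' := (fr_of_map n hPS (isMap_id (sup_le hPS n.tS)) (autFun_one (P := P)))
          mul_mem' := fun {c d} hc' hd => ((Fr.comp n hd hc' fun v hv => PrimeIndex.autFun_mem _ hv).congr
            (autFun_mul _ _).symm : _)
          inv_mem' := fun {c} hc' => by
            obtain ⟨k, hk⟩ : ∃ k : ℕ, c⁻¹ = c ^ k := ⟨orderOf c - 1, by
              rw [inv_eq_iff_mul_eq_one, ← pow_succ', Nat.sub_add_cancel (orderOf_pos c),
                pow_orderOf_eq_one]⟩
            show Fr F E p P (autFun (((c⁻¹ : B) : F.autGroup P) : MulAut P))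
            rw [hk]
            clear hk
            induction k with
            | zero => rw [pow_zero]; exact fr_of_map n hPS (isMap_id (sup_le hPS n.tS)) autFun_one
            | succ k ih =>
              rw [pow_succ']
              exact (Fr.comp n ih hc' fun v hv => PrimeIndex.autFun_mem _ hv).congr
                (autFun_mul _ _).symm }
      have hHtop : H = ⊤ := eq_top_of_sylow_coprime YB H (fun c hc' => ?_) fun c hc' => ?_
      · exact hHtop.ge (Subgroup.mem_top (⟨b, hb⟩ : B))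
      · rw [hYB, Subgroup.mem_subgroupOf, hY, Subgroup.mem_subgroupOf, mem_autInducedBy] at hc'
        obtain ⟨s, hs, hse⟩ := hc'
        exact fr_of_map n hPS (isMap_conj (sup_le hPS n.tS) hs) fun v hv =>
          (autFun_of_mem _ hv).trans (hse ⟨v, hv⟩)
      · refine fr_of_tgen n (.aut ⟨(mem_autGroup hPS).mp (c : F.autGroup P).2, hct,
          cop_of_pow (β := ((c : F.autGroup P) : MulAut P)) ?_ le_rfl, c.2.1, c.2.2⟩ le_rfl)
        rwa [Subgroup.orderOf_coe, Subgroup.orderOf_coe]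
    have hνFr : Fr F E p P (autFun (ν : MulAut P)) := by
      have hiso := (mem_autGroup hPS).mp ν.2
      have hsub : normalizerIn T P ≤ normalizerIn S P := inf_le_inf_right _ n.tS
      refine hext hiso (M := normalizerIn T P) ⟨(Fusion.normalizerIn_le T P).trans n.tS,
        fun g hg => ⟨hg.2, ?_⟩⟩ fun hle => ?_
      · rw [← congr_autInducedBy_mem hiso (hsub hg)]
        have hS' : conjAutHom S P ⟨g, hsub hg⟩ ∈ autInducedBy S P := by
          rw [← range_conjAutHom]; exact ⟨_, rfl⟩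
        let c : F.autGroup P := ⟨_, autInducedBy_le_autGroup hPS hS'⟩
        have hcB : c ∈ B := by
          have hce : ∀ x ∈ P, autFun (c : MulAut P) x = g * x * g⁻¹ := fun x hx => by
            rw [autFun_of_mem _ hx]; rfl
          refine ⟨fun x hx => ?_, (isMap_conj inf_le_right hg.1).congr fun x hx => (hce x hx.1).symm⟩
          rw [hce x hx, show x⁻¹ * (g * x * g⁻¹) = x⁻¹ * g * x * g⁻¹ by group]
          refine T.mul_mem ?_ (T.inv_mem hg.1)
          simpa using n.conj_t (S.inv_mem (hPS hx)) hg.1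
        have hc' : c ∈ (YB : Subgroup B).map B.subtype := by
          rw [hYB]
          exact ⟨⟨c, hcB⟩, by
            show c ∈ (Y : Subgroup (F.autGroup P))
            rw [hY]; exact Subgroup.mem_subgroupOf.mpr hS', rfl⟩
        have h1 := (Subgroup.mem_normalizer_iff.mp hν c).mp hc'
        rw [hYB, Subgroup.subgroupOf_map_subtype] at h1
        have h2 := h1.1
        rw [hY] at h2
        have e : hiso.equiv = (ν : MulAut P) := MulEquiv.ext fun x => Subtype.ext (by
          rw [hiso.equiv_apply, autFun_coe])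
        rw [e]
        exact h2
      · -- `T` normalises no proper intersection
        have hlt : P < P ⊔ T := lt_of_le_of_ne le_sup_left fun e => hPT (le_sup_right.trans e.ge)
        have hXS : P ⊔ T ≤ S := sup_le hPS n.tS
        haveI := finite_of_le hXS
        obtain ⟨d, hd, hdP⟩ := SetLike.exists_of_lt (lt_normalizerIn (n.pgroup.to_le hXS) hlt)
        have hd1 : (d : Ω) ∈ ((P ⊔ T : Subgroup Ω) : Set Ω) := hd.1
        rw [Subgroup.coe_mul_of_left_le_normalizer_right P T (hPS.trans n.s_le)] at hd1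
        obtain ⟨q, hq, t, ht, rfl⟩ := hd1
        have htN : t ∈ Subgroup.normalizer (P : Set Ω) := by
          have := Subgroup.mul_mem _ (Subgroup.inv_mem _ (Subgroup.le_normalizer hq)) hd.2
          rwa [inv_mul_cancel_left] at this
        exact hdP (P.mul_mem hq (hle ⟨ht, htN⟩))
    refine (Fr.comp n hbFr hνFr fun v hv => PrimeIndex.autFun_mem _ hv).congr fun v hv => ?_
    rw [← autFun_mul _ _ hv, ← Subgroup.coe_mul, hνb]
  · -- the automorphisms fixing `P ∩ T` and trivial modulo it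
    set N₀ := fixMod P U ⊓ F.autGroup P with hN₀
    have hinv : ∀ b ∈ F.autGroup P, ∀ x : P, (x : Ω) ∈ U → ((b x : P) : Ω) ∈ U := fun b hb x hx => by
      rw [← autFun_coe b x]
      exact (isIso_inf n.closed ((mem_autGroup hPS).mp hb)).mem hx
    have hN₀n : (N₀.subgroupOf (F.autGroup P)).Normal := by
      rw [hN₀, Subgroup.inf_subgroupOf_right]
      exact fixMod_normal _ hinv
    have hind : N₀ ≤ autInducedBy S P := by
      have hle : N₀.subgroupOf (F.autGroup P) ≤ Y := @IsPGroup.le_sylow_of_normal p _ _ _ hN₀n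
        (((fixMod_isPGroup (n.pgroup.to_le hPS)).to_le inf_le_left).comap_of_injective _
          (Subgroup.subtype_injective _)) Y
      intro a ha
      have := hle (Subgroup.mem_subgroupOf.mpr ha : (⟨a, ha.2⟩ : F.autGroup P) ∈ N₀.subgroupOf (F.autGroup P))
      rwa [hY, Subgroup.mem_subgroupOf] at this
    set K := (N₀.comap (conjAutHom S P)).map (normalizerIn S P).subtype with hK
    have hαi := (mem_autGroup hPS).mp hα
    refine hext hαi (M := K) ⟨(Subgroup.map_subtype_le _).trans (Fusion.normalizerIn_le _ _),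
      fun g hg => ?_⟩ fun hle => ?_
    · obtain ⟨⟨g, hgN⟩, hgc, rfl⟩ := hg
      simp only [Subgroup.coe_subtype]
      refine ⟨hgN.2, ?_⟩
      rw [← congr_autInducedBy_mem hαi hgN]
      have e : hαi.equiv = α := MulEquiv.ext fun x => Subtype.ext (by
        rw [hαi.equiv_apply, autFun_coe])
      rw [e]
      refine hind (Subgroup.mem_subgroupOf.mp (hN₀n.conj_mem ⟨_, hgc.2⟩
        (Subgroup.mem_subgroupOf.mpr hgc) ⟨α, hα⟩))
    · obtain ⟨z, hz, hzU⟩ := SetLike.not_le_iff_exists.mp hc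
      have hCP : P ≤ Subgroup.normalizer (centralizerIn T U : Set Ω) := fun x hx => by
        haveI := finite_of_le ((centralizerIn_le T U).trans n.tS)
        refine Subgroup.mem_normalizer_fintype fun c hc' => ⟨n.conj_t (hPS hx) hc'.1,
          Subgroup.mem_centralizer_iff.mpr fun u hu => ?_⟩
        have h1 : x⁻¹ * u * x ∈ U := ⟨P.mul_mem (P.mul_mem (P.inv_mem hx) hu.1) hx,
          Fusion92.conj_inv_mem_closed n.closed (hPS hx) hu.2⟩
        have h2 := Subgroup.mem_centralizer_iff.mp hc'.2 _ h1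
        calc u * (x * c * x⁻¹) = x * ((x⁻¹ * u * x) * c) * x⁻¹ := by group
          _ = x * (c * (x⁻¹ * u * x)) * x⁻¹ := by rw [h2]
          _ = x * c * x⁻¹ * u := by group
      have hlt : P < P ⊔ centralizerIn T U := lt_of_le_of_ne le_sup_left fun e => hzU
        ⟨e.ge (Subgroup.mem_sup_right hz), hz.1⟩
      have hXS : P ⊔ centralizerIn T U ≤ S := sup_le hPS ((centralizerIn_le T U).trans n.tS)
      haveI := finite_of_le hXS
      obtain ⟨d, hd, hdP⟩ := SetLike.exists_of_lt (lt_normalizerIn (n.pgroup.to_le hXS) hlt)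
      have hd1 : (d : Ω) ∈ ((P ⊔ centralizerIn T U : Subgroup Ω) : Set Ω) := hd.1
      rw [Subgroup.coe_mul_of_left_le_normalizer_right P (centralizerIn T U) hCP] at hd1
      obtain ⟨q, hq, c, hc', rfl⟩ := hd1
      have hcN : c ∈ normalizerIn S P := ⟨n.tS hc'.1, by
        have := Subgroup.mul_mem _ (Subgroup.inv_mem _ (Subgroup.le_normalizer hq)) hd.2
        rwa [inv_mul_cancel_left] at this⟩
      refine hdP (P.mul_mem hq (hle ⟨⟨c, hcN⟩, ⟨⟨fun x hx => Subtype.ext ?_, fun x => ?_⟩, ?_⟩, rfl⟩))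
      · rw [conjAutHom_apply]
        show c * (x : Ω) * c⁻¹ = x
        rw [← Subgroup.mem_centralizer_iff.mp hc'.2 _ hx, mul_inv_cancel_right]
      · refine ⟨((x⁻¹ * conjAutHom S P ⟨c, hcN⟩ x : P)).2, ?_⟩
        show (x : Ω)⁻¹ * (c * x * c⁻¹) ∈ T
        rw [show (x : Ω)⁻¹ * (c * x * c⁻¹) = (x : Ω)⁻¹ * c * x * c⁻¹ by group]
        refine T.mul_mem ?_ (T.inv_mem hc'.1)
        simpa using n.conj_t (S.inv_mem (hPS x.2)) hc'.1
      · exact autInducedBy_le_autGroup hPS (by rw [← range_conjAutHom]; exact ⟨_, rfl⟩)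

/-- The Frattini lemma. -/
theorem frattini (n : NData F E p) : ∀ P f, IsMap F P f → Fr F E p P f := by
  suffices key : ∀ k P f, IsMap F P f → Nat.card S - Nat.card P = k → Fr F E p P f from
    fun P f hf => key _ P f hf rfl
  intro k
  induction k using Nat.strong_induction_on with
  | _ k ih =>
  intro P f hf hk
  have hPS := hf.dom_le
  by_cases hTP : T ≤ P
  · exact fr_of_map n hPS (hf.mono (sup_le le_rfl hTP)) fun _ _ => rfl
  have hbig : ∀ Q g, IsMap F Q g → Nat.card P < Nat.card Q → Fr F E p Q g := fun Q g hg hlt =>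
    ih _ (by have := Subgroup.card_le_of_le hg.dom_le; omega) Q g hg rfl
  have hgrow : ∀ {A : Subgroup Ω}, A ≤ S → Nat.card A = Nat.card P → Nat.card P < Nat.card (normalizerIn S A) := by
    intro A hA hcard
    have hne : A < S := lt_of_le_of_ne hA fun e => by
      subst e
      haveI := finite_of_le hPS
      exact hTP ((Subgroup.eq_of_le_of_card_ge hPS hcard.le).symm ▸ n.tS)
    exact hcard ▸ card_lt_of_lt (Fusion.normalizerIn_le S A) (lt_normalizerIn n.pgroup hne)
  obtain ⟨P', u, hP', hu, huP, -⟩ := exists_nice n hPS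
  obtain ⟨I, hI⟩ := hf.exists_image
  obtain ⟨v, hv, hvI, -⟩ := exists_normalizer_map n.pgroup (hP'.automized n) (hP'.receptive n)
    (isConj_trans (isConj_symm hI.isConj) huP.isConj)
  obtain ⟨J, hJ⟩ := hv.exists_image
  obtain ⟨vi, hvi, hvil, -⟩ := hJ.exists_inv
  obtain ⟨ui, hui, huil, -⟩ := huP.exists_inv
  have hIN : I ≤ normalizerIn S I := le_normalizerIn hI.cod_le
  have hP'J : P' ≤ J := fun y hy => by
    obtain ⟨x, hx, rfl⟩ := hvI.exists_preimage hy
    exact hJ.mem (hIN hx)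
  have hCu : Fr F E p P u :=
    (hbig _ u hu (hgrow hPS rfl)).mono n (le_normalizerIn hPS)
  have hCv : Fr F E p P' vi := (hbig J vi hvi.1 (by
    rw [← hJ.card_eq]
    exact hgrow hI.cod_le hI.card_eq.symm)).mono n hP'J
  have hθ : IsIso F P' P' (v ∘ f ∘ ui) := (hui.comp hI).comp hvI
  have hP'T : ¬ T ≤ P' := fun hle => by
    apply hTP
    intro t ht
    haveI := n.finiteT
    have h1 := isIso_inf n.closed huP
    rw [inf_eq_right.mpr hle] at h1
    have : P ⊓ T = T := Subgroup.eq_of_le_of_card_ge inf_le_right h1.card_eq.ge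
    exact (this.ge ht).1
  have hCθ := fr_aut n hP' hP'T (fun Q g hg hlt => hbig Q g hg (huP.card_eq ▸ hlt)) hθ
  refine ((hCu.comp n hCθ fun x hx => huP.mem hx).comp n hCv fun x hx => hθ.mem (huP.mem hx)).congr
    fun x hx => ?_
  simp only [Function.comp_apply]
  rw [huil x hx, hvil _ (hIN (hI.mem hx))]

/-- The generated maps are carried by every map to generated maps. -/
theorem TGen.strongInv (n : NData F E p) {P P' : Subgroup Ω} {f g : Ω → Ω} (h : TGen F E p P f)
    (hst : ∀ v ∈ P, f v ∈ P) (hg : IsIso F P P' g) :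
    ∃ k, TGen F E p P' k ∧ ∀ v ∈ P, k (g v) = g (f v) := by
  obtain ⟨x, k₀, hx, hk₀, hxe⟩ := frattini n P g hg.1
  obtain ⟨X, hX⟩ := (hx.isMap n).exists_image
  obtain ⟨xi, hxi, hxil, -⟩ := hX.exists_inv
  have hxiT : TGen F E p X xi := .inv hx hX.2 hxil
  have h1 : TGen F E p X (x ∘ f ∘ xi) := (hxiT.comp h fun v hv => hxi.mem hv).comp hx
    fun v hv => hst _ (hxi.mem hv)
  have hXT := hx.image_sup n hX.2
  have him : k₀ '' (X : Set Ω) = (P' : Set Ω) := by
    rw [← hX.2, ← Set.image_comp, ← hg.2]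
    exact Set.image_congr fun v hv => (hxe v hv).symm
  obtain ⟨k, hk, hke⟩ := h1.transport n hk₀ hXT.le him
  refine ⟨k, hk, fun v hv => ?_⟩
  rw [hxe v hv, hke _ (hX.mem hv), hxe _ (hst v hv)]
  simp only [Function.comp_apply, hxil v hv]

end Finite

end Cfsg.Agent.Fusion.Prod
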