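import Cfsg.Agent.Lib.Fusion.Prod.Extend
import Cfsg.Agent.Lib.Fusion.SatCriterion

/-!
# Automizers in the system of maps trivial modulo `T`

If all subgroups larger than `P` satisfy the saturation axioms then every automorphism of a fully
normalized `P` is a product of conjugations by elements of `S` and automorphisms of order prime to `p`.
-/

set_option autoImplicit false
set_option linter.style.haveILetI false

namespace Cfsg.Agent.Fusion.Prod

open Cfsg Cfsg.Agent.Fusion Cfsg.Agent.Fusion.NormalLift Cfsg.Agent.Fusion.Inter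
open Cfsg.Agent.Fusion.SatCrit
open Cfsg.FusionSystem (normalizerIn centralizerIn)

variable {Ω : Type*} [Group Ω] {S T : Subgroup Ω} {F : FusionSystem S} {E : FusionSystem T} {p : ℕ}
  [Finite S]

/-- The subgroup generated by the automorphisms of order prime to `p`. -/
def oGrp (n : NData F E p) (P : Subgroup Ω) : Subgroup (MulAut P) :=
  Subgroup.closure {a | a ∈ (pSys n).autGroup P ∧ (orderOf a).Coprime p}

/-- Conjugations by elements of `S` with the automorphisms of order prime to `p`. -/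
def gam (n : NData F E p) (P : Subgroup Ω) : Subgroup (MulAut P) := autInducedBy S P ⊔ oGrp n P

/-- The restriction of `u` to `P` lies in `gam`. -/
def InGam (n : NData F E p) (P : Subgroup Ω) (u : Ω → Ω) : Prop :=
  ∃ α ∈ gam n P, Set.EqOn (autFun α) u P

theorem InGam.congr {n : NData F E p} {P : Subgroup Ω} {u v : Ω → Ω} (h : InGam n P u)
    (he : Set.EqOn u v P) : InGam n P v :=
  let ⟨α, hα, hαe⟩ := h
  ⟨α, hα, hαe.trans he⟩

theorem InGam.comp {n : NData F E p} {P : Subgroup Ω} {u v : Ω → Ω} (hu : InGam n P u)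
    (hv : InGam n P v) : InGam n P (v ∘ u) := by
  obtain ⟨α, hα, hαe⟩ := hu
  obtain ⟨β, hβ, hβe⟩ := hv
  refine ⟨β * α, Subgroup.mul_mem _ hβ hα, fun x hx => ?_⟩
  rw [autFun_mul _ _ hx, Function.comp_apply, Function.comp_apply, ← hαe hx]
  exact hβe (autFun_mem_self α hx)

theorem InGam.inv {n : NData F E p} {P : Subgroup Ω} {u v : Ω → Ω} (hu : InGam n P u)
    (hvu : ∀ x ∈ P, v (u x) = x) : InGam n P v := by
  obtain ⟨α, hα, hαe⟩ := hu
  refine ⟨α⁻¹, Subgroup.inv_mem _ hα, fun y hy => ?_⟩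
  obtain ⟨x, rfl⟩ : ∃ x : P, ((α x : P) : Ω) = y := ⟨α⁻¹ ⟨y, hy⟩, by rw [MulAut.apply_inv_self]⟩
  rw [autFun_coe, MulAut.inv_apply_self, ← autFun_coe α x, hαe x.2, hvu x x.2]

theorem inGam_conj (n : NData F E p) {P : Subgroup Ω} {g : Ω} (hg : g ∈ normalizerIn S P) :
    InGam n P fun x => g * x * g⁻¹ :=
  ⟨conjAutHom S P ⟨g, hg⟩, Subgroup.mem_sup_left (by rw [← range_conjAutHom]; exact ⟨_, rfl⟩),
    fun x hx => by rw [autFun_of_mem _ hx]; rfl⟩

theorem inGam_cop (n : NData F E p) {P : Subgroup Ω} {u : Ω → Ω} (hu : IsIso (pSys n) P P u)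
    (hc : Cop p P u) : InGam n P u := by
  obtain ⟨α, hα, hαe⟩ := hu.exists_aut
  exact ⟨α, Subgroup.mem_sup_right (Subgroup.subset_closure ⟨hα, orderOf_coprime_of_cop hc hαe⟩), hαe⟩

theorem isMap_tgen {n : NData F E p} {P : Subgroup Ω} {f : Ω → Ω} (h : TGen F E p P f) :
    IsMap (pSys n) P f :=
  isMap_pSys.mpr (dmap_of_tgen h)

theorem MCo.isIso_pSys (n : NData F E p) {P : Subgroup Ω} {f : Ω → Ω} (h : MCo F E p P f) :
    IsIso (pSys n) P P f :=
  ⟨isMap_tgen (.aut h le_rfl), h.iso.2⟩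

variable [Fact p.Prime]

/-- An automorphism of order prime to `p` of a subgroup with centric part in `T`. -/
theorem mco_of_cop (n : NData F E p) {P : Subgroup Ω} {f : Ω → Ω} (h : IsIso (pSys n) P P f)
    (hct : CT F T (P ⊓ T)) (hc : Cop p P f) : MCo F E p P f := by
  have ht := tgen_of_cop n (isMap_pSys.mp h.1) (fun v hv => h.mem hv) hc
  exact ⟨Prod.isIso_pSys h, hct, hc, ht.mod n, ht.emap n⟩

variable {P₀ : Subgroup Ω}

/-- Conjugates under generated maps are joined. -/
theorem joined_tgen (n : NData F E p) (h : Crit (pSys n) p P₀) {R : Subgroup Ω} {f : Ω → Ω}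
    (hf : TGen F E p R f) : ∀ x y, x ≤ R → (pSys n).IsConj P₀ x → IsIso (pSys n) x y f →
      Joined (pSys n) x y := by
  induction hf with
  | @aut P Q f ha hle =>
    intro x y hx hxP hxy
    by_cases hxe : x = P
    · subst hxe
      obtain rfl : y = x := hxy.cod_unique (ha.isIso_pSys n)
      exact ⟨_, id, id, isMap_id (Fusion.normalizerIn_le _ _), isIso_id hxy.dom_le,
        isMap_id (Fusion.normalizerIn_le _ _), isIso_id hxy.dom_le⟩
    · have hxQ : x ≤ P := hx.trans hle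
      have hPS := ha.iso.dom_le
      haveI := finite_of_le hPS
      exact h.joined_step x y _ f ((ha.isIso_pSys n).1.mono (Fusion.normalizerIn_le P x))
        (lt_normalizerIn (h.pgroup.to_le hPS) (lt_of_le_of_ne hxQ hxe))
        (inf_le_inf_right _ hPS) hxP hxy
  | @conj P t hP ht =>
    intro x y _ _ hxy
    exact joined_of_map (isMap_conj (Fusion.normalizerIn_le S x) (n.tS ht)) hxy
  | @comp P Q f g hf hg hm ih1 ih2 =>
    intro x y hx hxP hxy
    obtain ⟨u, hu⟩ := ((isMap_tgen (n := n) hf).mono hx).exists_image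
    have huQ : u ≤ Q := fun w hw => by
      obtain ⟨v, hv, rfl⟩ := hu.exists_preimage hw
      exact hm v (hx hv)
    refine h.joined_trans' (isConj_trans hxP hu.isConj) (ih1 x u hx hxP hu)
      (ih2 u y huQ (isConj_trans hxP hu.isConj) ⟨(isMap_tgen (n := n) hg).mono huQ, ?_⟩)
    rw [← hu.2, ← Set.image_comp]
    exact hxy.2
  | @inv P Q f g hf him hgl ih =>
    intro x y hx hxP hxy
    have hyP : y ≤ P := fun w hw => by
      obtain ⟨v, hv, rfl⟩ := hxy.exists_preimage hw
      obtain ⟨u, hu, rfl⟩ : v ∈ f '' (P : Set Ω) := him ▸ hx hv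
      rwa [hgl u hu]
    refine (ih y x hyP (isConj_trans hxP hxy.isConj) ⟨(isMap_tgen (n := n) hf).mono hyP, ?_⟩).symm
    rw [← hxy.2, ← Set.image_comp]
    refine (Set.image_congr fun v hv => ?_).trans (Set.image_id' _)
    obtain ⟨w, hw, rfl⟩ : v ∈ f '' (P : Set Ω) := him ▸ hx hv
    simp only [Function.comp_apply, hgl w hw]
  | @congr P f g _ he ih =>
    intro x y hx hxP hxy
    exact ih x y hx hxP (hxy.congr (he.mono hx).symm)

/-- Maps of normalizers onto a fully normalized conjugate. -/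
theorem exists_to (n : NData F E p) (h : Crit (pSys n) p P₀) {P x : Subgroup Ω}
    (hP : (pSys n).IsFullyNormalized P) (hPc : (pSys n).IsConj P₀ P) (hx : (pSys n).IsConj P₀ x) :
    ∃ a, IsMap (pSys n) (normalizerIn S x) a ∧ IsIso (pSys n) x P a := by
  obtain ⟨f, hf⟩ := isConj_iff.mp (isConj_trans (isConj_symm hx) hPc)
  obtain ⟨s, hs, y, hy, hye⟩ := isMap_pSys.mp hf.1
  obtain ⟨w, hw⟩ := (isMap_tgen (n := n) hy).exists_image
  have hwP : IsIso (pSys n) w P (fun v => s * v * s⁻¹) := by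
    refine ⟨isMap_conj hw.cod_le hs, ?_⟩
    rw [← hw.2, ← Set.image_comp, ← hf.2]
    exact Set.image_congr fun v hv => (hye v hv).symm
  have hj : Joined (pSys n) x P := h.joined_trans' (isConj_trans hx hw.isConj)
    (joined_tgen n h hy x w le_rfl hx hw)
    (joined_of_map (isMap_conj (Fusion.normalizerIn_le S w) hs) hwP)
  obtain ⟨C, a, b, ha, ha', hb, hb'⟩ := hj
  have hbm : ∀ g ∈ normalizerIn S P, b g ∈ normalizerIn S C := fun g hg =>
    normalizer_map_mem hb hb' (le_normalizerIn hb'.dom_le) le_rfl hg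
  have hbN : IsIso (pSys n) (normalizerIn S P) (normalizerIn S C) b :=
    ⟨hb, Set.Subset.antisymm (fun y ⟨g, hg, e⟩ => e ▸ hbm g hg)
      (fun y hy => surjOn_of_card_le (Fusion.normalizerIn_le _ _) hb.injOn hbm (hP.2 C hb'.isConj) y hy)⟩
  obtain ⟨bi, hbi, hbil, -⟩ := hbN.exists_inv
  refine ⟨bi ∘ a, ha.comp hbi.1 fun g hg =>
    normalizer_map_mem ha ha' (le_normalizerIn ha'.dom_le) le_rfl hg, ha'.comp ?_⟩
  refine ⟨hbi.1.mono (le_normalizerIn hb'.cod_le), ?_⟩
  rw [← hb'.2, ← Set.image_comp]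
  exact (Set.image_congr fun v hv => hbil v (le_normalizerIn hb'.dom_le hv)).trans (Set.image_id' _)

/-- Transport of the stabilizer of `z` in the automizer of `R` to `P`. -/
theorem inGam_stab (n : NData F E p) {R z P : Subgroup Ω} (hR : R ≤ S) (hz : z ≤ R)
    (V : Sylow p (stab (pSys n) R z hR hz))
    (hV : ∀ a ∈ V, ((a : (pSys n).autGroup R) : MulAut R) ∈ autInducedBy S R)
    {χ χi : Ω → Ω} (hχ : IsMap (pSys n) (normalizerIn S z) χ) (hχz : IsIso (pSys n) z P χ)
    (hχi : IsIso (pSys n) P z χi) (hl : ∀ v ∈ z, χi (χ v) = v) {δ : MulAut R}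
    (hδ : δ ∈ (pSys n).autGroup R) (hδz : autFun δ '' (z : Set Ω) = (z : Set Ω)) :
    InGam n P (χ ∘ autFun δ ∘ χi) := by
  haveI := finite_of_le hR
  haveI := finite_mulAut R
  have hzi : ∀ a : stab (pSys n) R z hR hz, IsIso (pSys n) z z (autFun ((a : (pSys n).autGroup R) : MulAut R)) :=
    fun a => ⟨((mem_autGroup hR).1 (a : (pSys n).autGroup R).2).1.mono hz, a.2⟩
  have hPS : P ≤ S := hχz.cod_le
  let H : Subgroup (stab (pSys n) R z hR hz) :=
    { carrier := {a | InGam n P (χ ∘ autFun ((a : (pSys n).autGroup R) : MulAut R) ∘ χi)}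
      one_mem' := by
        refine (inGam_conj n (g := 1) (Subgroup.one_mem _)).congr fun v hv => ?_
        obtain ⟨w, hw, rfl⟩ := hχz.exists_preimage hv
        simp only [Function.comp_apply, Subgroup.coe_one, hl w hw, autFun_one (hz hw), id_eq]
        group
      mul_mem' := fun {a b} ha hb => by
        refine (InGam.comp hb ha).congr fun v hv => ?_
        have hb' : autFun ((b : (pSys n).autGroup R) : MulAut R) (χi v) ∈ z := (hzi b).mem (hχi.mem hv)
        simp only [Function.comp_apply, hl _ hb', Subgroup.coe_mul]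
        rw [autFun_mul _ _ (hz (hχi.mem hv))]
        rfl
      inv_mem' := fun {a} ha => by
        refine InGam.inv ha fun v hv => ?_
        have hw := hχi.mem hv
        have ha' : autFun ((a : (pSys n).autGroup R) : MulAut R) (χi v) ∈ z := (hzi a).mem hw
        simp only [Function.comp_apply, hl _ ha', Subgroup.coe_inv,
          PrimeIndex.autFun_inv_apply _ (hz hw)]
        obtain ⟨u, hu, rfl⟩ := hχz.exists_preimage hv
        rw [hl u hu] }
  have hH : H = ⊤ := eq_top_of_sylow_coprime V H (fun a ha => ?_) fun a ha => ?_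
  · exact hH.ge (Subgroup.mem_top (⟨⟨δ, hδ⟩, hδz⟩ : stab (pSys n) R z hR hz))
  · obtain ⟨t, ht, hte⟩ := mem_autInducedBy.1 (hV a ha)
    have heq : ∀ v ∈ z, autFun ((a : (pSys n).autGroup R) : MulAut R) v = t * v * t⁻¹ := fun v hv =>
      (autFun_of_mem _ (hz hv)).trans (hte ⟨v, hz hv⟩)
    have htN : t ∈ normalizerIn S z := by
      haveI := finite_of_le (hz.trans hR)
      exact ⟨ht, Subgroup.mem_normalizer_fintype fun v hv => heq v hv ▸ (hzi a).mem hv⟩
    refine (inGam_conj n (normalizer_map_mem hχ hχz (le_normalizerIn hχz.dom_le) le_rfl htN)).congr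
      fun v hv => ?_
    obtain ⟨w, hw, rfl⟩ := hχz.exists_preimage hv
    simp only [Function.comp_apply, hl w hw, heq w hw,
      hχ.map_conj htN (le_normalizerIn hχz.dom_le hw)]
  · refine inGam_cop n ((hχi.comp (hzi a)).comp hχz) ?_
    refine Cop.transport (fun v hv => (hzi a).mem hv) hl (cop_of_pow ?_ hz) fun v hv => hχz.exists_preimage hv
    rwa [Subgroup.orderOf_coe, Subgroup.orderOf_coe]

set_option maxHeartbeats 1000000 in
/-- Automorphisms extending beyond `P`. -/
theorem inGam_of_extends (n : NData F E p) (h : Crit (pSys n) p P₀) {P : Subgroup Ω}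
    (hP : (pSys n).IsConj P₀ P) (hPn : (pSys n).IsFullyNormalized P)
    (hto : ∀ x, (pSys n).IsConj P₀ x →
      ∃ a, IsMap (pSys n) (normalizerIn S x) a ∧ IsIso (pSys n) x P a) :
    ∀ Q f, IsMap (pSys n) Q f → P < Q → Q ≤ normalizerIn S P → IsIso (pSys n) P P f → InGam n P f := by
  suffices H : ∀ k, ∀ Q f, IsMap (pSys n) Q f → P < Q → Q ≤ normalizerIn S P →
      IsIso (pSys n) P P f → Nat.card S - Nat.card Q = k → InGam n P f from
    fun Q f h1 h2 h3 h4 => H _ Q f h1 h2 h3 h4 rfl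
  intro k
  induction k using Nat.strong_induction_on with
  | _ k ih =>
  intro Q f hf hPQ hQN hfP hk
  have big : ∀ D g, IsMap (pSys n) D g → P < D → D ≤ normalizerIn S P → Nat.card Q < Nat.card D →
      IsIso (pSys n) P P g → InGam n P g := fun D g h1 h2 h3 h4 h5 => ih _ (by
    have := Subgroup.card_le_of_le h1.dom_le
    omega) D g h1 h2 h3 h5 rfl
  have hPS := hfP.dom_le
  have hQS : Q ≤ S := hf.dom_le
  obtain ⟨Q₂, hQ₂⟩ := hf.exists_image
  have hPQ₂ : P ≤ Q₂ := fun w hw => by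
    obtain ⟨v, hv, rfl⟩ := hfP.exists_preimage hw
    exact hQ₂.mem (hPQ.le hv)
  have hQ₂N : Q₂ ≤ normalizerIn S P := fun w hw => by
    obtain ⟨v, hv, rfl⟩ := hQ₂.exists_preimage hw
    exact normalizer_map_mem hf hfP hPQ.le hQN hv
  obtain ⟨R, hQR, hRa, hRr⟩ := h.sat Q hQS (by
    rw [isConj_card hP]
    exact card_lt_of_lt hQS hPQ)
  obtain ⟨α, hα, hαQ, hαN⟩ := exists_normalizer_map h.pgroup hRa hRr hQR
  obtain ⟨α', hα', hα'Q, hα'N⟩ :=
    exists_normalizer_map h.pgroup hRa hRr (isConj_trans (isConj_symm hQ₂.isConj) hQR)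
  obtain ⟨αi, hαi, hαil, -⟩ := hαQ.exists_inv
  set β := α' ∘ f ∘ αi with hβdef
  have hβ : IsIso (pSys n) R R β := (hαi.comp hQ₂).comp hα'Q
  obtain ⟨x₁, hx₁R, hxx₁⟩ := hαQ.restrict hPQ.le
  obtain ⟨y₁, hy₁R, hyy₁⟩ := hα'Q.restrict hPQ₂
  have hx₁y₁ : IsIso (pSys n) x₁ y₁ β := by
    refine ⟨hβ.1.mono hx₁R, ?_⟩
    rw [← hxx₁.2, ← Set.image_comp, ← hyy₁.2]
    conv_rhs => rw [← hfP.2, ← Set.image_comp]
    exact Set.image_congr fun v hv => by
      simp only [hβdef, Function.comp_apply, hαil v (hPQ.le hv)]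
  obtain ⟨z, hzR, ⟨V, hV⟩, hz⟩ := exists_rep_fusion h.pgroup hRa hRr hx₁R
  obtain ⟨d₁, hd₁, hd₁z, hd₁R⟩ := hz x₁ id (isIso_id hRa.1) (isIso_id (hx₁R.trans hRa.1))
  obtain ⟨d₂, hd₂, hd₂z, hd₂R⟩ := hz y₁ β hβ hx₁y₁
  have hePz : IsIso (pSys n) P z (d₁ ∘ α) := hxx₁.comp hd₁z
  have hRx₁ : R ≤ normalizerIn S x₁ := fun w hw => by
    obtain ⟨v, hv, rfl⟩ := hαQ.exists_preimage hw
    exact map_mem_normalizer (hα.mono (le_normalizerIn hQS)) hPQ.le hxx₁.2 hv (hQN hv).2
  rcases hQN.eq_or_lt with hQe | hQlt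
  · -- `Q = N_S(P)`
    have hRD : R ≤ normalizerIn (normalizerIn S x₁) R := le_normalizerIn hRx₁
    have he₁ : IsIso (pSys n) Q R (d₁ ∘ α) := hαQ.comp hd₁R
    have hRz : R ≤ normalizerIn S z := fun w hw => by
      obtain ⟨v, hv, rfl⟩ := he₁.exists_preimage hw
      exact map_mem_normalizer he₁.1 hPQ.le hePz.2 hv (hQN hv).2
    have hRe : R = normalizerIn S z := by
      haveI := finite_of_le (Fusion.normalizerIn_le S z)
      refine Subgroup.eq_of_le_of_card_ge hRz ?_
      rw [← he₁.card_eq, hQe]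
      exact hPn.2 z hePz.isConj
    obtain ⟨χ, hχR, hχl, hχr⟩ := he₁.exists_inv
    have hχz : IsIso (pSys n) z P χ := by
      refine ⟨hχR.1.mono hzR, ?_⟩
      rw [← hePz.2, ← Set.image_comp]
      exact (Set.image_congr fun v hv => hχl v (hPQ.le hv)).trans (Set.image_id' _)
    have hQ₂Q : Q₂ = Q := by
      haveI := finite_of_le hQS
      exact Subgroup.eq_of_le_of_card_ge (hQe ▸ hQ₂N) hQ₂.card_eq.le
    have hfQ : IsIso (pSys n) Q Q f := hQ₂Q ▸ hQ₂
    obtain ⟨δ, hδ, hδe⟩ := ((hχR.comp hfQ).comp he₁).exists_aut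
    have hδz : autFun δ '' (z : Set Ω) = (z : Set Ω) := by
      rw [Set.image_congr (hδe.mono hzR)]
      exact ((hχz.comp hfP).comp hePz).2
    refine (inGam_stab n hRa.1 hzR V hV (χ := χ) (χi := d₁ ∘ α) (hRe ▸ hχR.1) hχz hePz
      (fun v hv => hχr v (hzR hv)) hδ hδz).congr fun v hv => ?_
    have hv₁ : (d₁ ∘ α) v ∈ R := hzR (hePz.mem hv)
    simp only [Function.comp_apply] at hv₁ ⊢
    rw [hδe hv₁]
    simp only [Function.comp_apply]
    have hx : χ (d₁ (α v)) = v := hχl v (hPQ.le hv)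
    rw [hx]
    exact hχl _ (hfQ.mem (hPQ.le hv))
  · -- `Q < N_S(P)`
    have hQ₂lt : Q₂ < normalizerIn S P := lt_of_le_of_ne hQ₂N fun e => by
      haveI := finite_of_le (Fusion.normalizerIn_le S P)
      exact hQlt.ne (Subgroup.eq_of_le_of_card_ge hQlt.le (le_of_eq (by rw [← e, ← hQ₂.card_eq])))
    have hPQ₂' : P < Q₂ := lt_of_le_of_ne hPQ₂ fun e => by
      haveI := finite_of_le hQS
      exact hPQ.ne (Subgroup.eq_of_le_of_card_ge hPQ.le (le_of_eq (by rw [hQ₂.card_eq, ← e])))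
    have half : ∀ (Q x₁ : Subgroup Ω) (α d : Ω → Ω), P < Q → Q < normalizerIn S P →
        IsMap (pSys n) (normalizerIn S Q) α →
        (∀ g ∈ normalizerIn S Q, α g ∈ normalizerIn S R) → IsIso (pSys n) P x₁ α →
        IsMap (pSys n) (normalizerIn (normalizerIn S x₁) R) d → IsIso (pSys n) x₁ z d →
        ∃ D, P < D ∧ D ≤ normalizerIn S P ∧ Nat.card Q < Nat.card D ∧ IsMap (pSys n) D (d ∘ α) ∧
          ∀ g ∈ D, d (α g) ∈ normalizerIn S z := by
      intro Q x₁ α d hPQ hQlt hα hαN hαP hd hdz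
      set D := normalizerIn (normalizerIn S P) Q with hD
      have hQD : Q ≤ D := le_normalizerIn hQlt.le
      have hαD : IsMap (pSys n) D α := hα.mono fun g hg => ⟨hg.1.1, hg.2⟩
      have he : IsMap (pSys n) D (d ∘ α) := hαD.comp hd fun g hg =>
        ⟨normalizer_map_mem hαD hαP (hPQ.le.trans hQD) (Fusion.normalizerIn_le _ _) hg,
          (hαN g ⟨hg.1.1, hg.2⟩).2⟩
      exact ⟨D, hPQ.trans_le hQD, Fusion.normalizerIn_le _ _,
        h.card_lt_of_lt (Fusion.normalizerIn_le _ _) hQlt, he, fun g hg =>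
          normalizer_map_mem he (hαP.comp hdz) (hPQ.le.trans hQD) (Fusion.normalizerIn_le _ _) hg⟩
    obtain ⟨D₁, hPD₁, hD₁N, hD₁c, he₁, he₁N⟩ := half Q x₁ α d₁ hPQ hQlt hα hαN hxx₁ hd₁ hd₁z
    obtain ⟨D₂, hPD₂, hD₂N, hD₂c, he₂, he₂N⟩ :=
      half Q₂ y₁ α' d₂ hPQ₂' hQ₂lt hα' hα'N hyy₁ hd₂ hd₂z
    rw [← hQ₂.card_eq] at hD₂c
    have hzc : (pSys n).IsConj P₀ z := isConj_trans hP hePz.isConj
    obtain ⟨χ, hχ, hχz⟩ := hto z hzc
    obtain ⟨χi, hχi, hχil, -⟩ := hχz.exists_inv
    have hePz₂ : IsIso (pSys n) P z (d₂ ∘ α') := hyy₁.comp hd₂z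
    have hu₁ : InGam n P (χ ∘ (d₁ ∘ α)) :=
      big D₁ _ (he₁.comp hχ he₁N) hPD₁ hD₁N hD₁c (hePz.comp hχz)
    have hu₂ : InGam n P (χ ∘ (d₂ ∘ α')) :=
      big D₂ _ (he₂.comp hχ he₂N) hPD₂ hD₂N hD₂c (hePz₂.comp hχz)
    obtain ⟨d₁i, hd₁i, hd₁il, -⟩ := hd₁R.exists_inv
    obtain ⟨δ, hδ, hδe⟩ := ((hd₁i.comp hβ).comp hd₂R).exists_aut
    have key : ∀ v ∈ P, autFun δ (d₁ (α v)) = d₂ (α' (f v)) := fun v hv => by
      have h1 : α v ∈ R := hαQ.mem (hPQ.le hv)
      rw [hδe (hd₁R.mem h1)]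
      simp only [Function.comp_apply, hd₁il _ h1, hβdef, hαil v (hPQ.le hv)]
    have hδz : autFun δ '' (z : Set Ω) = (z : Set Ω) := by
      conv_lhs => rw [← hePz.2, ← Set.image_comp]
      conv_rhs => rw [← hePz₂.2]
      conv_rhs => rw [← hfP.2, ← Set.image_comp]
      exact Set.image_congr fun v hv => key v hv
    have hmid := inGam_stab n hRa.1 hzR V hV hχ hχz hχi hχil hδ hδz
    obtain ⟨v₂, hv₂, hv₂l, -⟩ := (hePz₂.comp hχz).exists_inv
    refine ((hu₁.comp hmid).comp (hu₂.inv hv₂l)).congr fun v hv => ?_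
    simp only [Function.comp_apply]
    rw [hχil (d₁ (α v)) (hePz.mem hv), key v hv]
    exact hv₂l (f v) (hfP.mem hv)

/-- The property propagated along generated maps. -/
theorem inGam_tgen (n : NData F E p) (h : Crit (pSys n) p P₀) {P : Subgroup Ω}
    (hP : (pSys n).IsConj P₀ P) (hPn : (pSys n).IsFullyNormalized P) {R : Subgroup Ω} {f : Ω → Ω}
    (hf : TGen F E p R f) : ∀ x y, x ≤ R → (pSys n).IsConj P₀ x → IsIso (pSys n) x y f →
      ∀ a b u, IsMap (pSys n) (normalizerIn S x) a → IsIso (pSys n) x P a →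
      IsMap (pSys n) (normalizerIn S y) b → IsIso (pSys n) y P b → IsIso (pSys n) P P u →
      (∀ v ∈ x, u (a v) = b (f v)) → InGam n P u := by
  have hto : ∀ x, (pSys n).IsConj P₀ x →
      ∃ a, IsMap (pSys n) (normalizerIn S x) a ∧ IsIso (pSys n) x P a :=
    fun x hx => exists_to n h hPn hP hx
  have hgrow : ∀ {x : Subgroup Ω}, (pSys n).IsConj P₀ x → x < normalizerIn S x := fun {x} hx =>
    lt_normalizerIn h.pgroup (lt_of_le_of_ne (isConj_le_right hx) fun e => by
      subst e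
      exact h.lt.ne (Subgroup.eq_of_le_of_card_ge h.le (isConj_card hx).ge))
  have good_of_big : ∀ R f, IsMap (pSys n) R f → ∀ x y, x ≤ R → (pSys n).IsConj P₀ x →
      IsIso (pSys n) x y f → x < normalizerIn R x → ∀ a b u, IsMap (pSys n) (normalizerIn S x) a →
      IsIso (pSys n) x P a → IsMap (pSys n) (normalizerIn S y) b → IsIso (pSys n) y P b →
      IsIso (pSys n) P P u → (∀ v ∈ x, u (a v) = b (f v)) → InGam n P u := by
    intro R f hf x y hxR hxP hxy hlt a b u ha hxa hb hyb hu he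
    have hDN : normalizerIn R x ≤ normalizerIn S x := inf_le_inf_right _ hf.dom_le
    obtain ⟨D', hD'⟩ := (ha.mono hDN).exists_image
    obtain ⟨ai, hai, hail, -⟩ := hD'.exists_inv
    have hPD' : P ≤ D' := fun v hv => by
      obtain ⟨w, hw, rfl⟩ := hxa.exists_preimage hv
      exact hD'.mem (hlt.le hw)
    have hg : IsMap (pSys n) D' (b ∘ f ∘ ai) :=
      (hai.comp_map (hf.mono (Fusion.normalizerIn_le R x))).comp hb fun w hw =>
        normalizer_map_mem (hf.mono (Fusion.normalizerIn_le R x)) hxy hlt.le hDN (hai.mem hw)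
    have hge : Set.EqOn (b ∘ f ∘ ai) u P := fun v hv => by
      obtain ⟨w, hw, rfl⟩ := hxa.exists_preimage hv
      rw [he w hw]
      simp only [Function.comp_apply, hail w (hlt.le hw)]
    refine (inGam_of_extends n h hP hPn hto D' _ hg ?_ ?_
      ⟨hg.mono hPD', (Set.image_congr hge).trans hu.2⟩).congr hge
    · refine lt_of_le_of_ne hPD' fun e => ?_
      subst e
      haveI := finite_of_le ((Fusion.normalizerIn_le R x).trans hf.dom_le)
      exact hlt.ne (Subgroup.eq_of_le_of_card_ge hlt.le (hD'.card_eq.trans hxa.card_eq.symm).le)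
    · intro v hv
      obtain ⟨w, hw, rfl⟩ := hD'.exists_preimage hv
      exact normalizer_map_mem ha hxa (le_normalizerIn hxy.dom_le) le_rfl (hDN hw)
  induction hf with
  | @aut Q Q' f hm hle =>
    intro x y hx hxP hxy a b u ha hxa hb hyb hu he
    have hQS := hm.iso.dom_le
    by_cases hxe : x = Q
    · subst hxe
      obtain rfl : y = x := hxy.cod_unique (hm.isIso_pSys n)
      obtain ⟨ai, hai, hail, -⟩ := hxa.exists_inv
      have hafa : IsIso (pSys n) P P (a ∘ f ∘ ai) := (hai.comp (hm.isIso_pSys n)).comp hxa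
      have h1 : InGam n P (a ∘ f ∘ ai) := inGam_cop n hafa
        (Cop.transport (fun v hv => hm.iso.mem hv) hail hm.cop fun v hv => hxa.exists_preimage hv)
      have hlt := hgrow hxP
      have h2 : InGam n P (b ∘ ai) := by
        refine good_of_big S id (isMap_id le_rfl) y y hxy.dom_le hxP (isIso_id hxy.dom_le) hlt
          a b _ ha hxa hb hyb (hai.comp hyb) fun v hv => ?_
        simp only [Function.comp_apply, hail v hv, id_eq]
      refine (h1.comp h2).congr fun w hw => ?_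
      obtain ⟨v, hv, rfl⟩ := hxa.exists_preimage hw
      simp only [Function.comp_apply]
      rw [he v hv, hail v hv, hail _ (hm.iso.mem hv)]
    · haveI := finite_of_le hQS
      exact good_of_big Q f (hm.isIso_pSys n).1 x y (hx.trans hle) hxP hxy
        (lt_normalizerIn (h.pgroup.to_le hQS) (lt_of_le_of_ne (hx.trans hle) hxe)) a b u ha hxa hb hyb hu he
  | @conj Q t hQ ht =>
    intro x y _ hxP hxy
    exact good_of_big S _ (isMap_conj le_rfl (n.tS ht)) x y hxy.dom_le hxP hxy (hgrow hxP)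
  | @comp Q Q' f g hf hg hm ih1 ih2 =>
    intro x y hx hxP hxy a b u ha hxa hb hyb hu hue
    obtain ⟨w, hw⟩ := ((isMap_tgen (n := n) hf).mono hx).exists_image
    have hwQ : w ≤ Q' := fun r hr => by
      obtain ⟨v, hv, rfl⟩ := hw.exists_preimage hr
      exact hm v (hx hv)
    have hwy : IsIso (pSys n) w y g :=
      ⟨(isMap_tgen (n := n) hg).mono hwQ, by rw [← hw.2, ← Set.image_comp]; exact hxy.2⟩
    obtain ⟨c, hc, hwc⟩ := hto w (isConj_trans hxP hw.isConj)
    obtain ⟨ai, hai, hail, -⟩ := hxa.exists_inv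
    obtain ⟨ci, hci, hcil, -⟩ := hwc.exists_inv
    have e1 := ih1 x w hx hxP hw a c (c ∘ f ∘ ai) ha hxa hc hwc ((hai.comp hw).comp hwc) fun v hv => by
      simp only [Function.comp_apply, hail v hv]
    have e2 := ih2 w y hwQ (isConj_trans hxP hw.isConj) hwy c b (b ∘ g ∘ ci) hc hwc hb hyb
      ((hci.comp hwy).comp hyb) fun v hv => by simp only [Function.comp_apply, hcil v hv]
    refine (e1.comp e2).congr fun v hv => ?_
    obtain ⟨r, hr, rfl⟩ := hxa.exists_preimage hv
    rw [hue r hr]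
    simp only [Function.comp_apply, hail r hr, hcil _ (hw.mem hr)]
  | @inv Q Q' f g hf him hgl ih =>
    intro x y hx hxP hxy a b u ha hxa hb hyb hu hue
    have hyQ : y ≤ Q := fun w hw => by
      obtain ⟨v, hv, rfl⟩ := hxy.exists_preimage hw
      obtain ⟨r, hr, rfl⟩ : v ∈ f '' (Q : Set Ω) := him ▸ hx hv
      rwa [hgl r hr]
    have hfg : ∀ v ∈ x, f (g v) = v := fun v hv => by
      obtain ⟨w, hw, rfl⟩ : v ∈ f '' (Q : Set Ω) := him ▸ hx hv
      rw [hgl w hw]
    have hyx : IsIso (pSys n) y x f := ⟨(isMap_tgen (n := n) hf).mono hyQ, by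
      conv_lhs => rw [← hxy.2, ← Set.image_comp]
      exact (Set.image_congr hfg).trans (Set.image_id' _)⟩
    obtain ⟨ui, hui, huil, huir⟩ := hu.exists_inv
    refine InGam.inv ?_ fun w hw => huir w hw
    refine ih y x hyQ (isConj_trans hxP hxy.isConj) hyx b a ui hb hyb ha hxa hui fun w hw => ?_
    obtain ⟨v, hv, rfl⟩ := hxy.exists_preimage hw
    rw [hfg v hv, ← hue v hv, huil _ (hxa.mem hv)]
  | @congr Q f g _ he ih =>
    intro x y hx hxP hxy a b u ha hxa hb hyb hu hue
    exact ih x y hx hxP (hxy.congr (he.mono hx).symm) a b u ha hxa hb hyb hu fun v hv => by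
      rw [hue v hv, he (hx hv)]

/-- All automorphisms of a fully normalized conjugate are in `gam`. -/
theorem inGam_all (n : NData F E p) (h : Crit (pSys n) p P₀) {P : Subgroup Ω}
    (hP : (pSys n).IsConj P₀ P) (hPn : (pSys n).IsFullyNormalized P) {u : Ω → Ω}
    (hu : IsIso (pSys n) P P u) : InGam n P u := by
  obtain ⟨s, hs, y, hy, hye⟩ := isMap_pSys.mp hu.1
  have hPS := hu.dom_le
  obtain ⟨w, hw⟩ := (isMap_tgen (n := n) hy).exists_image
  have hwP : IsIso (pSys n) w P (fun v => s * v * s⁻¹) := by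
    refine ⟨isMap_conj hw.cod_le hs, ?_⟩
    rw [← hw.2, ← Set.image_comp]
    exact (Set.image_congr fun v hv => (hye v hv).symm).trans hu.2
  have hwS : IsMap (pSys n) (normalizerIn S w) (fun v => s * v * s⁻¹) :=
    isMap_conj (Fusion.normalizerIn_le S w) hs
  exact inGam_tgen n h hP hPn hy P w le_rfl hP hw id _ u (isMap_id (Fusion.normalizerIn_le S P))
    (isIso_id hPS) hwS hwP hu fun v hv => hye v hv

omit [Fact p.Prime] in
/-- All automorphisms of `S` are in `gam`. -/
theorem inGam_top (n : NData F E p) {u : Ω → Ω} (hu : IsIso (pSys n) S S u) : InGam n S u := by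
  have key : ∀ {R : Subgroup Ω} {f : Ω → Ω}, TGen F E p R f → R = S → InGam n S f := by
    intro R f hf
    induction hf with
    | @aut P Q f ha hle =>
      intro hQ
      obtain rfl : P = S := le_antisymm ha.iso.dom_le (hQ ▸ hle)
      exact inGam_cop n (ha.isIso_pSys n) ha.cop
    | @conj P t hP ht => exact fun _ => inGam_conj n ⟨n.tS ht, Subgroup.le_normalizer (n.tS ht)⟩
    | @comp P Q f g hf hg hm ih1 ih2 =>
      intro hPe
      subst hPe
      have hfS : IsIso (pSys n) P P f :=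
        isIso_of_mapsTo (isMap_tgen hf) le_rfl (fun v hv => (isMap_tgen (n := n) hf).apply_mem hv) le_rfl
      have hQ : Q = P := le_antisymm (hg.dom_le n) fun y hy => by
        obtain ⟨x, hx, rfl⟩ := hfS.exists_preimage hy
        exact hm x hx
      exact (ih1 rfl).comp (ih2 hQ)
    | @inv P Q f g hf him hgl ih =>
      intro hQ
      subst hQ
      obtain rfl : P = Q := Subgroup.eq_of_le_of_card_ge (hf.dom_le n)
        (le_of_eq (IsIso.card_eq (show IsIso F P Q f from ⟨hf.isMap n, him⟩)).symm)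
      exact (ih rfl).inv hgl
    | @congr P f g _ he ih =>
      intro hPe
      subst hPe
      exact (ih rfl).congr he
  obtain ⟨s, hs, y, hy, hye⟩ := isMap_pSys.mp hu.1
  exact ((key hy rfl).comp (inGam_conj n (g := s) ⟨hs, Subgroup.le_normalizer hs⟩)).congr
    fun v hv => (hye v hv).symm

end Cfsg.Agent.Fusion.Prod
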