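import Cfsg.Agent.Lib.Fusion.Prod.Saturation
import Cfsg.Agent.Lib.Fusion.PPowerIndex
import Cfsg.Agent.PrimeIndex.NormalResidual

/-!
# The part of a normal subsystem in the normalizer of a fully normalized subgroup

For `X` fully normalized in `F` some subsystem over `N_T(X)` with maps in `E` is normal in `N_F(X)`:
the residual of prime-to-`p` index of the subsystem of `p`-power index over `N_T(X)` of the normalizer
of `X` in the system of maps trivial modulo `T`.
-/

set_option autoImplicit false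
set_option linter.style.haveILetI false

namespace Cfsg.Agent.Fusion.Prod

open Cfsg Cfsg.Agent.Fusion Cfsg.Agent.Fusion.NormalLift Cfsg.Agent.Fusion.Inter
open Cfsg.FusionSystem (normalizerIn centralizerIn)

variable {Ω : Type*} [Group Ω] {S T : Subgroup Ω} {F : FusionSystem S} {E : FusionSystem T} {p : ℕ}
  [Finite S] [Fact p.Prime]

/-- An automorphism of order prime to `p` in the normalizer of `X` extends so as a generated map. -/
theorem tgen_of_normalizer (n : NData F E p) {X P : Subgroup Ω} (hXS : X ≤ S) {a : MulAut P}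
    (hP : P ≤ normalizerIn S X) (ha : a ∈ (normalizerSystem (pSys n) X hXS).autGroup P)
    (hao : (orderOf a).Coprime p) :
    ∃ g, TGen F E p (P ⊔ X) g ∧ Set.EqOn g (autFun a) P ∧ g '' (X : Set Ω) = (X : Set Ω) := by
  have hai := (mem_autGroup hP).mp ha
  obtain ⟨-, -, -, f', hf', he, him⟩ := isMap_normalizerSystem.mp hai.1
  have hMS : P ⊔ X ≤ S := sup_le (hP.trans inf_le_left) hXS
  haveI := finite_of_le hMS
  haveI := finite_mulAut ↥(P ⊔ X)
  have hst : ∀ v ∈ P ⊔ X, f' v ∈ P ⊔ X := isMap_mem_sup hf' le_sup_left le_sup_right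
    (fun x hx => Subgroup.mem_sup_left (he hx ▸ autFun_mem_self a hx))
    fun x hx => Subgroup.mem_sup_right (show f' x ∈ (X : Set Ω) from him ▸ ⟨x, hx, rfl⟩)
  obtain ⟨β, hβ, hβe⟩ := (isIso_of_mapsTo hf' hMS hst le_rfl).exists_aut
  obtain ⟨m, hm, hme⟩ := exists_pow_coprime (p := p) β a hao
  have hXk : ∀ k : ℕ, autFun (β ^ k) '' (X : Set Ω) = (X : Set Ω) := by
    intro k
    induction k with
    | zero =>
      exact (Set.image_congr fun x hx => by
        rw [pow_zero, autFun_one (Subgroup.mem_sup_right hx : x ∈ P ⊔ X), id_eq]).trans (Set.image_id' _)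
    | succ k ih =>
      conv_rhs => rw [← him, ← ih, ← Set.image_comp]
      refine Set.image_congr fun x hx => ?_
      have hxM : x ∈ P ⊔ X := Subgroup.mem_sup_right hx
      rw [pow_succ', autFun_mul _ _ hxM, Function.comp_apply, Function.comp_apply,
        hβe (autFun_mem_self _ hxM)]
  refine ⟨autFun (β ^ m), tgen_of_cop n (isMap_pSys.mp ((mem_autGroup hMS).mp (Subgroup.pow_mem _ hβ m)).1)
    (fun v hv => autFun_mem_self _ hv) (cop_of_pow hm le_rfl), fun x hx => ?_, hXk m⟩
  rw [pow_eqOn le_sup_left (fun y hy => (hβe (Subgroup.mem_sup_left hy)).trans (he hy)) m hx, hme]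

/-- The image of the stabilized subgroup. -/
theorem image_of_conj {A : Subgroup Ω} {k k' g : Ω → Ω} (hk : k '' (A : Set Ω) = (A : Set Ω))
    (hg : g '' (A : Set Ω) = (A : Set Ω)) (he : ∀ v ∈ A, k' (k v) = k (g v)) :
    k' '' (A : Set Ω) = (A : Set Ω) := by
  conv_lhs => rw [← hk, ← Set.image_comp]
  conv_rhs => rw [← hk, ← hg, ← Set.image_comp]
  exact Set.image_congr fun v hv => he v hv

set_option maxHeartbeats 2000000 in
/-- The part of a normal subsystem in the normalizer of a fully normalized subgroup. -/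
theorem exists_normalizer_normal (n : NData F E p) {X : Subgroup Ω} (hX : F.IsFullyNormalized X) :
    ∃ D : FusionSystem (normalizerIn T X), D.IsNormalIn (normalizerSystem F X hX.1) p ∧
      ∀ P f, IsMap D P f → IsMap E P f := by
  have hXS := hX.1
  set W := normalizerIn T X with hW
  have hWN : W ≤ normalizerIn S X := inf_le_inf_right _ n.tS
  have hNS : normalizerIn S X ≤ S := Fusion.normalizerIn_le S X
  haveI := finite_of_le hNS
  haveI := finite_of_le (hWN.trans hNS)
  have hNp := n.pgroup.to_le hNS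
  have hWp := hNp.to_le hWN
  set N := normalizerSystem F X hXS with hN
  have hNsat : N.IsSaturated p := normalizerSystem_isSaturated n.pgroup n.sat hX
  set ND := normalizerSystem (pSys n) X hXS with hND
  have hXD : (pSys n).IsFullyNormalized X := ⟨hXS, fun Q hQ => hX.2 Q (isConj_pSys hQ)⟩
  have hNDsat : ND.IsSaturated p := normalizerSystem_isSaturated n.pgroup (pSys_isSaturated n) hXD
  have hNDN : ∀ {P : Subgroup Ω} {f : Ω → Ω}, IsMap ND P f → IsMap N P f := fun {P f} hf => by
    obtain ⟨h1, h2, h3, f', hf', he, him⟩ := isMap_normalizerSystem.mp hf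
    exact isMap_normalizerSystem.mpr ⟨h1.of_le (pSys_le n), h2, h3, f', hf'.of_le (pSys_le n), he, him⟩
  -- the hyperfocal subgroup
  have hhyp : ND.hyperfocalSubgroup p ≤ W := by
    refine (Subgroup.closure_le _).mpr ?_
    rintro _ ⟨P, α, x, hP, hα, rfl⟩
    have hmem : ∀ (a : ND.autGroup P) {y : Ω}, y ∈ P → autFun (a : MulAut P) y ∈ P := fun a y hy =>
      autFun_mem_self _ hy
    let H : Subgroup (ND.autGroup P) :=
      { carrier := {a | ∀ y ∈ P, y⁻¹ * autFun (a : MulAut P) y ∈ W}
        one_mem' := fun y hy => by rw [Subgroup.coe_one, autFun_one hy]; simp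
        mul_mem' := fun {a b} ha hb y hy => by
          rw [Subgroup.coe_mul, autFun_mul _ _ hy, Function.comp_apply]
          have := W.mul_mem (hb y hy) (ha _ (hmem b hy))
          simpa [mul_assoc] using this
        inv_mem' := fun {a} ha y hy => by
          obtain ⟨z, hz, rfl⟩ := ((mem_autGroup hP).mp a.2).exists_preimage hy
          rw [Subgroup.coe_inv, PrimeIndex.autFun_inv_apply _ hz]
          simpa using W.inv_mem (ha z hz) }
    have hH : α ∈ H := (Subgroup.closure_le H).mpr (fun a ha y hy => by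
      obtain ⟨g, hg, hge, -⟩ := tgen_of_normalizer n hXS hP a.2 (by rwa [Subgroup.orderOf_coe])
      have h1 := hg.mod n y (Subgroup.mem_sup_left hy)
      rw [hge hy] at h1
      exact ⟨h1, Subgroup.mul_mem _ (Subgroup.inv_mem _ (hP hy).2) (hP (hmem a hy)).2⟩) hα
    have := hH x x.2
    rwa [autFun_coe] at this
  obtain ⟨D, hDsat, hDsub, -, hDidx⟩ :=
    PPow.exists_pPowerIndex _ (normalizerIn S X) ND inferInstance rfl hNp hNDsat W hWN hhyp
  have hDND : ∀ {P : Subgroup Ω} {f : Ω → Ω}, IsMap D P f → IsMap ND P f := fun {P f} hf =>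
    IsMap.of_subset (hDsub P) hf
  -- automorphisms of order prime to `p` of the normalizer system lie in the subsystem
  have hcoD : ∀ {R : Subgroup Ω}, R ≤ W → ∀ (a : MulAut R), a ∈ ND.autGroup R →
      (orderOf a).Coprime p → IsMap D R (autFun a) := fun {R} hR a ha hao =>
    ((mem_autGroup hR).mp (hDidx R hR ⟨⟨a, ha⟩, Transfer.mem_pResidual_of_coprime
      (by rwa [← Subgroup.orderOf_coe]), rfl⟩)).1
  have hDE : ∀ P f, IsMap D P f → IsMap E P f := by
    refine alperin_induction_cr hWp hDsat (fun P f => IsMap E P f) (fun P f g h he => h.congr he)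
      (fun P Q f g hf _ h1 h2 => h1.comp h2 fun v hv => hf.mem hv) (fun P Q f _ hle h => h.mono hle) ?_
    intro U _ _ hUn f hf
    have hUW := hUn.1
    have hUT : U ≤ T := hUW.trans inf_le_left
    haveI := finite_of_le hUW
    haveI := finite_mulAut U
    obtain ⟨a, ha, hae⟩ := hf.exists_aut
    obtain ⟨Y, hY⟩ := (fullyAutomized_of_fullyNormalized hWp hDsat hUn).2
    have hle : (⊤ : Subgroup (D.autGroup U)) ≤ (E.autGroup U).subgroupOf (D.autGroup U) := by
      refine le_of_eq (eq_top_of_sylow_coprime Y _ (fun b hb => ?_) fun b hb => ?_).symm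
      · rw [hY, Subgroup.mem_subgroupOf] at hb
        exact Subgroup.mem_subgroupOf.mpr
          (autInducedBy_le_autGroup (F := E) hUT (autInducedBy_mono inf_le_left hb))
      · have hbD : IsMap D U (autFun (b : MulAut U)) := ((mem_autGroup hUW).mp b.2).1
        have hbND : (b : MulAut U) ∈ ND.autGroup U := autGroup_mem_of_isMap (hDND hbD)
        obtain ⟨g, hg, hge, -⟩ := tgen_of_normalizer n hXS (hUW.trans hWN) hbND (by rwa [Subgroup.orderOf_coe])
        exact Subgroup.mem_subgroupOf.mpr (autGroup_mem_of_isMap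
          (((hg.emap n).mono (le_inf le_sup_left hUT)).congr hge))
    have := Subgroup.mem_subgroupOf.mp (hle (Subgroup.mem_top (⟨a, ha⟩ : D.autGroup U)))
    exact ((mem_autGroup hUT).mp this).1.congr hae
  -- invariance
  have hWclosed : N.StronglyClosed W := stronglyClosed_iff.mpr ⟨hWN, fun P f hf x hx hxW => by
    obtain ⟨h1, -, h3, -⟩ := isMap_normalizerSystem.mp hf
    exact ⟨Fusion92.closed_apply n.closed h1 hx hxW.1, (h3 x hx).2⟩⟩
  have hsub : D.IsSubsystemOf N := fun P => hom_subset_of_isMap fun f hf => hNDN (hDND hf)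
  have hinv : ∀ P f, IsMap D P f → ∀ k, IsIso N W W k → ∀ P' : Subgroup Ω, (P' : Set Ω) = k '' P →
      ∃ g, IsMap D P' g ∧ ∀ x ∈ P, g (k x) = k (f x) := by
    refine alperin_induction_cr hWp hDsat
      (fun P f => ∀ k, IsIso N W W k → ∀ P' : Subgroup Ω, (P' : Set Ω) = k '' P →
        ∃ g, IsMap D P' g ∧ ∀ x ∈ P, g (k x) = k (f x))
      (fun P f g h he k hk P' hP' => by
        obtain ⟨u, hu, hue⟩ := h k hk P' hP'
        exact ⟨u, hu, fun x hx => by rw [hue x hx, he hx]⟩)
      (fun P Q f g hf hg h1 h2 k hk P' hP' => by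
        obtain ⟨Q', hQ'⟩ := (hk.1.mono hg.dom_le).exists_image
        obtain ⟨u, hu, hue⟩ := h1 k hk P' hP'
        obtain ⟨v, hv, hve⟩ := h2 k hk Q' hQ'.2.symm
        refine ⟨v ∘ u, hu.comp hv fun y hy => ?_, fun x hx => by
          simp only [Function.comp_apply]; rw [hue x hx, hve _ (hf.mem hx)]⟩
        obtain ⟨x, hx, rfl⟩ : y ∈ k '' (P : Set Ω) := hP' ▸ hy
        exact hue x hx ▸ hQ'.mem (hf.mem hx))
      (fun P Q f hf hle h k hk P' hP' => by
        obtain ⟨Q', hQ'⟩ := (hk.1.mono hf.dom_le).exists_image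
        obtain ⟨u, hu, hue⟩ := h k hk Q' hQ'.2.symm
        refine ⟨u, hu.mono fun y hy => ?_, fun x hx => hue x (hle hx)⟩
        obtain ⟨x, hx, rfl⟩ : y ∈ k '' (P : Set Ω) := hP' ▸ hy
        exact hQ'.mem (hle hx)) ?_
    intro U _ _ hUn f hf k hk P' hP'
    have hUW := hUn.1
    haveI := finite_of_le hUW
    haveI := finite_mulAut U
    have hP'W : P' ≤ W := fun y hy => by
      obtain ⟨x, hx, rfl⟩ : y ∈ k '' (U : Set Ω) := hP' ▸ hy
      exact hk.mem (hUW hx)
    obtain ⟨a, ha, hae⟩ := hf.exists_aut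
    let H : Subgroup (D.autGroup U) :=
      { carrier := {b | ∃ g, IsMap D P' g ∧ ∀ x ∈ U, g (k x) = k (autFun (b : MulAut U) x)}
        one_mem' := ⟨id, isMap_id hP'W, fun x hx => by rw [Subgroup.coe_one, autFun_one hx, id_eq, id_eq]⟩
        mul_mem' := fun {b c} hb hc => by
          obtain ⟨u, hu, hue⟩ := hb
          obtain ⟨v, hv, hve⟩ := hc
          refine ⟨u ∘ v, hv.comp hu fun y hy => ?_, fun x hx => ?_⟩
          · obtain ⟨x, hx, rfl⟩ : y ∈ k '' (U : Set Ω) := hP' ▸ hy
            rw [hve x hx, ← SetLike.mem_coe, hP']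
            exact ⟨_, autFun_mem_self _ hx, rfl⟩
          · simp only [Function.comp_apply]
            rw [hve x hx, hue _ (autFun_mem_self _ hx), Subgroup.coe_mul, autFun_mul _ _ hx,
              Function.comp_apply]
        inv_mem' := fun {b} hb => by
          obtain ⟨u, hu, hue⟩ := hb
          have hui : IsIso D P' P' u := isIso_of_mapsTo hu hP'W (fun y hy => by
            obtain ⟨x, hx, rfl⟩ : y ∈ k '' (U : Set Ω) := hP' ▸ hy
            rw [hue x hx, ← SetLike.mem_coe, hP']
            exact ⟨_, autFun_mem_self _ hx, rfl⟩) le_rfl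
          obtain ⟨v, hv, hvl, -⟩ := hui.exists_inv
          refine ⟨v, hv.1, fun y hy => ?_⟩
          obtain ⟨x, hx, rfl⟩ := ((mem_autGroup hUW).mp b.2).exists_preimage hy
          rw [Subgroup.coe_inv, PrimeIndex.autFun_inv_apply _ hx, ← hue x hx]
          exact hvl _ (show k x ∈ (P' : Set Ω) from hP'.symm ▸ ⟨x, hx, rfl⟩) }
    obtain ⟨Y, hY⟩ := (fullyAutomized_of_fullyNormalized hWp hDsat hUn).2
    have hH : H = ⊤ := eq_top_of_sylow_coprime Y H (fun b hb => ?_) fun b hb => ?_
    · obtain ⟨g, hg, hge⟩ := hH.ge (Subgroup.mem_top (⟨a, ha⟩ : D.autGroup U))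
      exact ⟨g, hg, fun x hx => by rw [hge x hx, hae hx]⟩
    · rw [hY, Subgroup.mem_subgroupOf, mem_autInducedBy] at hb
      obtain ⟨w, hw, hwe⟩ := hb
      refine ⟨_, isMap_conj hP'W (hk.mem hw), fun x hx => ?_⟩
      rw [autFun_of_mem _ hx, hwe ⟨x, hx⟩, hk.1.map_conj hw (hUW hx)]
    · have hbi := (mem_autGroup hUW).mp b.2
      have hbND : (b : MulAut U) ∈ ND.autGroup U := autGroup_mem_of_isMap (hDND hbi.1)
      have hbo : (orderOf (b : MulAut U)).Coprime p := by rwa [Subgroup.orderOf_coe]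
      obtain ⟨g, hg, hge, hgX⟩ := tgen_of_normalizer n hXS (hUW.trans hWN) hbND hbo
      obtain ⟨-, -, -, k₁, hk₁, hk₁e, hk₁X⟩ := isMap_normalizerSystem.mp hk.1
      have hUX : U ⊔ X ≤ W ⊔ X := sup_le_sup_right hUW X
      obtain ⟨Z, hZ⟩ := (hk₁.mono hUX).exists_image
      have hst : ∀ v ∈ U ⊔ X, g v ∈ U ⊔ X := isMap_mem_sup (hg.isMap n) le_sup_left le_sup_right
        (fun x hx => Subgroup.mem_sup_left (hge hx ▸ autFun_mem_self _ hx))
        fun x hx => Subgroup.mem_sup_right (show g x ∈ (X : Set Ω) from hgX ▸ ⟨x, hx, rfl⟩)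
      obtain ⟨k', hk', hk'e⟩ := hg.strongInv n hst hZ
      have hPZ : P' ⊔ X ≤ Z := by
        refine sup_le (fun y hy => ?_) fun y hy => ?_
        · obtain ⟨x, hx, rfl⟩ : y ∈ k '' (U : Set Ω) := hP' ▸ hy
          exact hk₁e (hUW hx) ▸ hZ.mem (Subgroup.mem_sup_left hx)
        · obtain ⟨x, hx, rfl⟩ : y ∈ k₁ '' (X : Set Ω) := hk₁X.symm ▸ hy
          exact hZ.mem (Subgroup.mem_sup_right hx)
      have hval : ∀ x ∈ U, k' (k x) = k (autFun (b : MulAut U) x) := fun x hx => by
        rw [← hk₁e (hUW hx), hk'e x (Subgroup.mem_sup_left hx), hge hx,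
          hk₁e (hUW (autFun_mem_self _ hx))]
      have hmem : ∀ y ∈ P', k' y ∈ P' := fun y hy => by
        obtain ⟨x, hx, rfl⟩ : y ∈ k '' (U : Set Ω) := hP' ▸ hy
        rw [hval x hx, ← SetLike.mem_coe, hP']
        exact ⟨_, autFun_mem_self _ hx, rfl⟩
      have hmapND : IsMap ND P' k' := isMap_normalizerSystem.mpr
        ⟨(isMap_tgen hk').mono (le_sup_left.trans hPZ), hP'W.trans hWN,
          fun y hy => hWN (hP'W (hmem y hy)), k', (isMap_tgen hk').mono hPZ, fun _ _ => rfl,
          image_of_conj hk₁X hgX fun v hv => hk'e v (Subgroup.mem_sup_right hv)⟩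
      have hiso : IsIso ND P' P' k' := isIso_of_mapsTo hmapND (hP'W.trans hWN) hmem le_rfl
      obtain ⟨γ, hγ, hγe⟩ := hiso.exists_aut
      obtain ⟨ki, hki, hkil, -⟩ := hk.exists_inv
      have hcop : Cop p P' (k ∘ autFun (b : MulAut U) ∘ ki) := Cop.transport
        (fun x hx => autFun_mem_self _ hx) (fun x hx => hkil x (hUW hx)) (cop_of_pow hbo le_rfl)
        fun y hy => by
          obtain ⟨x, hx, rfl⟩ : y ∈ k '' (U : Set Ω) := hP' ▸ hy
          exact ⟨x, hx, rfl⟩
      haveI := finite_of_le hP'W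
      haveI := finite_mulAut P'
      have hγo : (orderOf γ).Coprime p := orderOf_coprime_of_cop hcop fun y hy => by
        obtain ⟨x, hx, rfl⟩ : y ∈ k '' (U : Set Ω) := hP' ▸ hy
        rw [hγe hy, hval x hx]
        simp only [Function.comp_apply, hkil x (hUW hx)]
      exact ⟨_, (hcoD hP'W γ hγ hγo).congr hγe, hval⟩
  have hinvariant : D.IsInvariantIn N := by
    refine Fus93.isInvariantIn_of hsub hWclosed hinv ?_
    let Fr : Subgroup Ω → (Ω → Ω) → Prop := fun P f =>
      ∃ k g, IsIso N W W k ∧ IsMap D P g ∧ ∀ x ∈ P, f x = k (g x)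
    have hFrcomp : ∀ {P Q : Subgroup Ω} {f g : Ω → Ω}, Fr P f → Fr Q g → (∀ x ∈ P, f x ∈ Q) →
        Fr P (g ∘ f) := by
      rintro P Q f g ⟨k, f₀, hk, hf₀, hfe⟩ ⟨l, g₀, hl, hg₀, hge⟩ hfQ
      obtain ⟨ki, hki, hkil, hkir⟩ := hk.exists_inv
      obtain ⟨Q', hQ'⟩ := (hki.1.mono hg₀.dom_le).exists_image
      obtain ⟨g₁, hg₁, hg₁e⟩ := hinv Q g₀ hg₀ ki hki Q' hQ'.2.symm
      have hval : ∀ x ∈ P, f₀ x = ki (f x) := fun x hx => by rw [hfe x hx, hkil _ (hf₀.apply_mem hx)]
      refine ⟨l ∘ k, g₁ ∘ f₀, hk.comp hl, hf₀.comp hg₁ (fun x hx => hval x hx ▸ hQ'.mem (hfQ x hx)),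
        fun x hx => ?_⟩
      have h1 := hg₁e (f x) (hfQ x hx)
      simp only [Function.comp_apply]
      rw [hval x hx, h1, hkir _ (hg₀.apply_mem (hfQ x hx)), ← hge _ (hfQ x hx)]
    have hFrE : ∀ {P : Subgroup Ω} {f : Ω → Ω}, IsMap D P f → Fr P f := fun hf =>
      ⟨id, _, isIso_id hWN, hf, fun _ _ => rfl⟩
    have hFrS : ∀ {P : Subgroup Ω} {s : Ω}, P ≤ W → s ∈ normalizerIn S X →
        Fr P fun x => s * x * s⁻¹ := fun {P s} hP hs =>
      ⟨fun x => s * x * s⁻¹, id, isIso_of_mapsTo (isMap_conj hWN hs) hWN (fun x hx =>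
        (stronglyClosed_iff.mp hWclosed).2 _ _ (isMap_conj hWN hs) x hx hx) le_rfl, isMap_id hP,
        fun _ _ => rfl⟩
    have hclosedW : ∀ {P : Subgroup Ω} {f : Ω → Ω}, IsMap N P f → P ≤ W → ∀ x ∈ P, f x ∈ W :=
      fun hf hPT x hx => (stronglyClosed_iff.mp hWclosed).2 _ _ hf x hx (hPT hx)
    suffices key : ∀ m P f, IsMap N P f → P ≤ W → Nat.card W - Nat.card P = m → Fr P f from
      fun P f hf hPT => key _ P f hf hPT rfl
    intro m
    induction m using Nat.strong_induction_on with
    | _ m ih =>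
    intro P f hf hPT hm
    rcases hPT.eq_or_lt with rfl | hlt
    · have hm := hclosedW hf le_rfl
      exact ⟨f, id, isIso_of_mapsTo hf hWN hm le_rfl, isMap_id le_rfl, fun _ _ => rfl⟩
    have hbig : ∀ Q g, IsMap N Q g → Q ≤ W → Nat.card P < Nat.card Q → Fr Q g := fun Q g hg hQ hlt =>
      ih _ (by have := Subgroup.card_le_of_le hQ; omega) Q g hg hQ rfl
    have hcard : ∀ {A : Subgroup Ω}, A < W → Nat.card A < Nat.card (normalizerIn W A) := fun {A} hA =>
      card_lt_of_lt (S := normalizerIn S X) ((Fusion.normalizerIn_le W A).trans hWN) (lt_normalizerIn hWp hA)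
    obtain ⟨I, hI⟩ := hf.exists_image
    have hIT : I ≤ W := fun y hy => by
      obtain ⟨x, hx, rfl⟩ := hI.exists_preimage hy
      exact hclosedW hf hPT x hx
    have hIlt : I < W := by
      refine lt_of_le_of_ne hIT fun he => hlt.ne (Subgroup.eq_of_le_of_card_ge hPT ?_)
      rw [hI.card_eq, he]
    obtain ⟨R, hR, hRn⟩ := exists_fullyNormalized (F := N) (hPT.trans hWN)
    have hRa := fullyAutomized_of_fullyNormalized hNp hNsat hRn
    have hRr := receptive_of_fullyNormalized hNp hNsat hRn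
    obtain ⟨u, hu, huP, -⟩ := exists_normalizer_map hNp hRa hRr hR
    obtain ⟨v, hv, hvI, -⟩ := exists_normalizer_map hNp hRa hRr (isConj_trans (isConj_symm hI.isConj) hR)
    have hRT : R ≤ W := fun y hy => by
      obtain ⟨x, hx, rfl⟩ := huP.exists_preimage hy
      exact hclosedW huP.1 hPT x hx
    have hRlt : R < W := by
      refine lt_of_le_of_ne hRT fun he => hlt.ne (Subgroup.eq_of_le_of_card_ge hPT ?_)
      rw [isConj_card hR, he]
    have hsubN : ∀ A : Subgroup Ω, normalizerIn W A ≤ normalizerIn (normalizerIn S X) A :=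
      fun A => inf_le_inf_right _ hWN
    have hCu : Fr P u := by
      obtain ⟨k, g, hk, hg, he⟩ := hbig _ u (hu.mono (hsubN P)) (Fusion.normalizerIn_le W P) (hcard hlt)
      exact ⟨k, g, hk, hg.mono (le_normalizerIn hPT), fun x hx => he x (le_normalizerIn hPT hx)⟩
    obtain ⟨J, hJ⟩ := (hv.mono (hsubN I)).exists_image
    have hJT : J ≤ W := fun y hy => by
      obtain ⟨x, hx, rfl⟩ := hJ.exists_preimage hy
      exact hclosedW hJ.1 (Fusion.normalizerIn_le W I) x hx
    obtain ⟨vi, hvi, hvil, -⟩ := hJ.exists_inv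
    have hRJ : R ≤ J := fun y hy => by
      obtain ⟨x, hx, rfl⟩ := hvI.exists_preimage hy
      exact hJ.mem (le_normalizerIn hIT hx)
    have hCv : Fr R vi := by
      obtain ⟨k, g, hk, hg, he⟩ := hbig J vi hvi.1 hJT (by
        rw [← hJ.card_eq, hI.card_eq]; exact hcard hIlt)
      exact ⟨k, g, hk, hg.mono hRJ, fun x hx => he x (hRJ hx)⟩
    obtain ⟨ui, hui, huil, -⟩ := huP.exists_inv
    have hθ : IsIso N R R (v ∘ f ∘ ui) := (hui.comp hI).comp hvI
    have hCθ : Fr R (v ∘ f ∘ ui) := by
      obtain ⟨γ, hγ, hγe⟩ := hθ.exists_aut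
      have hRS : R ≤ normalizerIn S X := hRn.1
      haveI := finite_of_le hRS
      haveI := finite_mulAut R
      haveI := finite_of_le (sup_le (hRS.trans hNS) hXS)
      let B : Subgroup (N.autGroup R) :=
        { carrier := {a | ∃ g, TGen F E p (R ⊔ X) g ∧ Set.EqOn g (autFun (a : MulAut R)) R ∧
            g '' (X : Set Ω) = (X : Set Ω)}
          one_mem' := ⟨id, tgen_id n (sup_le (hRS.trans hNS) hXS), fun x hx => by
            rw [Subgroup.coe_one, autFun_one hx], Set.image_id _⟩
          mul_mem' := fun {a b} ha hb => by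
            obtain ⟨ga, hga, hgae, hgaX⟩ := ha
            obtain ⟨gb, hgb, hgbe, hgbX⟩ := hb
            refine ⟨ga ∘ gb, hgb.comp hga (isMap_mem_sup (hgb.isMap n) le_sup_left le_sup_right
              (fun x hx => Subgroup.mem_sup_left (hgbe hx ▸ autFun_mem_self _ hx))
              fun x hx => Subgroup.mem_sup_right (show gb x ∈ (X : Set Ω) from hgbX ▸ ⟨x, hx, rfl⟩)),
              fun x hx => ?_, by rw [Set.image_comp, hgbX, hgaX]⟩
            rw [Subgroup.coe_mul, autFun_mul _ _ hx, Function.comp_apply, Function.comp_apply, hgbe hx,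
              hgae (autFun_mem_self _ hx)]
          inv_mem' := fun {a} ha => by
            obtain ⟨g, hg, hge, hgX⟩ := ha
            have hgi : IsIso F (R ⊔ X) (R ⊔ X) g := isIso_of_mapsTo (hg.isMap n) (sup_le (hRS.trans hNS) hXS)
              (isMap_mem_sup (hg.isMap n) le_sup_left le_sup_right
                (fun x hx => Subgroup.mem_sup_left (hge hx ▸ autFun_mem_self _ hx))
                fun x hx => Subgroup.mem_sup_right (show g x ∈ (X : Set Ω) from hgX ▸ ⟨x, hx, rfl⟩)) le_rfl
            obtain ⟨gi, hgi', hgil, -⟩ := hgi.exists_inv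
            refine ⟨gi, .inv hg hgi.2 hgil, fun y hy => ?_, ?_⟩
            · obtain ⟨x, hx, rfl⟩ := ((mem_autGroup hRS).mp a.2).exists_preimage hy
              rw [Subgroup.coe_inv, PrimeIndex.autFun_inv_apply _ hx, ← hge hx,
                hgil x (Subgroup.mem_sup_left hx)]
            · conv_lhs => rw [← hgX, ← Set.image_comp]
              exact (Set.image_congr fun x hx => hgil x (Subgroup.mem_sup_right hx)).trans (Set.image_id' _) }
      haveI hBn : B.Normal := by
        refine ⟨fun a ha b => ?_⟩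
        obtain ⟨g, hg, hge, hgX⟩ := ha
        have hbi := (mem_autGroup hRS).mp b.2
        obtain ⟨-, -, -, b', hb', hb'e, hb'X⟩ := isMap_normalizerSystem.mp hbi.1
        have hst : ∀ {h : Ω → Ω} {c : MulAut R}, IsMap F (R ⊔ X) h → Set.EqOn h (autFun c) R →
            h '' (X : Set Ω) = (X : Set Ω) → ∀ v ∈ R ⊔ X, h v ∈ R ⊔ X := fun {h c} hh he hX' =>
          isMap_mem_sup hh le_sup_left le_sup_right
            (fun x hx => Subgroup.mem_sup_left (he hx ▸ autFun_mem_self c hx))
            fun x hx => Subgroup.mem_sup_right (show h x ∈ (X : Set Ω) from hX' ▸ ⟨x, hx, rfl⟩)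
        obtain ⟨k', hk', hk'e⟩ := hg.strongInv n (hst (hg.isMap n) hge hgX)
          (isIso_of_mapsTo hb' (sup_le (hRS.trans hNS) hXS) (hst hb' hb'e hb'X) le_rfl)
        refine ⟨k', hk', fun y hy => ?_, image_of_conj hb'X hgX fun v hv => hk'e v (Subgroup.mem_sup_right hv)⟩
        obtain ⟨x, hx, rfl⟩ := hbi.exists_preimage hy
        rw [Subgroup.coe_mul, Subgroup.coe_mul, Subgroup.coe_inv, autFun_mul _ _ (hbi.mem hx),
          Function.comp_apply, PrimeIndex.autFun_inv_apply _ hx, autFun_mul _ _ hx, Function.comp_apply,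
          ← hb'e hx, hk'e x (Subgroup.mem_sup_left hx), hge hx, hb'e (autFun_mem_self _ hx)]
      obtain ⟨Y, hY⟩ := hRa.2
      obtain ⟨YB, hYB⟩ := Transfer.exists_sylow_subgroupOf_normal Y B
      have htop := Sylow.normalizer_sup_eq_top (N := B) YB
      obtain ⟨ν, hν, b, hb, hνb⟩ :=
        Subgroup.mem_sup_of_normal_right.mp (htop.ge (Subgroup.mem_top ⟨γ, hγ⟩))
      have hbE : Fr R (autFun (b : MulAut R)) := by
        let H : Subgroup B :=
          { carrier := {c | Fr R (autFun ((c : N.autGroup R) : MulAut R))}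
            one_mem' := hFrE ((isMap_id hRT).congr fun x hx => by
              rw [OneMemClass.coe_one, OneMemClass.coe_one, autFun_one hx])
            mul_mem' := fun {c d} hc' hd => by
              obtain ⟨k, g, hk, hg, he⟩ := hFrcomp hd hc' fun v hv => autFun_mem_self _ hv
              refine ⟨k, g, hk, hg, fun x hx => ?_⟩
              rw [← he x hx, ← autFun_mul _ _ hx]
              rfl
            inv_mem' := fun {c} hc' => by
              obtain ⟨j, hj⟩ : ∃ j : ℕ, c⁻¹ = c ^ j := ⟨orderOf c - 1, by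
                rw [inv_eq_iff_mul_eq_one, ← pow_succ', Nat.sub_add_cancel (orderOf_pos c),
                  pow_orderOf_eq_one]⟩
              show Fr R (autFun (((c⁻¹ : B) : N.autGroup R) : MulAut R))
              rw [hj]
              clear hj
              induction j with
              | zero =>
                rw [pow_zero]
                exact hFrE ((isMap_id hRT).congr fun x hx => by
                  rw [OneMemClass.coe_one, OneMemClass.coe_one, autFun_one hx])
              | succ j ihj =>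
                obtain ⟨k, g, hk, hg, he⟩ := hFrcomp ihj hc' fun v hv => autFun_mem_self _ hv
                refine ⟨k, g, hk, hg, fun x hx => ?_⟩
                rw [← he x hx, ← autFun_mul _ _ hx, pow_succ']
                rfl }
        have hHtop : H = ⊤ := eq_top_of_sylow_coprime YB H (fun c hc' => ?_) fun c hc' => ?_
        · exact hHtop.ge (Subgroup.mem_top (⟨b, hb⟩ : B))
        · rw [hYB, Subgroup.mem_subgroupOf, hY, Subgroup.mem_subgroupOf, mem_autInducedBy] at hc'
          obtain ⟨s, hs, hse⟩ := hc'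
          obtain ⟨k, g, hk, hg, he⟩ := hFrS hRT hs
          exact ⟨k, g, hk, hg, fun x hx => by rw [autFun_of_mem _ hx, hse ⟨x, hx⟩, ← he x hx]⟩
        · obtain ⟨g, hg, hge, hgX⟩ := c.2
          refine hFrE (hcoD hRT _ ((mem_autGroup hRS).mpr ⟨?_, autFun_image _⟩) (by
            rwa [Subgroup.orderOf_coe, Subgroup.orderOf_coe]))
          exact isMap_normalizerSystem.mpr ⟨((isMap_tgen hg).mono le_sup_left).congr hge, hRS,
            fun x hx => hRS (autFun_mem_self _ hx), g, isMap_tgen hg, hge, hgX⟩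
      have hnExt : Fr R (autFun (ν : MulAut R)) := by
        have hiso := (mem_autGroup hRS).mp ν.2
        have hM : IsExtendable (normalizerIn S X) R (autFun (ν : MulAut R)) (normalizerIn W R) := by
          refine ⟨(Fusion.normalizerIn_le W R).trans hWN, fun g hg => ⟨hg.2, ?_⟩⟩
          rw [← congr_autInducedBy_mem hiso (hsubN R hg)]
          have hS' : conjAutHom (normalizerIn S X) R ⟨g, hsubN R hg⟩ ∈ autInducedBy (normalizerIn S X) R := by
            rw [← range_conjAutHom]; exact ⟨_, rfl⟩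
          let c : N.autGroup R := ⟨_, autInducedBy_le_autGroup hRS hS'⟩
          have hcB : c ∈ B := ⟨fun x => g * x * g⁻¹, .conj (sup_le (hRS.trans hNS) hXS) hg.1.1,
            fun x hx => (conjAutHom_autFun (S := normalizerIn S X) (hsubN R hg) hx).symm,
            image_conj_eq_self hg.1.2⟩
          have hc : c ∈ (YB : Subgroup B).map B.subtype := by
            rw [hYB]
            exact ⟨⟨c, hcB⟩, by
              show c ∈ (Y : Subgroup (N.autGroup R))
              rw [hY]; exact Subgroup.mem_subgroupOf.mpr hS', rfl⟩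
          have h1 := (Subgroup.mem_normalizer_iff.mp hν c).mp hc
          rw [hYB, Subgroup.subgroupOf_map_subtype] at h1
          have h2 := h1.1
          rw [hY] at h2
          have e : hiso.equiv = (ν : MulAut R) := MulEquiv.ext fun x => Subtype.ext (by
            rw [hiso.equiv_apply, autFun_coe])
          rw [e]
          exact h2
        obtain ⟨f', hf', he⟩ := receptive_extend hRr hiso hM
        obtain ⟨k, g, hk, hg, hge⟩ := hbig _ f' (hf'.mono le_sup_right) (Fusion.normalizerIn_le W R)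
          (by rw [isConj_card hR]; exact hcard hRlt)
        exact ⟨k, g, hk, hg.mono (le_normalizerIn hRT), fun x hx =>
          (he hx).symm.trans (hge x (le_normalizerIn hRT hx))⟩
      obtain ⟨k, g, hk, hg, hge⟩ := hFrcomp hbE hnExt fun x hx => autFun_mem_self _ hx
      refine ⟨k, g, hk, hg, fun x hx => ?_⟩
      rw [← hge x hx, ← autFun_mul _ _ hx, ← Subgroup.coe_mul, hνb]
      exact (hγe hx).symm
    have h1 : Fr P ((v ∘ f ∘ ui) ∘ u) := hFrcomp hCu hCθ fun x hx => huP.mem hx
    obtain ⟨k, g, hk, hg, hge⟩ := hFrcomp h1 hCv fun x hx => hθ.mem (huP.mem hx)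
    refine ⟨k, g, hk, hg, fun x hx => ?_⟩
    rw [← hge x hx]
    simp only [Function.comp_apply]
    rw [huil x hx, hvil _ (le_normalizerIn hIT (hI.mem hx))]
  exact ⟨_, PrimeIndex.residual_normal hNp ⟨hDsat, hNsat, hinvariant⟩,
    fun P f hf => hDE P f (IsMap.of_subset (PrimeIndex.fdSystem_sub (F := D) P) hf)⟩

end Cfsg.Agent.Fusion.Prod
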