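import Cfsg.Agent.Lib.Fusion.Prod.Automized
import Cfsg.Agent.Lib.Thompson.Cores

/-!
# Saturation of the system of maps trivial modulo `T`
-/

set_option autoImplicit false
set_option linter.style.haveILetI false

namespace Cfsg.Agent.Fusion.Prod

open Cfsg Cfsg.Agent.Fusion Cfsg.Agent.Fusion.NormalLift Cfsg.Agent.Fusion.Inter
open Cfsg.Agent.Fusion.SatCrit
open Cfsg.FusionSystem (normalizerIn centralizerIn)

variable {Ω : Type*} [Group Ω] {S T : Subgroup Ω} {F : FusionSystem S} {E : FusionSystem T} {p : ℕ}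
  [Finite S] [Fact p.Prime]

/-- A fully normalized subgroup of the system moves into good position with all of `N_T(P)`. -/
theorem exists_pos (n : NData F E p) {P : Subgroup Ω} (hP : P ≤ S)
    (hto : ∀ x, (pSys n).IsConj P x →
      ∃ a, IsMap (pSys n) (normalizerIn S x) a ∧ IsIso (pSys n) x P a) :
    ∃ P' θ, Pos n P P' θ := by
  obtain ⟨P', θ, hn, hθ, hθP, hθN⟩ := exists_nice n hP
  refine ⟨P', θ, hn, hθ, hθP, hθN, ?_⟩
  obtain ⟨x, g, hx, hg, hxe⟩ := frattini n P θ hθP.1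
  obtain ⟨Q, hQ⟩ := (isMap_tgen (n := n) hx).exists_image
  have hgQ : IsMap F (Q ⊔ T) g := (hx.image_sup n hQ.2).symm ▸ hg
  have hgim : g '' (Q : Set Ω) = (P' : Set Ω) := by
    rw [← hQ.2, ← Set.image_comp, ← hθP.2]
    exact Set.image_congr fun v hv => (hxe v hv).symm
  obtain ⟨Z, hZ⟩ := hgQ.exists_image
  obtain ⟨gi, hgi, hgl, -⟩ := hZ.exists_inv
  have hP'Z : P' ≤ Z := fun y hy => by
    obtain ⟨q, hq, rfl⟩ : y ∈ g '' (Q : Set Ω) := hgim.symm ▸ hy
    exact hZ.mem (Subgroup.mem_sup_left hq)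
  have hTZ : T ≤ Z := fun y hy => by
    haveI := n.finiteT
    obtain ⟨u, hu, rfl⟩ := surjOn_of_card_le (N := T) n.tS
      (hgQ.injOn.mono fun u hu => (Subgroup.mem_sup_right hu : u ∈ Q ⊔ T))
      (fun u hu => Fusion92.closed_apply n.closed hgQ (Subgroup.mem_sup_right hu) hu) le_rfl y hy
    exact hZ.mem (Subgroup.mem_sup_right hu)
  have him : gi '' (P' : Set Ω) = (Q : Set Ω) := by
    rw [← hgim, ← Set.image_comp]
    exact (Set.image_congr fun u hu => hgl u (Subgroup.mem_sup_left hu)).trans (Set.image_id' _)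
  obtain ⟨a, ha, haP⟩ := hto Q hQ.isConj
  have hgiN : ∀ y ∈ normalizerIn T P', gi y ∈ normalizerIn T Q := fun y hy =>
    ⟨Fusion92.closed_apply n.closed hgi.1 (hTZ hy.1) hy.1,
      (map_mem_normalizer hgi.1 hP'Z him (hTZ hy.1) hy.2).2⟩
  have hTS : ∀ {R : Subgroup Ω}, normalizerIn T R ≤ normalizerIn S R :=
    fun {R} => inf_le_inf_right _ n.tS
  have haN : ∀ y ∈ normalizerIn T Q, a y ∈ normalizerIn T P := fun y hy =>
    ⟨Fusion92.closed_apply n.closed (ha.of_le (pSys_le n)) (hTS hy) hy.1,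
      (normalizer_map_mem ha haP (le_normalizerIn hQ.cod_le) le_rfl (hTS hy)).2⟩
  have hcard : Nat.card (normalizerIn T P') ≤ Nat.card (normalizerIn T P) :=
    le_trans (card_le_of_injOn ((Fusion.normalizerIn_le T Q).trans n.tS)
      (hgi.1.injOn.mono fun y hy => hTZ hy.1) hgiN)
      (card_le_of_injOn ((Fusion.normalizerIn_le T P).trans n.tS)
        (ha.injOn.mono fun y hy => hTS hy) haN)
  exact surjOn_of_card_le ((Fusion.normalizerIn_le T P').trans n.tS) (hθ.injOn.mono fun y hy => hTS hy)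
    (fun y hy => ⟨Fusion92.closed_apply n.closed hθ (hTS hy) hy.1, (hθN y (hTS hy)).2⟩) hcard

set_option maxHeartbeats 1000000 in
/-- The extension condition. -/
theorem receptive_pSys (n : NData F E p) {P P' : Subgroup Ω} {θ : Ω → Ω} (hpos : Pos n P P' θ)
    (hct : CT F T (P ⊓ T)) (hA : (pSys n).IsFullyAutomized p P)
    (hto : ∀ x, (pSys n).IsConj P x →
      ∃ a, IsMap (pSys n) (normalizerIn S x) a ∧ IsIso (pSys n) x P a) :
    (pSys n).IsReceptive P := by
  have hPS := hpos.iso.dom_le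
  haveI := finite_of_le hPS
  haveI := finite_mulAut P
  set A := (pSys n).autGroup P with hAdef
  obtain ⟨U, hU⟩ : ∃ U : Sylow p A, (U : Subgroup A) = (autInducedBy S P).subgroupOf A := hA.2
  let Good : Subgroup A → A → Prop := fun Q a =>
    ∃ g, IsMap (pSys n) (preim S P Q) g ∧ Set.EqOn g (autFun (a : MulAut P)) P
  have hPN : P ≤ normalizerIn S P := le_normalizerIn hPS
  have hUS : ∀ {a : A}, a ∈ (U : Subgroup A) → (a : MulAut P) ∈ autInducedBy S P := fun {a} ha => by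
    rw [hU, Subgroup.mem_subgroupOf] at ha
    exact ha
  have hiso : ∀ {Q : Subgroup A} {a : A} {g : Ω → Ω}, IsMap (pSys n) (preim S P Q) g →
      Set.EqOn g (autFun (a : MulAut P)) P → IsIso (pSys n) P P g := fun {Q a g} hg he =>
    ⟨hg.mono le_sup_left, (Set.image_congr he).trans (autFun_image _)⟩
  have hmaps : ∀ {Q : Subgroup A} {a : A} {g : Ω → Ω}, IsMap (pSys n) (preim S P Q) g →
      Set.EqOn g (autFun (a : MulAut P)) P → ∀ x ∈ preim S P Q, g x ∈ preim S P (cj a Q) := by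
    intro Q a g hg he
    refine isMap_mem_sup hg le_sup_left le_sup_right
      (fun x hx => Subgroup.mem_sup_left ((hiso hg he).mem hx)) fun k hk => ?_
    obtain ⟨hkN, v, hv, hve⟩ := mem_preimPart.mp hk
    have hkm : k ∈ preim S P Q := Subgroup.mem_sup_right hk
    refine Subgroup.mem_sup_right (mem_preimPart.mpr
      ⟨normalizer_map_mem hg (hiso hg he) le_sup_left (preim_le hPS Q) hkm, a * v * a⁻¹,
        ⟨v, hv, rfl⟩, fun y hy => ?_⟩)
    obtain ⟨z, hz, rfl⟩ := (hiso hg he).exists_preimage hy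
    have hkz : k * z * k⁻¹ ∈ P := conj_mem_of_mem_normalizer hkN.2 hz
    rw [← hg.map_conj hkm (Subgroup.mem_sup_left hz), he hkz, ← hve z hz, he hz, Subgroup.coe_mul,
      Subgroup.coe_mul, Subgroup.coe_inv, autFun_mul _ _ (autFun_mem_self _ hz), Function.comp_apply,
      PrimeIndex.autFun_inv_apply _ hz, autFun_mul _ _ hz, Function.comp_apply]
  have hall := fusion_induction U Good (fun Q hQ u hu => ?_) (fun Q hQ a hao hca => ?_)
    (fun Q a b hQ haQ hga hgb => ?_) (fun Q a hQ haQ hga => ?_) (fun Q Q' a hle hQ hga => ?_)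
  rotate_left
  · obtain ⟨s, hs, hse⟩ := mem_autInducedBy.mp (hUS hu)
    exact ⟨_, isMap_conj ((preim_le hPS Q).trans (Fusion.normalizerIn_le S P)) hs,
      fun x hx => ((autFun_of_mem _ hx).trans (hse ⟨x, hx⟩)).symm⟩
  · have hQS : Q.map A.subtype ≤ autInducedBy S P := by
      rintro _ ⟨v, hv, rfl⟩
      exact hUS (hQ hv)
    obtain ⟨g, hg, hge⟩ := extends_cop n hpos hct a.2 (by rwa [Subgroup.orderOf_coe])
      (V := Q.map A.subtype ⊔ autInducedBy P P) (sup_le hQS (autInducedBy_mono hPS)) le_sup_right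
      (pow_mem_of_conj (a := (a : MulAut P)) fun v hv => by
        obtain ⟨v, hv, rfl⟩ := hv
        exact ⟨a * v * a⁻¹, hca.le ⟨v, hv, rfl⟩, rfl⟩)
    refine ⟨g, hg.mono (sup_le (le_pre hPS le_sup_right) ?_), hge⟩
    exact Subgroup.map_mono (Subgroup.comap_mono le_sup_left)
  · obtain ⟨ga, hga, hgae⟩ := hga
    obtain ⟨gb, hgb, hgbe⟩ := hgb
    refine ⟨gb ∘ ga, hga.comp hgb (hmaps hga hgae), fun x hx => ?_⟩
    rw [Function.comp_apply, hgae hx, hgbe (autFun_mem_self _ hx), Subgroup.coe_mul, autFun_mul _ _ hx,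
      Function.comp_apply]
  · obtain ⟨g, hg, hge⟩ := hga
    obtain ⟨Y, hY⟩ := hg.exists_image
    have hPY : P ≤ Y := fun y hy => by
      obtain ⟨x, hx, rfl⟩ := (hiso hg hge).exists_preimage hy
      exact hY.mem (Subgroup.mem_sup_left hx)
    have hCQ : centralizerIn S P ≤ preim S P Q := fun c hc =>
      Subgroup.mem_sup_right (mem_preimPart.mpr ⟨centralizerIn_le_normalizerIn S P hc, 1, Q.one_mem,
        fun x hx => by
          rw [Subgroup.coe_one, autFun_one hx, id_eq, ← Subgroup.mem_centralizer_iff.mp hc.2 x hx,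
            mul_inv_cancel_right]⟩)
    have hle : preim S P (cj a Q) ≤ Y := by
      refine sup_le hPY fun y hy => ?_
      obtain ⟨hyN, w, hw, hwe⟩ := mem_preimPart.mp hy
      obtain ⟨v, hv, rfl⟩ := hw
      obtain ⟨k, hk, hke⟩ := exists_pre (S := S) (P := P) (V := Q.map A.subtype)
        (by rintro _ ⟨v, hv, rfl⟩; exact hUS (hQ hv)) (Subgroup.mem_map_of_mem A.subtype hv)
      have hkN : k ∈ normalizerIn S P := pre_le P _ hk
      have hkm : k ∈ preim S P Q := Subgroup.mem_sup_right hk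
      have hgkN := normalizer_map_mem hg (hiso hg hge) le_sup_left (preim_le hPS Q) hkm
      have hc : (g k)⁻¹ * y ∈ centralizerIn S P := inv_mul_mem_centralizerIn hyN.1 hgkN.1 fun z hz => by
        obtain ⟨u, hu, rfl⟩ := (hiso hg hge).exists_preimage hz
        have hku : k * u * k⁻¹ ∈ P := conj_mem_of_mem_normalizer hkN.2 hu
        rw [← hwe _ ((hiso hg hge).mem hu), ← hg.map_conj hkm (Subgroup.mem_sup_left hu), hge hku,
          ← hke u hu, hge hu]
        show autFun ((a * v * a⁻¹ : A) : MulAut P) (autFun (a : MulAut P) u) =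
          autFun (a : MulAut P) (autFun (v : MulAut P) u)
        rw [Subgroup.coe_mul, Subgroup.coe_mul, Subgroup.coe_inv, autFun_mul _ _ (autFun_mem_self _ hu),
          Function.comp_apply, PrimeIndex.autFun_inv_apply _ hu, autFun_mul _ _ hu, Function.comp_apply]
      obtain ⟨c, hcC, hce⟩ := surjOn_of_card_le (Fusion.centralizerIn_le S P) (hg.injOn.mono hCQ)
        (fun c hc => map_mem_centralizer hg le_sup_left (hiso hg hge).2 (hCQ hc) hc.2) le_rfl _ hc
      have := hY.mem ((preim S P Q).mul_mem hkm (hCQ hcC))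
      rwa [hg.map_mul hkm (hCQ hcC), hce, mul_inv_cancel_left] at this
    obtain ⟨gi, hgi, hgil, -⟩ := hY.exists_inv
    refine ⟨gi, hgi.1.mono hle, fun y hy => ?_⟩
    obtain ⟨x, hx, rfl⟩ := (hiso hg hge).exists_preimage hy
    rw [hgil x (Subgroup.mem_sup_left hx), hge hx, Subgroup.coe_inv, PrimeIndex.autFun_inv_apply _ hx]
  · obtain ⟨g, hg, hge⟩ := hga
    exact ⟨g, hg.mono (preim_mono hle), hge⟩
  -- extension of an isomorphism onto `P`
  refine isReceptive_of hPS fun Q f hf M hQM hM => ?_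
  obtain ⟨a, ha, haQ⟩ := hto Q (isConj_symm hf.isConj)
  have hMN : M ≤ normalizerIn S Q := fun g hg => ⟨hM.1 hg, (hM.2 g hg).1⟩
  obtain ⟨ai, hai, hail, -⟩ := haQ.exists_inv
  obtain ⟨β, hβ, hβe⟩ := (hai.comp hf).exists_aut
  obtain ⟨M₂, hM₂⟩ := (ha.mono hMN).exists_image
  set QA := ((M₂.subgroupOf (normalizerIn S P)).map (conjAutHom S P)).subgroupOf A with hQA
  have hQU : QA ≤ U := fun v hv => by
    rw [hU, Subgroup.mem_subgroupOf]
    obtain ⟨g, -, hge⟩ := Subgroup.mem_subgroupOf.mp hv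
    rw [← hge, ← range_conjAutHom]
    exact ⟨g, rfl⟩
  have hM₂N : M₂ ≤ normalizerIn S P := fun y hy => by
    obtain ⟨m, hm, rfl⟩ := hM₂.exists_preimage hy
    exact normalizer_map_mem ha haQ (le_normalizerIn hf.dom_le) le_rfl (hMN hm)
  have hβQ : cj (⟨β, hβ⟩ : A) QA ≤ U := by
    rintro _ ⟨v, hv, rfl⟩
    rw [hU, Subgroup.mem_subgroupOf]
    obtain ⟨⟨y, hyN⟩, hy, hve⟩ := Subgroup.mem_subgroupOf.mp hv
    obtain ⟨m, hm, rfl⟩ := hM₂.exists_preimage (Subgroup.mem_subgroupOf.mp hy)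
    obtain ⟨hmN, h, hh, hhe⟩ := hM.2 m hm
    refine mem_autInducedBy.mpr ⟨h, hh, fun z => ?_⟩
    obtain ⟨w, rfl⟩ := β.surjective z
    show ((β * (v : MulAut P) * β⁻¹) (β w) : Ω) = _
    rw [MulAut.mul_apply, MulAut.mul_apply, MulAut.inv_apply_self, ← hve, ← autFun_coe β, ← autFun_coe β w]
    obtain ⟨x, hx, hxe⟩ := haQ.exists_preimage w.2
    have e1 : autFun β (a x) = f x := by
      rw [hβe (haQ.mem hx), Function.comp_apply, hail x hx]
    have e2 : ((conjAutHom S P ⟨a m, hyN⟩ w : P) : Ω) = a (m * x * m⁻¹) := by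
      rw [conjAutHom_apply, ← hxe, ha.map_conj (hMN hm) (le_normalizerIn hf.dom_le hx)]
    have hmx : m * x * m⁻¹ ∈ Q := conj_mem_of_mem_normalizer hmN hx
    rw [e2, ← hxe, e1, hβe (haQ.mem hmx), Function.comp_apply, hail _ hmx, hhe x hx]
  obtain ⟨g, hg, hge⟩ := hall QA ⟨β, hβ⟩ hQU hβQ
  refine ⟨g ∘ a, (ha.mono hMN).comp hg fun m hm => ?_, fun x hx => ?_⟩
  · have hN := hM₂N (hM₂.mem hm)
    refine Subgroup.mem_sup_right (mem_preimPart.mpr ⟨hN, ⟨conjAutHom S P ⟨a m, hN⟩,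
      autInducedBy_le_autGroup hPS (by rw [← range_conjAutHom]; exact ⟨_, rfl⟩)⟩,
      Subgroup.mem_subgroupOf.mpr ⟨⟨a m, hN⟩, Subgroup.mem_subgroupOf.mpr (hM₂.mem hm), rfl⟩,
      fun y hy => conjAutHom_autFun hN hy⟩)
  · show g (a x) = f x
    rw [hge (haQ.mem hx), hβe (haQ.mem hx), Function.comp_apply, hail x hx]

/-- The saturation axioms at a subgroup with centric part in `T`. -/
theorem sat_of_ct (n : NData F E p) {P : Subgroup Ω} (hP : P ≤ S) (hct : CT F T (P ⊓ T))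
    (hbig : ∀ R : Subgroup Ω, R ≤ S → Nat.card P < Nat.card R → Sat (pSys n) p R) :
    Sat (pSys n) p P := by
  rcases eq_or_lt_of_le hP with rfl | hlt
  · have hto : ∀ x, (pSys n).IsConj P x →
        ∃ a, IsMap (pSys n) (normalizerIn P x) a ∧ IsIso (pSys n) x P a := fun x hx => by
      obtain rfl : x = P := Subgroup.eq_of_le_of_card_ge (isConj_le_right hx) (isConj_card hx).le
      exact ⟨id, isMap_id (Fusion.normalizerIn_le _ _), isIso_id le_rfl⟩
    obtain ⟨P', θ, hpos⟩ := exists_pos n le_rfl hto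
    have hA := fullyAutomized_pSys n hpos hct fun u hu => inGam_top n hu
    exact ⟨P, isConj_refl le_rfl, hA, receptive_pSys n hpos hct hA hto⟩
  · have h : Crit (pSys n) p P := ⟨n.pgroup, hP, hlt, hbig⟩
    obtain ⟨Q, hQ, hQn⟩ := exists_fullyNormalized (F := pSys n) hP
    have hctQ : CT F T (Q ⊓ T) := by
      obtain ⟨f, hf⟩ := isConj_iff.mp hQ
      exact hct.of_isConj n.closed (isIso_inf n.closed (Prod.isIso_pSys hf)).isConj
    have hto : ∀ x, (pSys n).IsConj Q x →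
        ∃ a, IsMap (pSys n) (normalizerIn S x) a ∧ IsIso (pSys n) x Q a :=
      fun x hx => exists_to n h hQn hQ (isConj_trans hQ hx)
    obtain ⟨Q', θ, hpos⟩ := exists_pos n hQn.1 hto
    have hA := fullyAutomized_pSys n hpos hctQ fun u hu => inGam_all n h hQ hQn hu
    exact ⟨Q, hQ, hA, receptive_pSys n hpos hctQ hA hto⟩

set_option maxHeartbeats 1000000 in
/-- The system of maps trivial modulo `T` is saturated. -/
theorem pSys_isSaturated (n : NData F E p) : (pSys n).IsSaturated p := by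
  have hℋconj : ∀ P ∈ {P : Subgroup Ω | P ≤ S ∧ CT F T (P ⊓ T)}, ∀ Q, (pSys n).IsConj P Q →
      Q ∈ {P : Subgroup Ω | P ≤ S ∧ CT F T (P ⊓ T)} := fun P hP Q hQ => by
    refine ⟨isConj_le_right hQ, ?_⟩
    obtain ⟨f, hf⟩ := isConj_iff.mp hQ
    exact hP.2.of_isConj n.closed (isIso_inf n.closed (Prod.isIso_pSys hf)).isConj
  have hgen : ∀ E' : FusionSystem S, (∀ P ∈ {P : Subgroup Ω | P ≤ S ∧ CT F T (P ⊓ T)},
      (pSys n).Hom P ⊆ E'.Hom P) → pSys n ≤ E' := by
    intro E' hE'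
    have key : ∀ {P : Subgroup Ω} {f : Ω → Ω}, TGen F E p P f → IsMap E' P f := by
      intro P f hf
      induction hf with
      | @aut P Q f ha hle =>
        exact (IsMap.of_subset (hE' P ⟨ha.iso.dom_le, ha.ct⟩) (ha.isIso_pSys n).1).mono hle
      | conj hP ht => exact isMap_conj hP (n.tS ht)
      | comp _ _ hm hf hg => exact hf.comp hg hm
      | @inv P Q f g _ him hinv hf =>
        have hiso : IsIso E' P Q f := ⟨hf, him⟩
        obtain ⟨g', hg', hl', -⟩ := hiso.exists_inv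
        refine hg'.1.congr fun y hy => ?_
        obtain ⟨x, hx, rfl⟩ := hiso.exists_preimage hy
        rw [hl' x hx, hinv x hx]
      | congr _ he hf => exact hf.congr he
    refine le_of_isMap fun P f hf => ?_
    obtain ⟨s, hs, x, hx, hxe⟩ := isMap_pSys.mp hf
    exact ((key hx).comp (isMap_conj (F := E') le_rfl hs) fun v hv => (key hx).apply_mem hv).congr
      fun v hv => (hxe v hv).symm
  have hstar : ∀ P : Subgroup Ω, (pSys n).IsCentric P → P ∉ {P : Subgroup Ω | P ≤ S ∧ CT F T (P ⊓ T)} →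
      ∃ Q, (pSys n).IsConj P Q ∧ ¬ (autInducedBy S Q ⊓
        (pCore p ((pSys n).autGroup Q)).map ((pSys n).autGroup Q).subtype ≤ Cfsg.Inn Q) := by
    intro P hPc hPn
    have hPS := hPc.1
    obtain ⟨P', θ, hn, -, hθP, -⟩ := exists_nice n hPS
    obtain ⟨x, g, hx, hg, hxe⟩ := frattini n P θ hθP.1
    obtain ⟨Q, hQ⟩ := (isMap_tgen (n := n) hx).exists_image
    refine ⟨Q, hQ.isConj, fun hle => ?_⟩
    have hQS := hQ.cod_le
    have hgQ : IsMap F (Q ⊔ T) g := (hx.image_sup n hQ.2).symm ▸ hg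
    have hgi : IsIso F Q P' g := ⟨hgQ.mono le_sup_left, by
      rw [← hQ.2, ← Set.image_comp, ← hθP.2]
      exact Set.image_congr fun v hv => (hxe v hv).symm⟩
    have hgiT := isIso_inf n.closed hgi
    have hnc : ¬ centralizerIn T (P' ⊓ T) ≤ P' ⊓ T := fun hc => hPn ⟨hPS,
      (ct_of_fullyNormalized n hn.1 inf_le_right hc).of_isConj n.closed
        (isConj_symm (isIso_inf n.closed hθP).isConj)⟩
    obtain ⟨z, hz, hzU⟩ := SetLike.not_le_iff_exists.mp hnc
    haveI := n.finiteT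
    have hTsub : ∀ {u : Ω}, u ∈ T → u ∈ Q ⊔ T := fun hu => Subgroup.mem_sup_right hu
    obtain ⟨u, hu, rfl⟩ := surjOn_of_card_le (N := T) n.tS (hgQ.injOn.mono fun u hu => hTsub hu)
      (fun u hu => Fusion92.closed_apply n.closed hgQ (hTsub hu) hu) le_rfl z hz.1
    have huC : u ∈ centralizerIn T (Q ⊓ T) := ⟨hu, Subgroup.mem_centralizer_iff.mpr fun v hv => by
      refine hgQ.injOn (Subgroup.mul_mem _ (Subgroup.mem_sup_left hv.1) (hTsub hu))
        (Subgroup.mul_mem _ (hTsub hu) (Subgroup.mem_sup_left hv.1)) ?_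
      rw [hgQ.map_mul (Subgroup.mem_sup_left hv.1) (hTsub hu), hgQ.map_mul (hTsub hu) (Subgroup.mem_sup_left hv.1)]
      exact Subgroup.mem_centralizer_iff.mp hz.2 _ (hgiT.mem hv)⟩
    have huQ : u ∉ Q ⊓ T := fun h => hzU (hgiT.mem h)
    set C := centralizerIn T (Q ⊓ T) with hC
    have hCS : C ≤ S := (centralizerIn_le T _).trans n.tS
    have hQC : Q ≤ Subgroup.normalizer (C : Set Ω) := fun y hy => by
      haveI := finite_of_le hCS
      refine Subgroup.mem_normalizer_fintype fun c hc => ⟨n.conj_t (hQS hy) hc.1,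
        Subgroup.mem_centralizer_iff.mpr fun v hv => ?_⟩
      have h1 : y⁻¹ * v * y ∈ Q ⊓ T := ⟨Q.mul_mem (Q.mul_mem (Q.inv_mem hy) hv.1) hy,
        Fusion92.conj_inv_mem_closed n.closed (hQS hy) hv.2⟩
      have h2 := Subgroup.mem_centralizer_iff.mp hc.2 _ h1
      calc v * (y * c * y⁻¹) = y * ((y⁻¹ * v * y) * c) * y⁻¹ := by group
        _ = y * (c * (y⁻¹ * v * y)) * y⁻¹ := by rw [h2]
        _ = y * c * y⁻¹ * v := by group
    have hlt : Q < Q ⊔ C := lt_of_le_of_ne le_sup_left fun e => huQ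
      ⟨e.ge (Subgroup.mem_sup_right huC), hu⟩
    have hXS : Q ⊔ C ≤ S := sup_le hQS hCS
    haveI := finite_of_le hXS
    obtain ⟨d, hd, hdQ⟩ := SetLike.exists_of_lt (lt_normalizerIn (n.pgroup.to_le hXS) hlt)
    have hd1 : (d : Ω) ∈ ((Q ⊔ C : Subgroup Ω) : Set Ω) := hd.1
    rw [Subgroup.coe_mul_of_left_le_normalizer_right Q C hQC] at hd1
    obtain ⟨q, hq, c, hc, rfl⟩ := hd1
    have hcN : c ∈ normalizerIn S Q := ⟨hCS hc, by
      have := Subgroup.mul_mem _ (Subgroup.inv_mem _ (Subgroup.le_normalizer hq)) hd.2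
      rwa [inv_mul_cancel_left] at this⟩
    have hcQ : c ∉ Q := fun h => hdQ (Q.mul_mem hq h)
    haveI := finite_of_le hQS
    haveI := finite_mulAut Q
    set A := (pSys n).autGroup Q with hA
    have hind : conjAutHom S Q ⟨c, hcN⟩ ∈ autInducedBy S Q := by
      rw [← range_conjAutHom]; exact ⟨_, rfl⟩
    have hfix : conjAutHom S Q ⟨c, hcN⟩ ∈ fixMod Q (Q ⊓ T) := by
      refine ⟨fun y hy => Subtype.ext ?_, fun y => ⟨((y⁻¹ * conjAutHom S Q ⟨c, hcN⟩ y : Q)).2, ?_⟩⟩
      · rw [conjAutHom_apply]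
        show c * (y : Ω) * c⁻¹ = y
        rw [← Subgroup.mem_centralizer_iff.mp hc.2 _ hy, mul_inv_cancel_right]
      · show (y : Ω)⁻¹ * (c * y * c⁻¹) ∈ T
        rw [show (y : Ω)⁻¹ * (c * y * c⁻¹) = (y : Ω)⁻¹ * c * y * c⁻¹ by group]
        refine T.mul_mem ?_ (T.inv_mem hc.1)
        simpa using n.conj_t (S.inv_mem (hQS y.2)) hc.1
    have hnormal : ((fixMod Q (Q ⊓ T)).subgroupOf A).Normal := fixMod_normal A fun b hb y hy => by
      rw [← autFun_coe b y]
      exact (isIso_inf n.closed (Prod.isIso_pSys ((mem_autGroup hQS).mp hb))).mem hy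
    have hcore : (fixMod Q (Q ⊓ T)).subgroupOf A ≤ pCore p A := Thompson.le_pCore hnormal
      ((fixMod_isPGroup (n.pgroup.to_le hQS)).comap_of_injective _ (Subgroup.subtype_injective _))
    have hcA : conjAutHom S Q ⟨c, hcN⟩ ∈ A := autInducedBy_le_autGroup hQS hind
    have hin := hle ⟨hind, ⟨_, hcA⟩, hcore (Subgroup.mem_subgroupOf.mpr hfix), rfl⟩
    rw [inn_eq_autInducedBy, mem_autInducedBy] at hin
    obtain ⟨r, hr, hre⟩ := hin
    have hrc : r⁻¹ * c ∈ centralizerIn S Q := inv_mul_mem_centralizerIn (hCS hc) (hQS hr) fun y hy => by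
      have := hre ⟨y, hy⟩
      rw [conjAutHom_apply] at this
      exact this
    exact hcQ (by simpa using Q.mul_mem hr (hPc.2 Q hQ.isConj hrc))
  suffices H : ∀ k, ∀ P : Subgroup Ω, P ≤ S → Nat.card S - Nat.card P = k → Sat (pSys n) p P from
    fun P hP => H _ P hP rfl
  intro k
  induction k using Nat.strong_induction_on with
  | _ k ih =>
    intro P hP hk
    have hbig : ∀ R : Subgroup Ω, R ≤ S → Nat.card P < Nat.card R → Sat (pSys n) p R := fun R hR hlt =>
      ih _ (by have := Subgroup.card_le_of_le hR; omega) R hR rfl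
    by_cases hPℋ : CT F T (P ⊓ T)
    · exact sat_of_ct n hP hPℋ hbig
    refine Crit.sat_self ⟨n.pgroup, hP, lt_of_le_of_ne hP fun e => hPℋ ?_, hbig⟩ (fun _ h => h.1)
      hℋconj hgen (fun h => hPℋ h.2) hstar
    subst e
    exact (inf_eq_right.mpr n.tS).symm ▸ ct_top n.closed

end Cfsg.Agent.Fusion.Prod
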