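import Cfsg.Agent.Lib.Fusion.Prod.Basic

/-!
# The system generated over `S` by the maps trivial modulo a normal subsystem
-/

set_option autoImplicit false
set_option linter.style.haveILetI false

namespace Cfsg.Agent.Fusion.Prod

open Cfsg Cfsg.Agent.Fusion Cfsg.Agent.Fusion.NormalLift Cfsg.Agent.Fusion.Inter
open Cfsg.FusionSystem (normalizerIn centralizerIn)

variable {Ω : Type*} [Group Ω] {S T : Subgroup Ω} {F : FusionSystem S} {E : FusionSystem T} {p : ℕ}

/-- A map trivial modulo `T` followed by conjugation by an element of `S`. -/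
def DMap (F : FusionSystem S) (E : FusionSystem T) (p : ℕ) (P : Subgroup Ω) (f : Ω → Ω) : Prop :=
  ∃ s ∈ S, ∃ x, TGen F E p P x ∧ ∀ v ∈ P, f v = s * x v * s⁻¹

theorem DMap.congr {P : Subgroup Ω} {f g : Ω → Ω} (h : DMap F E p P f) (he : Set.EqOn f g P) :
    DMap F E p P g := by
  obtain ⟨s, hs, x, hx, hxe⟩ := h
  exact ⟨s, hs, x, hx, fun v hv => (he hv).symm.trans (hxe v hv)⟩

theorem dmap_of_tgen {P : Subgroup Ω} {f : Ω → Ω} (h : TGen F E p P f) : DMap F E p P f :=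
  ⟨1, S.one_mem, f, h, fun v _ => by simp⟩

theorem dmap_conj (n : NData F E p) {P : Subgroup Ω} {g : Ω} (hP : P ≤ S) (hg : g ∈ S) :
    DMap F E p P fun x => g * x * g⁻¹ :=
  ⟨g, hg, id, tgen_id n hP, fun _ _ => rfl⟩

theorem DMap.isMap (n : NData F E p) {P : Subgroup Ω} {f : Ω → Ω} (h : DMap F E p P f) :
    IsMap F P f := by
  obtain ⟨s, hs, x, hx, hxe⟩ := h
  exact ((hx.isMap n).comp (isMap_conj le_rfl hs) fun v hv => (hx.isMap n).apply_mem hv).congr
    fun v hv => (hxe v hv).symm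

variable [Finite S]

theorem DMap.comp (n : NData F E p) {P Q : Subgroup Ω} {f g : Ω → Ω} (hf : DMap F E p P f)
    (hg : DMap F E p Q g) (hm : ∀ v ∈ P, f v ∈ Q) : DMap F E p P (g ∘ f) := by
  obtain ⟨P', hP'⟩ := (hf.isMap n).exists_image
  obtain ⟨s, hs, x, hx, hxe⟩ := hf
  obtain ⟨r, hr, y, hy, hye⟩ := hg
  obtain ⟨P₁, hP₁⟩ := (hx.isMap n).exists_image
  have hP'Q : P' ≤ Q := fun w hw => by
    obtain ⟨v, hv, rfl⟩ := hP'.exists_preimage hw
    exact hm v hv
  have him : (fun w => s⁻¹ * w * s⁻¹⁻¹) '' (P' : Set Ω) = (P₁ : Set Ω) := by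
    rw [← hP'.2, ← Set.image_comp, ← hP₁.2]
    exact Set.image_congr fun v hv => by
      simp only [Function.comp_apply, hxe v hv]
      group
  obtain ⟨k, hk, hke⟩ := (hy.mono n hP'Q).transport n (isMap_conj le_rfl (S.inv_mem hs))
    (sup_le hP'.cod_le n.tS) him
  refine ⟨r * s, S.mul_mem hr hs, k ∘ x, hx.comp hk fun v hv => hP₁.mem hv, fun v hv => ?_⟩
  have h1 := hke (f v) (hP'.mem hv)
  have e : s⁻¹ * f v * s⁻¹⁻¹ = x v := by rw [hxe v hv]; group
  rw [e] at h1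
  simp only [Function.comp_apply]
  rw [h1, hye (f v) (hm v hv)]
  group

theorem DMap.inv (n : NData F E p) {P Q : Subgroup Ω} {f g : Ω → Ω} (hf : DMap F E p P f)
    (hi : f '' (P : Set Ω) = (Q : Set Ω)) (hgl : ∀ v ∈ P, g (f v) = v) : DMap F E p Q g := by
  obtain ⟨s, hs, x, hx, hxe⟩ := hf
  obtain ⟨P₁, hP₁⟩ := (hx.isMap n).exists_image
  obtain ⟨xi, hxi, hxil, -⟩ := hP₁.exists_inv
  have hxiT : TGen F E p P₁ xi := .inv hx hP₁.2 hxil
  have him : (fun w => s * w * s⁻¹) '' (P₁ : Set Ω) = (Q : Set Ω) := by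
    rw [← hP₁.2, ← Set.image_comp, ← hi]
    exact Set.image_congr fun v hv => by simp only [Function.comp_apply, hxe v hv]
  obtain ⟨k, hk, hke⟩ := hxiT.transport n (isMap_conj le_rfl hs) (sup_le hP₁.cod_le n.tS) him
  refine ⟨s⁻¹, S.inv_mem hs, k, hk, fun w hw => ?_⟩
  obtain ⟨v, hv, rfl⟩ : w ∈ f '' (P : Set Ω) := hi ▸ hw
  rw [hgl v hv, hxe v hv, hke (x v) (hP₁.mem hv), hxil v hv]
  group

/-- The system over `S` of the maps trivial modulo `T` and the conjugations by elements of `S`. -/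
noncomputable def pSys (n : NData F E p) : FusionSystem S :=
  mkSub F S (fun P f => DMap F E p P f)
    (fun h he => h.congr he)
    (fun h => ⟨h.isMap n, (h.isMap n).dom_le, fun x hx => (h.isMap n).apply_mem hx⟩)
    (fun hP hg => dmap_conj n hP hg)
    (fun hf hg hm => hf.comp n hg hm)
    (fun hf hi _ hgl => hf.inv n hi.2 hgl)

theorem isMap_pSys {n : NData F E p} {P : Subgroup Ω} {f : Ω → Ω} :
    IsMap (pSys n) P f ↔ DMap F E p P f :=
  isMap_mkSub

theorem pSys_le (n : NData F E p) : pSys n ≤ F :=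
  le_of_isMap fun _ _ h => (isMap_pSys.mp h).isMap n

theorem isIso_pSys {n : NData F E p} {P Q : Subgroup Ω} {f : Ω → Ω} (h : IsIso (pSys n) P Q f) :
    IsIso F P Q f :=
  ⟨h.1.of_le (pSys_le n), h.2⟩

theorem isConj_pSys {n : NData F E p} {P Q : Subgroup Ω} (h : (pSys n).IsConj P Q) : F.IsConj P Q := by
  obtain ⟨f, hf⟩ := isConj_iff.mp h
  exact (isIso_pSys hf).isConj

theorem pSys_closed (n : NData F E p) : (pSys n).StronglyClosed T :=
  stronglyClosed_iff.mpr ⟨n.tS, fun _ _ hf _ hx hxT =>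
    Fusion92.closed_apply n.closed (hf.of_le (pSys_le n)) hx hxT⟩

/-- A map of the system of order prime to `p` on an invariant subgroup is trivial modulo `T`. -/
theorem tgen_of_cop [Fact p.Prime] (n : NData F E p) {P : Subgroup Ω} {f : Ω → Ω}
    (h : DMap F E p P f) (hst : ∀ v ∈ P, f v ∈ P) (hc : Cop p P f) : TGen F E p P f := by
  obtain ⟨m, hm, hme⟩ := hc
  obtain ⟨s, hs, x, hx, hxe⟩ := id h
  have hit : ∀ j : ℕ, ∃ y, TGen F E p P y ∧ ∀ v ∈ P, f^[j] v = s ^ j * y v * (s ^ j)⁻¹ ∧ f^[j] v ∈ P := by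
    intro j
    induction j with
    | zero => exact ⟨id, tgen_id n (h.isMap n).dom_le, fun v hv => ⟨by simp, hv⟩⟩
    | succ j ih =>
      obtain ⟨y, hy, hye⟩ := ih
      obtain ⟨P₁, hP₁⟩ := (hy.isMap n).exists_image
      obtain ⟨P₂, hP₂⟩ := (isMap_conj (F := F) (P := P₁) hP₁.cod_le (S.pow_mem hs j)).exists_image
      have hP₂P : P₂ ≤ P := fun w hw => by
        obtain ⟨u, hu, rfl⟩ := hP₂.exists_preimage hw
        obtain ⟨v, hv, rfl⟩ := hP₁.exists_preimage hu
        rw [← (hye v hv).1]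
        exact (hye v hv).2
      have him : (fun w => (s ^ j)⁻¹ * w * (s ^ j)⁻¹⁻¹) '' (P₂ : Set Ω) = (P₁ : Set Ω) := by
        rw [← hP₂.2, ← Set.image_comp]
        exact (Set.image_congr fun u _ => by simp [mul_assoc]).trans (Set.image_id' _)
      obtain ⟨k, hk, hke⟩ := (hx.mono n hP₂P).transport n
        (isMap_conj le_rfl (S.inv_mem (S.pow_mem hs j))) (sup_le hP₂.cod_le n.tS) him
      refine ⟨k ∘ y, hy.comp hk fun v hv => hP₁.mem hv, fun v hv => ?_⟩
      obtain ⟨hv1, hv2⟩ := hye v hv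
      rw [Function.iterate_succ_apply']
      refine ⟨?_, hst _ hv2⟩
      have hmem : f^[j] v ∈ P₂ := by
        rw [hv1]
        exact hP₂.mem (hP₁.mem hv)
      have h1 := hke _ hmem
      rw [show (s ^ j)⁻¹ * f^[j] v * (s ^ j)⁻¹⁻¹ = y v by rw [hv1]; group] at h1
      rw [Function.comp_apply, h1, hxe _ hv2, pow_succ']
      group
  obtain ⟨k, hk⟩ := n.pgroup ⟨s, hs⟩
  have hsk : s ^ p ^ k = 1 := congrArg Subtype.val hk
  obtain ⟨j, hj1, hj0⟩ := Nat.chineseRemainder (hm.pow_right k) 1 0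
  obtain ⟨y, hy, hye⟩ := hit j
  have hsj : s ^ j = 1 := by
    obtain ⟨c, hc⟩ := Nat.modEq_zero_iff_dvd.mp hj0
    rw [hc, pow_mul, hsk, one_pow]
  refine hy.congr fun v hv => ?_
  have h1 := (hye v hv).1
  rw [hsj] at h1
  simp only [inv_one, one_mul, mul_one] at h1
  rw [← h1]
  have h2 : ∀ i, f^[i] v = f^[i % m] v := by
    intro i
    conv_lhs => rw [← Nat.mod_add_div i m, Function.iterate_add_apply, Function.iterate_mul]
    rw [Function.iterate_fixed (hme v hv)]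
  rw [h2 j, (hj1 : j % m = 1 % m), ← h2 1, Function.iterate_one]

end Cfsg.Agent.Fusion.Prod
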