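import Cfsg.Agent.Lib.Fusion.Prod.Saturation
import Cfsg.Agent.Lib.Fusion.PPowerNormal
import Cfsg.Agent.Lib.Fusion.PPowerIndex
import Cfsg.Agent.Fusion91.PPower

/-!
# The product of a normal subsystem with a subgroup

Between the group `T` of a normal subsystem `E` and `S` there is over each subgroup exactly one
saturated subsystem with the hyperfocal subgroup and the `p`-residual of `E`.
-/

set_option autoImplicit false
set_option linter.style.haveILetI false

namespace Cfsg.Agent.Fusion.Prod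

open Cfsg Cfsg.Agent.Fusion Cfsg.Agent.Fusion.NormalLift Cfsg.Agent.Fusion.Inter
open Cfsg.FusionSystem (normalizerIn centralizerIn)

variable {Ω : Type*} [Group Ω] {S T : Subgroup Ω} {F : FusionSystem S} {E : FusionSystem T} {p : ℕ}

/-- The elements `x⁻¹ a(x)` for `a` of order prime to `p` generate the hyperfocal subgroup. -/
theorem hyp_le_of_coprime {B K : Subgroup Ω} {G : FusionSystem B}
    (h : ∀ P, P ≤ B → ∀ a ∈ G.autGroup P, (orderOf a).Coprime p → ∀ x ∈ P, x⁻¹ * autFun a x ∈ K) :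
    G.hyperfocalSubgroup p ≤ K := by
  refine (Subgroup.closure_le _).mpr ?_
  rintro _ ⟨P, α, x, hP, hα, rfl⟩
  let H : Subgroup (G.autGroup P) :=
    { carrier := {a | ∀ y ∈ P, y⁻¹ * autFun (a : MulAut P) y ∈ K}
      one_mem' := fun y hy => by rw [Subgroup.coe_one, autFun_one hy]; simp
      mul_mem' := fun {a b} ha hb y hy => by
        rw [Subgroup.coe_mul, autFun_mul _ _ hy, Function.comp_apply]
        have := K.mul_mem (hb y hy) (ha _ (autFun_mem_self (b : MulAut P) hy))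
        simpa [mul_assoc] using this
      inv_mem' := fun {a} ha y hy => by
        obtain ⟨z, hz, rfl⟩ := ((mem_autGroup hP).mp a.2).exists_preimage hy
        rw [Subgroup.coe_inv, PrimeIndex.autFun_inv_apply _ hz]
        simpa using K.inv_mem (ha z hz) }
  have := (Subgroup.closure_le H).mpr (fun a ha => h P hP a a.2 (by rwa [Subgroup.orderOf_coe])) hα x x.2
  rwa [autFun_coe] at this

theorem mem_hyp {B P : Subgroup Ω} {G : FusionSystem B} (hP : P ≤ B) {a : MulAut P}
    (ha : a ∈ G.autGroup P) (ho : (orderOf a).Coprime p) {x : Ω} (hx : x ∈ P) :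
    x⁻¹ * autFun a x ∈ G.hyperfocalSubgroup p :=
  Subgroup.subset_closure ⟨P, ⟨a, ha⟩, ⟨x, hx⟩, hP,
    Transfer.mem_pResidual_of_coprime (by rwa [← Subgroup.orderOf_coe]),
    by rw [← autFun_coe]⟩

/-- Two automorphisms trivial modulo `K` that agree on the part in `K`. -/
theorem delta_mem {U K : Subgroup Ω} {α β : MulAut U} (hα : ∀ x ∈ U, x⁻¹ * autFun α x ∈ K)
    (hβ : ∀ x ∈ U, x⁻¹ * autFun β x ∈ K) (he : Set.EqOn (autFun β) (autFun α) (U ⊓ K : Subgroup Ω)) :
    β⁻¹ * α ∈ fixMod U (U ⊓ K) := by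
  refine ⟨fun x hx => β.injective (Subtype.ext ?_), fun x => ⟨(x⁻¹ * (β⁻¹ * α) x).2, ?_⟩⟩
  · rw [MulAut.mul_apply, MulAut.apply_inv_self, ← autFun_coe α, ← autFun_coe β]
    exact (he hx).symm
  · have h1 : (x : Ω)⁻¹ * (α x : U) ∈ K := autFun_coe α x ▸ hα x x.2
    have h2 := hβ _ ((β⁻¹ * α) x).2
    rw [autFun_coe, MulAut.mul_apply, MulAut.apply_inv_self] at h2
    have := K.mul_mem h1 (K.inv_mem h2)
    simpa [mul_assoc] using this

/-- The centric condition passes through a Frattini decomposition. -/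
theorem ct_frattini {B R K : Subgroup Ω} {G : FusionSystem B} {G' : FusionSystem R} {N : FusionSystem K}
    (hinv : N.IsInvariantIn G') (hsub : ∀ P f, IsMap N P f → IsMap G P f) {Q : Subgroup Ω}
    (hc : CT G K Q) : CT G' K Q := by
  refine ⟨hc.1, fun Q' hQ' => ?_⟩
  obtain ⟨f, hf⟩ := isConj_iff.mp hQ'
  obtain ⟨k, g, hk, hg, he⟩ := invariant_frattini hinv hf.1 hc.1
  obtain ⟨Q₁, hQ₁⟩ := hg.exists_image
  have hc' := hc.2 Q₁ (IsIso.isConj ⟨hsub _ _ hg, hQ₁.2⟩)
  obtain ⟨ki, hki, hkl, hkr⟩ := hk.exists_inv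
  intro y hy
  have hyc : ki y ∈ centralizerIn K Q₁ := by
    refine ⟨hki.mem hy.1, Subgroup.mem_centralizer_iff.mpr fun z hz => ?_⟩
    obtain ⟨x, hx, rfl⟩ := hQ₁.exists_preimage hz
    have hgx : g x ∈ K := hg.apply_mem hx
    have h1 := Subgroup.mem_centralizer_iff.mp hy.2 _ (hf.mem hx)
    rw [he x hx] at h1
    have h2 := congrArg ki h1
    rwa [hki.1.map_mul (hk.mem hgx) hy.1, hki.1.map_mul hy.1 (hk.mem hgx), hkl _ hgx] at h2
  obtain ⟨x, hx, hxe⟩ := hQ₁.exists_preimage (hc' hyc)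
  have := hf.mem hx
  rwa [he x hx, hxe, hkr y hy.1] at this

/-- A normal subsystem of `p`-power index over the hyperfocal subgroup. -/
structure Res {B H : Subgroup Ω} (G : FusionSystem B) (E₁ : FusionSystem H) (p : ℕ) : Prop where
  sat : G.IsSaturated p
  inv : E₁.IsInvariantIn G
  hyp : G.hyperfocalSubgroup p ≤ H
  cop : ∀ P ≤ H, ∀ a ∈ G.autGroup P, (orderOf a).Coprime p → IsMap E₁ P (autFun a)

theorem Res.closed {B H : Subgroup Ω} {G : FusionSystem B} {E₁ : FusionSystem H} (h : Res G E₁ p) :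
    G.StronglyClosed H := h.inv.2.1

theorem Res.map {B H : Subgroup Ω} {G : FusionSystem B} {E₁ : FusionSystem H} (h : Res G E₁ p)
    {P : Subgroup Ω} {f : Ω → Ω} (hf : IsMap E₁ P f) : IsMap G P f :=
  hf.of_isSubsystemOf h.inv.1

variable [Finite S] [Fact p.Prime]

theorem res_of_index {B H : Subgroup Ω} (hB : B ≤ S) (hS : IsPGroup p S) {G : FusionSystem B}
    (hsat : G.IsSaturated p) {E₁ : FusionSystem H} (hE₁ : E₁.IsSaturated p)
    (hi : E₁.HasPPowerIndexIn G p) (hH : G.hyperfocalSubgroup p = H) : Res G E₁ p := by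
  subst hH
  haveI := finite_of_le hB
  refine ⟨hsat, (PPow.isNormalIn_of_pPowerIndex (hS.to_le hB) hsat hyperfocal_le
    ((Subgroup.normal_subgroupOf_iff_le_normalizer hyperfocal_le).mpr hyperfocal_normalizer) hE₁ hi).1.2.2,
    le_rfl, fun P hP a ha hao => ?_⟩
  exact ((mem_autGroup hP).mp (hi.2.2 P hP ⟨⟨a, ha⟩, Transfer.mem_pResidual_of_coprime
    (by rwa [← Subgroup.orderOf_coe]), rfl⟩)).1

theorem res_of_residual {B H : Subgroup Ω} (hB : B ≤ S) (hS : IsPGroup p S) {G : FusionSystem B}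
    (hsat : G.IsSaturated p) (E₁ : FusionSystem H) (hH : G.hyperfocalSubgroup p = H)
    (D₁ : FusionSystem (G.hyperfocalSubgroup p)) (hD₁ : G.IsPResidual p D₁)
    (hsame : ∀ P, D₁.Hom P = E₁.Hom P) : Res G E₁ p := by
  subst hH
  obtain rfl : D₁ = E₁ := fusion_ext hsame
  exact res_of_index hB hS hsat hD₁.1 hD₁.2 rfl

theorem residual_hom_eq {B H : Subgroup Ω} (hB : B ≤ S) (hS : IsPGroup p S) {G : FusionSystem B}
    {E₁ : FusionSystem H} (hE₁ : E₁.IsSaturated p) (hi : E₁.HasPPowerIndexIn G p)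
    (hH : G.hyperfocalSubgroup p = H) (D₁ : FusionSystem (G.hyperfocalSubgroup p))
    (hD₁ : G.IsPResidual p D₁) (P : Subgroup Ω) : D₁.Hom P = E₁.Hom P := by
  subst hH
  haveI := finite_of_le (hyperfocal_le.trans hB : G.hyperfocalSubgroup p ≤ S)
  exact Fusion91.hom_eq_of_pPower (hS.to_le (hyperfocal_le.trans hB)) hD₁.1 hE₁ hD₁.2 hi P

set_option maxHeartbeats 1000000 in
/-- The part in a strongly closed subgroup of a centric radical subgroup is centric there. -/
theorem ct_of_cr {B H U : Subgroup Ω} (hB : B ≤ S) (hS : IsPGroup p S) {G : FusionSystem B}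
    (hsat : G.IsSaturated p) (hH : G.StronglyClosed H) (hUc : G.IsCentric U) (hUr : G.IsRadical p U) :
    CT G H (U ⊓ H) := by
  haveI := finite_of_le hB
  have hBp := hS.to_le hB
  have hUB := hUc.1
  have hBH := stronglyClosed_le_normalizer hH
  obtain ⟨Q, hQ, hQn⟩ := exists_fullyNormalized (F := G) (inf_le_right.trans hH.1 : U ⊓ H ≤ B)
  have hQa := fullyAutomized_of_fullyNormalized hBp hsat hQn
  have hQr := receptive_of_fullyNormalized hBp hsat hQn
  obtain ⟨θ, hθ, hθQ, -⟩ := exists_normalizer_map hBp hQa hQr hQ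
  have hUN : U ≤ normalizerIn B (U ⊓ H) := fun u hu => by
    haveI := finite_of_le (inf_le_left.trans hUB : U ⊓ H ≤ B)
    exact ⟨hUB hu, Subgroup.mem_normalizer_fintype fun x hx =>
      ⟨U.mul_mem (U.mul_mem hu hx.1) (U.inv_mem hu), Fusion92.conj_mem_closed hH (hUB hu) hx.2⟩⟩
  obtain ⟨U', hU'⟩ := (hθ.mono hUN).exists_image
  have hUT : U' ⊓ H = Q := (isIso_inf hH hU').cod_unique hθQ
  have hU'B := hU'.cod_le
  -- the conjugate fully normalized in the system
  have key : centralizerIn H Q ≤ Q := by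
    by_contra hne
    obtain ⟨z, hz, hzQ⟩ := SetLike.not_le_iff_exists.mp hne
    set K := centralizerIn H Q with hK
    have hKB : K ≤ B := (centralizerIn_le H Q).trans hH.1
    have hUK : U' ≤ Subgroup.normalizer (K : Set Ω) := fun u hu => by
      haveI := finite_of_le hKB
      refine Subgroup.mem_normalizer_fintype fun c hc => ⟨Fusion92.conj_mem_closed hH (hU'B hu) hc.1,
        Subgroup.mem_centralizer_iff.mpr fun x hx => ?_⟩
      have hx' : x ∈ U' ⊓ H := hUT.symm ▸ hx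
      have h1 : u⁻¹ * x * u ∈ Q := hUT ▸ (⟨U'.mul_mem (U'.mul_mem (U'.inv_mem hu) hx'.1) hu,
        Fusion92.conj_inv_mem_closed hH (hU'B hu) hx'.2⟩ : u⁻¹ * x * u ∈ U' ⊓ H)
      have h2 := Subgroup.mem_centralizer_iff.mp hc.2 _ h1
      calc x * (u * c * u⁻¹) = u * ((u⁻¹ * x * u) * c) * u⁻¹ := by group
        _ = u * (c * (u⁻¹ * x * u)) * u⁻¹ := by rw [h2]
        _ = u * c * u⁻¹ * x := by group
    have hlt : U' < U' ⊔ K := lt_of_le_of_ne le_sup_left fun e =>
      hzQ (hUT ▸ ⟨e.ge (Subgroup.mem_sup_right hz), hz.1⟩)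
    have hXB : U' ⊔ K ≤ B := sup_le hU'B hKB
    haveI := finite_of_le hXB
    obtain ⟨d, hd, hdU⟩ := SetLike.exists_of_lt (lt_normalizerIn (hBp.to_le hXB) hlt)
    have hd1 : (d : Ω) ∈ ((U' ⊔ K : Subgroup Ω) : Set Ω) := hd.1
    rw [Subgroup.coe_mul_of_left_le_normalizer_right U' K hUK] at hd1
    obtain ⟨u₀, hu₀, c, hc, rfl⟩ := hd1
    have hcN : c ∈ normalizerIn B U' := ⟨hKB hc, by
      have := Subgroup.mul_mem _ (Subgroup.inv_mem _ (Subgroup.le_normalizer hu₀)) hd.2
      rwa [inv_mul_cancel_left] at this⟩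
    have hcU : c ∉ U' := fun h => hdU (U'.mul_mem hu₀ h)
    obtain ⟨θi, hθi, hl, hr⟩ := hU'.exists_inv
    have hci : IsIso G U' U' (fun x => c * x * c⁻¹) := isIso_of_mapsTo (isMap_conj hU'B hcN.1) hU'B
      (fun x hx => conj_mem_of_mem_normalizer hcN.2 hx) le_rfl
    haveI := finite_of_le hUB
    haveI := finite_mulAut U
    obtain ⟨β, hβ, hβe⟩ := ((hU'.comp hci).comp hθi).exists_aut
    have hfix : β ∈ fixMod U (U ⊓ H) := by
      refine ⟨fun x hx => Subtype.ext ?_, fun x => ⟨(x⁻¹ * β x).2, ?_⟩⟩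
      · rw [← autFun_coe, hβe x.2]
        simp only [Function.comp_apply]
        rw [← Subgroup.mem_centralizer_iff.mp hc.2 (θ x) (hθQ.mem hx), mul_inv_cancel_right, hl _ x.2]
      · have hθx : θ x ∈ U' := hU'.mem x.2
        have hy : c * θ x * c⁻¹ ∈ U' := hci.mem hθx
        have h1 : (θ x)⁻¹ * (c * θ x * c⁻¹) ∈ H := by
          rw [show (θ x)⁻¹ * (c * θ x * c⁻¹) = (θ x)⁻¹ * c * θ x * c⁻¹ by group]
          refine H.mul_mem ?_ (H.inv_mem hc.1)
          exact Fusion92.conj_inv_mem_closed hH (hU'B hθx) hc.1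
        have h2 := Fusion92.closed_apply hH hθi.1 (U'.mul_mem (U'.inv_mem hθx) hy) h1
        rw [hθi.1.map_mul (U'.inv_mem hθx) hy, hθi.1.map_inv hθx, hl _ x.2] at h2
        rw [Subgroup.coe_mul, Subgroup.coe_inv, ← autFun_coe, hβe x.2]
        exact h2
    have hnormal : ((fixMod U (U ⊓ H)).subgroupOf (G.autGroup U)).Normal :=
      fixMod_normal _ fun b hb y hy => by
        rw [← autFun_coe b y]
        exact (isIso_inf hH ((mem_autGroup hUB).mp hb)).mem hy
    have hcore : (fixMod U (U ⊓ H)).subgroupOf (G.autGroup U) ≤ pCore p (G.autGroup U) :=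
      Thompson.le_pCore hnormal ((fixMod_isPGroup (hBp.to_le hUB)).comap_of_injective _
        (Subgroup.subtype_injective _))
    have hinn : β ∈ Cfsg.Inn U := hUr.2.le ⟨⟨β, hβ⟩, hcore (Subgroup.mem_subgroupOf.mpr hfix), rfl⟩
    rw [inn_eq_autInducedBy, mem_autInducedBy] at hinn
    obtain ⟨u, hu, hue⟩ := hinn
    have hθu : θ u ∈ U' := hU'.mem hu
    have hcen : (θ u)⁻¹ * c ∈ centralizerIn B U' :=
      inv_mul_mem_centralizerIn (hKB hc) (hU'B hθu) fun y hy => by
        obtain ⟨x, hx, rfl⟩ := hU'.exists_preimage hy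
        have e1 := hue ⟨x, hx⟩
        rw [← autFun_coe, hβe hx] at e1
        simp only [Function.comp_apply] at e1
        have e2 := congrArg θ e1
        rw [hr _ (hci.mem (hU'.mem hx))] at e2
        exact e2.trans (hU'.1.map_conj hu hx)
    exact hcU (by simpa using U'.mul_mem hθu (hUc.2 U' hU'.isConj hcen))
  refine ⟨inf_le_right, fun Q' hQ' => ?_⟩
  obtain ⟨a, ha, haQ, -⟩ := exists_normalizer_map hBp hQa hQr (isConj_trans (isConj_symm hQ') hQ)
  intro c hc
  have hcB : c ∈ B := hH.1 hc.1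
  have hcN : c ∈ normalizerIn B Q' := centralizerIn_le_normalizerIn B Q' ⟨hcB, hc.2⟩
  have hQ'N := le_normalizerIn (K := B) (isConj_le_right hQ')
  have h1 : a c ∈ centralizerIn H Q := ⟨Fusion92.closed_apply hH ha hcN hc.1,
    (map_mem_centralizer ha hQ'N haQ.2 hcN hc.2).2⟩
  obtain ⟨x, hx, hxe⟩ := haQ.exists_preimage (key h1)
  exact ha.injOn (hQ'N hx) hcN hxe ▸ hx

set_option maxHeartbeats 1000000 in
/-- An automorphism of order prime to `p` of the system matching a given one on the part in `H`. -/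
theorem exists_match {B H U : Subgroup Ω} (hB : B ≤ S) (hS : IsPGroup p S) {G : FusionSystem B}
    (hsat : G.IsSaturated p) (hH : G.StronglyClosed H) (hhyp : G.hyperfocalSubgroup p ≤ H)
    (hU : U ≤ B) (hct : CT G H (U ⊓ H)) {α : MulAut U} (hα : ∀ x ∈ U, x⁻¹ * autFun α x ∈ H)
    (hαo : (orderOf α).Coprime p) (hαQ : IsMap G (U ⊓ H) (autFun α)) :
    ∃ β ∈ G.autGroup U, (orderOf β).Coprime p ∧
      Set.EqOn (autFun β) (autFun α) (U ⊓ H : Subgroup Ω) := by
  haveI := finite_of_le hB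
  have hBp := hS.to_le hB
  obtain ⟨Q, hQ, hQn⟩ := exists_fullyNormalized (F := G) (inf_le_right.trans hH.1 : U ⊓ H ≤ B)
  have hQa := fullyAutomized_of_fullyNormalized hBp hsat hQn
  have hQr := receptive_of_fullyNormalized hBp hsat hQn
  obtain ⟨θ, hθ, hθQ, -⟩ := exists_normalizer_map hBp hQa hQr hQ
  have hUN : U ≤ normalizerIn B (U ⊓ H) := fun u hu => by
    haveI := finite_of_le (inf_le_left.trans hU : U ⊓ H ≤ B)
    exact ⟨hU hu, Subgroup.mem_normalizer_fintype fun x hx =>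
      ⟨U.mul_mem (U.mul_mem hu hx.1) (U.inv_mem hu), Fusion92.conj_mem_closed hH (hU hu) hx.2⟩⟩
  obtain ⟨U', hU'⟩ := (hθ.mono hUN).exists_image
  have hU'B := hU'.cod_le
  have hUQ : U' ⊓ H = Q := (isIso_inf hH hU').cod_unique hθQ
  obtain ⟨θi, hθi, hl, hr⟩ := hU'.exists_inv
  have hQc : centralizerIn H Q ≤ Q := hct.2 Q hQ
  have hQU' : Q ≤ U' := hUQ ▸ inf_le_left
  set a := θ ∘ autFun α ∘ θi with ha
  have haU : ∀ y ∈ U', a y ∈ U' := fun y hy => hU'.mem (autFun_mem_self α (hθi.mem hy))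
  have haQmem : ∀ y ∈ Q, θi y ∈ U ⊓ H := fun y hy => by
    obtain ⟨x, hx, rfl⟩ := hθQ.exists_preimage hy
    rwa [hl x hx.1]
  have hαQm : ∀ x ∈ U ⊓ H, autFun α x ∈ U ⊓ H := fun x hx =>
    ⟨autFun_mem_self α hx.1, Fusion92.closed_apply hH hαQ hx hx.2⟩
  have haQ : IsMap G Q a :=
    ((hθi.1.mono hQU').comp hαQ haQmem).comp hθQ.1 fun y hy => hαQm _ (haQmem y hy)
  have haQi : IsIso G Q Q a := isIso_of_mapsTo haQ hQn.1
    (fun y hy => hθQ.mem (hαQm _ (haQmem y hy))) le_rfl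
  have hamul : ∀ x ∈ U', ∀ y ∈ U', a (x * y) = a x * a y := fun x hx y hy => by
    simp only [ha, Function.comp_apply]
    rw [hθi.1.map_mul hx hy, autFun_of_mem α (U.mul_mem (hθi.mem hx) (hθi.mem hy)),
      autFun_of_mem α (hθi.mem hx), autFun_of_mem α (hθi.mem hy),
      ← hU'.1.map_mul (Subtype.mem _) (Subtype.mem _), ← Subgroup.coe_mul, ← map_mul]
    rfl
  have haconj : ∀ g ∈ U', ∀ x ∈ Q, a (g * x * g⁻¹) = a g * a x * (a g)⁻¹ := fun g hg x hx => by
    have hgi := U'.inv_mem hg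
    have h1 : a g⁻¹ = (a g)⁻¹ := by
      refine eq_inv_of_mul_eq_one_right ?_
      rw [← hamul g hg _ hgi, mul_inv_cancel]
      have h2 := hamul 1 U'.one_mem 1 U'.one_mem
      rw [mul_one] at h2
      exact mul_left_cancel (h2.symm.trans (mul_one (a 1)).symm)
    rw [hamul _ (U'.mul_mem hg (hQU' hx)) _ hgi, hamul g hg x (hQU' hx), h1]
  have hextU : IsExtendable B Q a U' := ⟨hU'B, fun g hg => ⟨by
      haveI := finite_of_le hQn.1
      refine Subgroup.mem_normalizer_fintype fun x hx => ?_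
      have hx' : x ∈ U' ⊓ H := hUQ.symm ▸ hx
      exact hUQ ▸ (⟨U'.mul_mem (U'.mul_mem hg hx'.1) (U'.inv_mem hg),
        Fusion92.conj_mem_closed hH (hU'B hg) hx'.2⟩ : g * x * g⁻¹ ∈ U' ⊓ H),
    a g, hU'B (haU g hg), haconj g hg⟩⟩
  obtain ⟨φ, -, hφ⟩ := id haQ
  set M := U' ⊔ centralizerIn B Q with hM
  have hext : IsExtendable B Q a M := by
    have hle : M ≤ FusionSystem.extender B Q φ := sup_le (le_extender_of_isExtendable hφ hextU)
      (le_extender_of_isExtendable hφ (isExtendable_centralizerIn a))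
    exact ⟨hle.trans (isExtendable_extender hφ).1, fun g hg => (isExtendable_extender hφ).2 g (hle hg)⟩
  obtain ⟨f, hf, hfe⟩ := receptive_extend hQr haQi hext
  have hMB : M ≤ B := sup_le hU'B (centralizerIn_le B Q)
  have hQM : Q ≤ M := hQU'.trans le_sup_left
  have hfM : IsMap G M f := hf.mono le_sup_right
  have hfQ : f '' (Q : Set Ω) = (Q : Set Ω) := (Set.image_congr hfe).trans haQi.2
  have hstM : ∀ x ∈ M, f x ∈ M := isMap_mem_sup hfM le_sup_left le_sup_right
    (fun u hu => by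
      have h1 : (a u)⁻¹ * f u ∈ centralizerIn B Q := inv_mul_mem_centralizerIn
        (hfM.apply_mem (Subgroup.mem_sup_left hu)) (hU'B (haU u hu)) fun y hy => by
          obtain ⟨x, hx, rfl⟩ := haQi.exists_preimage hy
          have hux : u * x * u⁻¹ ∈ Q := conj_mem_of_mem_normalizer (hextU.2 u hu).1 hx
          conv_lhs => rw [← hfe hx, ← hfM.map_conj (Subgroup.mem_sup_left hu) (hQM hx), hfe hux]
          exact haconj u hu x hx
      have := M.mul_mem (Subgroup.mem_sup_left (haU u hu)) (Subgroup.mem_sup_right h1)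
      rwa [mul_inv_cancel_left] at this)
    fun c hc => Subgroup.mem_sup_right (map_mem_centralizer hfM hQM hfQ (Subgroup.mem_sup_right hc) hc.2)
  haveI := finite_of_le hMB
  haveI := finite_mulAut M
  haveI := finite_of_le hQn.1
  haveI := finite_mulAut Q
  obtain ⟨β₀, hβ₀, hβ₀e⟩ := (isIso_of_mapsTo hfM hMB hstM le_rfl).exists_aut
  obtain ⟨αQ, -, hαQe⟩ := haQi.exists_aut
  have hcop : Cop p Q a := by
    obtain ⟨j, hj, hje⟩ := cop_of_pow (p := p) hαo (le_refl U)
    exact Cop.transport hαQm (fun x hx => hl x hx.1) ⟨j, hj, fun x hx => hje x hx.1⟩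
      fun y hy => hθQ.exists_preimage hy
  obtain ⟨m, hm, hme⟩ := exists_pow_coprime (p := p) β₀ αQ (orderOf_coprime_of_cop hcop hαQe)
  set b := autFun (β₀ ^ m) with hb
  have hβmem : β₀ ^ m ∈ G.autGroup M := Subgroup.pow_mem _ hβ₀ m
  have hbi := (mem_autGroup hMB).mp hβmem
  have hbQ : ∀ y ∈ Q, b y = a y := fun y hy => by
    rw [hb, pow_eqOn hQM (fun z hz => (hβ₀e (hQM hz)).trans ((hfe hz).trans (hαQe hz).symm)) m hy,
      hme, hαQe hy]
  have hbU : ∀ u ∈ U', b u ∈ U' := fun u hu => by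
    have huM : u ∈ M := Subgroup.mem_sup_left hu
    have h1 : (a u)⁻¹ * b u ∈ centralizerIn B Q := inv_mul_mem_centralizerIn
      (hbi.1.apply_mem huM) (hU'B (haU u hu)) fun y hy => by
        obtain ⟨x, hx, rfl⟩ := haQi.exists_preimage hy
        have hux : u * x * u⁻¹ ∈ Q := conj_mem_of_mem_normalizer (hextU.2 u hu).1 hx
        conv_lhs => rw [← hbQ x hx, hb, ← hbi.1.map_conj huM (hQM hx), ← hb, hbQ _ hux]
        exact haconj u hu x hx
    have hbH : u⁻¹ * b u ∈ H := hhyp (mem_hyp hMB hβmem hm huM)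
    have haH : u⁻¹ * a u ∈ H := by
      have hx := hθi.mem hu
      have h2 := Fusion92.closed_apply hH hU'.1 (U.mul_mem (U.inv_mem hx) (autFun_mem_self α hx)) (hα _ hx)
      rwa [hU'.1.map_mul (U.inv_mem hx) (autFun_mem_self α hx), hU'.1.map_inv hx, hr u hu] at h2
    have h3 : (a u)⁻¹ * b u ∈ H := by
      have := H.mul_mem (H.inv_mem haH) hbH
      simpa [mul_assoc] using this
    have := U'.mul_mem (haU u hu) (hQU' (hQc ⟨h3, h1.2⟩))
    rwa [mul_inv_cancel_left] at this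
  have hbU' : IsIso G U' U' b := isIso_of_mapsTo (hbi.1.mono le_sup_left) hU'B hbU le_rfl
  have hback : IsIso G U U (θi ∘ b ∘ θ) := (hU'.comp hbU').comp hθi
  haveI := finite_of_le hU
  haveI := finite_mulAut U
  obtain ⟨β, hβ, hβe⟩ := hback.exists_aut
  refine ⟨β, hβ, orderOf_coprime_of_cop ?_ hβe, fun x hx => ?_⟩
  · obtain ⟨j, hj, hje⟩ := cop_of_pow (p := p) hm (le_refl M)
    exact Cop.transport hbU (fun y hy => hr y hy) ⟨j, hj, fun y hy => hje y (Subgroup.mem_sup_left hy)⟩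
      fun y hy => hθi.exists_preimage hy
  · rw [hβe hx.1]
    simp only [Function.comp_apply]
    rw [hbQ _ (hθQ.mem hx)]
    simp only [ha, Function.comp_apply]
    rw [hl x hx.1, hl _ (autFun_mem_self α hx.1)]

set_option maxHeartbeats 1000000 in
/-- A system with the residual `E₁` lies in another one with the same residual, once the matching
automorphisms lie in it. -/
theorem match_le {B R H : Subgroup Ω} (hB : B ≤ R) (hR : R ≤ S) (hS : IsPGroup p S)
    {G : FusionSystem B} {G' : FusionSystem R} {E₁ : FusionSystem H} (hG : Res G E₁ p)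
    (hG' : Res G' E₁ p)
    (hback : ∀ U ≤ B, CT G H (U ⊓ H) → ∀ β ∈ G'.autGroup U, (orderOf β).Coprime p →
      β ∈ G.autGroup U) :
    ∀ P f, IsMap G P f → IsMap G' P f := by
  have hBS := hB.trans hR
  haveI := finite_of_le hBS
  refine alperin_induction_cr (hS.to_le hBS) hG.sat (fun P f => IsMap G' P f)
    (fun P f g h he => h.congr he) (fun P Q f g hf _ h1 h2 => h1.comp h2 fun v hv => hf.mem hv)
    (fun P Q f _ hle h => h.mono hle) ?_
  intro U hUc hUr hUn f hf
  have hUB := hUn.1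
  haveI := finite_of_le hUB
  haveI := finite_mulAut U
  obtain ⟨Y, hY⟩ := (fullyAutomized_of_fullyNormalized (hS.to_le hBS) hG.sat hUn).2
  obtain ⟨a, ha, hae⟩ := hf.exists_aut
  have hUR := hUB.trans hB
  have hle : (⊤ : Subgroup (G.autGroup U)) ≤ (G'.autGroup U).subgroupOf (G.autGroup U) := by
    refine le_of_eq (eq_top_of_sylow_coprime Y _ (fun b hb => ?_) fun b hb => ?_).symm
    · rw [hY, Subgroup.mem_subgroupOf] at hb
      exact Subgroup.mem_subgroupOf.mpr (autInducedBy_le_autGroup hUR (autInducedBy_mono hB hb))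
    · have hctG : CT G H (U ⊓ H) := ct_of_cr hBS hS hG.sat hG.closed hUc hUr
      have hctG' : CT G' H (U ⊓ H) := ct_frattini hG'.inv (fun P f h => hG.map h) hctG
      have hbo : (orderOf (b : MulAut U)).Coprime p := by rwa [Subgroup.orderOf_coe]
      have hbi := (mem_autGroup hUB).mp b.2
      have hQB : U ⊓ H ≤ B := inf_le_left.trans hUB
      haveI := finite_of_le hQB
      obtain ⟨γ, hγ, hγe⟩ := (isIso_of_mapsTo (hbi.1.mono inf_le_left) hQB
        (fun x hx => (isIso_inf hG.closed hbi).mem hx) le_rfl).exists_aut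
      obtain ⟨j, hj, hje⟩ := cop_of_pow (p := p) hbo (le_refl U)
      have hbE : IsMap E₁ (U ⊓ H) (autFun (b : MulAut U)) :=
        (hG.cop _ inf_le_right γ hγ (orderOf_coprime_of_cop (f := autFun (b : MulAut U))
          ⟨j, hj, fun x hx => hje x hx.1⟩ hγe)).congr hγe
      have hbH : ∀ x ∈ U, x⁻¹ * autFun (b : MulAut U) x ∈ H := fun x hx => hG.hyp (mem_hyp hUB b.2 hbo hx)
      obtain ⟨β, hβ, hβo, hβe⟩ := exists_match hR hS hG'.sat hG'.closed hG'.hyp hUR hctG' hbH hbo
        (hG'.map hbE)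
      have hβG := hback U hUB hctG β hβ hβo
      have hδ : β⁻¹ * (b : MulAut U) ∈ G.autGroup U := Subgroup.mul_mem _ (Subgroup.inv_mem _ hβG) b.2
      have hfix := delta_mem hbH (fun x hx => hG'.hyp (mem_hyp hUR hβ hβo hx)) hβe
      have hnormal : ((fixMod U (U ⊓ H)).subgroupOf (G.autGroup U)).Normal :=
        fixMod_normal _ fun b hb y hy => by
          rw [← autFun_coe b y]
          exact (isIso_inf hG.closed ((mem_autGroup hUB).mp hb)).mem hy
      have hcore : (fixMod U (U ⊓ H)).subgroupOf (G.autGroup U) ≤ pCore p (G.autGroup U) :=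
        Thompson.le_pCore hnormal ((fixMod_isPGroup ((hS.to_le hBS).to_le hUB)).comap_of_injective _
          (Subgroup.subtype_injective _))
      have hinn : β⁻¹ * (b : MulAut U) ∈ Cfsg.Inn U :=
        hUr.2.le ⟨⟨_, hδ⟩, hcore (Subgroup.mem_subgroupOf.mpr hfix), rfl⟩
      have := Subgroup.mul_mem _ hβ (autInducedBy_le_autGroup (F := G') hUR
        (inn_le_autInducedBy hUR hinn))
      rw [mul_inv_cancel_left] at this
      exact Subgroup.mem_subgroupOf.mpr this
  exact ((mem_autGroup hUR).mp (Subgroup.mem_subgroupOf.mp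
    (hle (Subgroup.mem_top (⟨a, ha⟩ : G.autGroup U))))).1.congr hae

/-- An automorphism of order prime to `p` of `V ≤ T` in `F` lies in `E` when its restriction does. -/
theorem emap_of_residual (n : NData F E p) {H : Subgroup Ω} {E₁ : FusionSystem H} (hE₁ : Res E E₁ p)
    {V : Subgroup Ω} (hV : V ≤ T) (hct : CT E H (V ⊓ H)) {α : MulAut V}
    (hαF : α ∈ F.autGroup V) (hαo : (orderOf α).Coprime p)
    (hα : ∀ x ∈ V, x⁻¹ * autFun α x ∈ H) (hαQ : IsMap E₁ (V ⊓ H) (autFun α)) :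
    α ∈ E.autGroup V := by
  haveI := finite_of_le (hV.trans n.tS)
  haveI := finite_mulAut V
  obtain ⟨β, hβ, hβo, hβe⟩ := exists_match n.tS n.pgroup n.eSat hE₁.closed hE₁.hyp hV hct hα hαo
    (hE₁.map hαQ)
  have hfix := delta_mem hα (fun x hx => hE₁.hyp (mem_hyp hV hβ hβo hx)) hβe
  have hβF : β ∈ F.autGroup V := autGroup_mono (n.sub V) hβ
  set N := (E.autGroup V).subgroupOf (F.autGroup V) with hN
  haveI : N.Normal := ⟨fun x hx b => Subgroup.mem_subgroupOf.mpr
    (autGroup_conj_mem n hV (Subgroup.mem_subgroupOf.mp hx) b.2)⟩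
  obtain ⟨k, hk⟩ := fixMod_isPGroup (Z := V ⊓ H) (n.tp.to_le hV) ⟨_, hfix⟩
  have hmem : (⟨α, hαF⟩ : F.autGroup V) ∈ N := by
    refine mem_of_coprime_mod N (b := ⟨β⁻¹ * α, Subgroup.mul_mem _ (Subgroup.inv_mem _ hβF) hαF⟩)
      (by rw [← Subgroup.orderOf_coe]; exact hαo) (k := k)
      (Subtype.ext (by simpa using congrArg Subtype.val hk)) (Subgroup.mem_subgroupOf.mpr ?_)
    show (β⁻¹ * α)⁻¹ * α ∈ E.autGroup V
    rw [show (β⁻¹ * α)⁻¹ * α = α⁻¹ * β * α⁻¹⁻¹ by group]
    exact autGroup_conj_mem n hV hβ (Subgroup.inv_mem _ hαF)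
  exact Subgroup.mem_subgroupOf.mp hmem

/-- Automorphisms of order prime to `p` in the system act trivially modulo the hyperfocal subgroup
of `E`. -/
theorem pSys_mod_hyp (n : NData F E p) {P : Subgroup Ω} (hP : P ≤ S) {a : MulAut P}
    (ha : a ∈ (pSys n).autGroup P) (hao : (orderOf a).Coprime p) {x : Ω} (hx : x ∈ P) :
    x⁻¹ * autFun a x ∈ E.hyperfocalSubgroup p := by
  have hai := (mem_autGroup hP).mp ha
  have ht := tgen_of_cop n (isMap_pSys.mp hai.1) (fun v hv => hai.mem hv) (cop_of_pow hao le_rfl)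
  set H := E.hyperfocalSubgroup p with hH
  have hTP : P ⊓ T ≤ T := inf_le_right
  haveI := finite_of_le (hTP.trans n.tS)
  haveI := finite_mulAut ↥(P ⊓ T)
  have hst : ∀ v ∈ P ⊓ T, autFun a v ∈ P ⊓ T := fun v hv =>
    ⟨hai.mem hv.1, (ht.apply_mem_t n hv.1).mpr hv.2⟩
  haveI := n.finiteT
  obtain ⟨γ, hγ, hγe⟩ := (isIso_of_mapsTo (ht.emap n) hTP hst le_rfl).exists_aut
  obtain ⟨j, hj, hje⟩ := cop_of_pow (p := p) hao (le_refl P)
  have hγo : (orderOf γ).Coprime p :=
    orderOf_coprime_of_cop (f := autFun a) ⟨j, hj, fun v hv => hje v hv.1⟩ hγe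
  have hmodH : ∀ v ∈ P ⊓ T, v⁻¹ * autFun a v ∈ H := fun v hv => by
    rw [← hγe hv]
    exact mem_hyp hTP hγ hγo hv
  set y := x⁻¹ * autFun a x with hy
  have hyPT : y ∈ P ⊓ T := ⟨P.mul_mem (P.inv_mem hx) (hai.mem hx), ht.mod n x hx⟩
  have hit : ∀ k : ℕ, x⁻¹ * (autFun a)^[k] x ∈ P ⊓ T ∧
      (y ^ k)⁻¹ * (x⁻¹ * (autFun a)^[k] x) ∈ H := by
    intro k
    induction k with
    | zero => simp
    | succ k ih =>
      obtain ⟨h1, h2⟩ := ih
      set z := x⁻¹ * (autFun a)^[k] x with hz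
      have hval : x⁻¹ * (autFun a)^[k + 1] x = y * autFun a z := by
        rw [Function.iterate_succ_apply', show (autFun a)^[k] x = x * z by rw [hz, mul_inv_cancel_left],
          hai.1.map_mul hx h1.1, hy, mul_assoc]
      refine ⟨hval ▸ (P ⊓ T).mul_mem hyPT (hst _ h1), ?_⟩
      rw [hval, pow_succ']
      have := H.mul_mem h2 (hmodH z h1)
      simpa [mul_assoc] using this
  have hm : y ^ j ∈ H := by
    obtain ⟨-, h2⟩ := hit j
    rw [hje x hx] at h2
    simpa using h2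
  obtain ⟨k, hk⟩ := n.pgroup ⟨y, n.tS hyPT.2⟩
  have hyk : y ^ p ^ k = 1 := congrArg Subtype.val hk
  obtain ⟨l, hl1, hl0⟩ := Nat.chineseRemainder (hj.pow_right k).symm 1 0
  obtain ⟨c, hc⟩ := Nat.modEq_zero_iff_dvd.mp hl0
  have hyl : y ^ l = y := by
    rw [← Nat.mod_add_div l (p ^ k), pow_add, pow_mul, hyk, one_pow, mul_one, (hl1 : l % p ^ k = 1 % p ^ k)]
    conv_rhs => rw [← pow_one y, ← Nat.mod_add_div 1 (p ^ k), pow_add, pow_mul, hyk, one_pow, mul_one]
  rw [← hyl, hc, pow_mul]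
  exact H.pow_mem hm c

set_option maxHeartbeats 2000000 in
/-- Exactly one saturated subsystem over `R` has the hyperfocal subgroup and residual of `E`. -/
theorem exists_unique_product (n : NData F E p) {R : Subgroup Ω} (hTR : T ≤ R) (hRS : R ≤ S) :
    ∃ D : FusionSystem R, (D.IsSaturated p ∧ D.IsSubsystemOf F ∧
      D.hyperfocalSubgroup p = E.hyperfocalSubgroup p ∧
      ∀ (D₁ : FusionSystem (D.hyperfocalSubgroup p)) (E₁ : FusionSystem (E.hyperfocalSubgroup p)),
        D.IsPResidual p D₁ → E.IsPResidual p E₁ → ∀ P : Subgroup Ω, D₁.Hom P = E₁.Hom P) ∧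
      ∀ D' : FusionSystem R, D'.IsSaturated p → D'.IsSubsystemOf F →
        D'.hyperfocalSubgroup p = E.hyperfocalSubgroup p →
        (∀ (D₁ : FusionSystem (D'.hyperfocalSubgroup p)) (E₁ : FusionSystem (E.hyperfocalSubgroup p)),
          D'.IsPResidual p D₁ → E.IsPResidual p E₁ → ∀ P : Subgroup Ω, D₁.Hom P = E₁.Hom P) →
        ∀ P : Subgroup Ω, D'.Hom P = D.Hom P := by
  have hTS := n.tS
  haveI := n.finiteT
  haveI := finite_of_le hRS
  have hRp := n.pgroup.to_le hRS
  set H := E.hyperfocalSubgroup p with hHdef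
  have hHT : H ≤ T := hyperfocal_le
  obtain ⟨E₁, hE₁s, hE₁i⟩ := PPow.exists_pPowerIndex _ T E inferInstance rfl n.tp n.eSat H hHT le_rfl
  have hRE : Res E E₁ p := res_of_index hTS n.pgroup n.eSat hE₁s hE₁i rfl
  have hEres : ∀ E₁' : FusionSystem H, E.IsPResidual p E₁' → ∀ P : Subgroup Ω, E₁'.Hom P = E₁.Hom P :=
    fun E₁' h P => residual_hom_eq hTS n.pgroup hE₁s hE₁i rfl E₁' h P
  -- the system
  have hhypP : (pSys n).hyperfocalSubgroup p ≤ H :=
    hyp_le_of_coprime fun P hP a ha hao x hx => pSys_mod_hyp n hP ha hao hx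
  obtain ⟨D, hDs, hDi⟩ := PPow.exists_pPowerIndex _ S (pSys n) inferInstance rfl n.pgroup
    (pSys_isSaturated n) R hRS (hhypP.trans (hHT.trans hTR))
  have hDF : D.IsSubsystemOf F := fun P => (hDi.1 P).trans (pSys_le n P)
  have hcoD : ∀ {P : Subgroup Ω}, P ≤ R → ∀ a ∈ (pSys n).autGroup P, (orderOf a).Coprime p →
      a ∈ D.autGroup P := fun {P} hP a ha hao =>
    hDi.2.2 P hP ⟨⟨a, ha⟩, Transfer.mem_pResidual_of_coprime (by rwa [← Subgroup.orderOf_coe]), rfl⟩
  have hED : ∀ P f, IsMap E P f → IsMap D P f := by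
    refine alperin_induction_cr n.tp n.eSat (fun P f => IsMap D P f) (fun P f g h he => h.congr he)
      (fun P Q f g hf _ h1 h2 => h1.comp h2 fun v hv => hf.mem hv) (fun P Q f _ hle h => h.mono hle) ?_
    intro U hUc _ hUn f hf
    have hUT := hUn.1
    have hUR := hUT.trans hTR
    haveI := finite_of_le hUT
    haveI := finite_mulAut U
    obtain ⟨Y, hY⟩ := (fullyAutomized_of_fullyNormalized n.tp n.eSat hUn).2
    obtain ⟨a, ha, hae⟩ := hf.exists_aut
    have hle : (⊤ : Subgroup (E.autGroup U)) ≤ (D.autGroup U).subgroupOf (E.autGroup U) := by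
      refine le_of_eq (eq_top_of_sylow_coprime Y _ (fun b hb => ?_) fun b hb => ?_).symm
      · rw [hY, Subgroup.mem_subgroupOf] at hb
        exact Subgroup.mem_subgroupOf.mpr (autInducedBy_le_autGroup hUR (autInducedBy_mono hTR hb))
      · have hbE := (mem_autGroup hUT).mp b.2
        have hUi : U ⊓ T = U := inf_eq_left.mpr hUT
        have hbo : (orderOf (b : MulAut U)).Coprime p := by rwa [Subgroup.orderOf_coe]
        have hM : MCo F E p U (autFun (b : MulAut U)) := by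
          refine ⟨⟨hbE.1.of_isSubsystemOf n.sub, hbE.2⟩, ?_, cop_of_pow hbo le_rfl,
            fun x hx => T.mul_mem (T.inv_mem (hUT hx)) (hUT (hbE.mem hx)), ?_⟩
          · rw [hUi]
            exact ct_frattini n.invariant (fun P f h => h) ⟨hUT, hUc.2⟩
          · exact hbE.1.mono inf_le_left
        exact Subgroup.mem_subgroupOf.mpr (hcoD hUR _
          ((mem_autGroup (hUT.trans hTS)).mpr (hM.isIso_pSys n)) hbo)
    exact ((mem_autGroup hUR).mp (Subgroup.mem_subgroupOf.mp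
      (hle (Subgroup.mem_top (⟨a, ha⟩ : E.autGroup U))))).1.congr hae
  have hEDs : E.IsSubsystemOf D := fun P => hom_subset_of_isMap (hED P)
  have hDH : D.hyperfocalSubgroup p = H :=
    le_antisymm ((PPow.hyperfocal_mono hRS hDi.1).trans hhypP) (PPow.hyperfocal_mono hTR hEDs)
  have hHR : H ≤ R := hHT.trans hTR
  have hE₁D : E₁.HasPPowerIndexIn D p := by
    refine ⟨fun P => (hE₁i.1 P).trans (hEDs P), hDH.le, fun P hP => ?_⟩
    refine Subgroup.map_le_iff_le_comap.mpr ((Subgroup.closure_le _).mpr fun a ha => ?_)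
    have hai := (mem_autGroup (hP.trans hHR)).mp a.2
    have hao : (orderOf (a : MulAut P)).Coprime p := by rwa [Subgroup.orderOf_coe]
    have hap : IsMap (pSys n) P (autFun (a : MulAut P)) := hai.1.of_isSubsystemOf hDi.1
    have ht := tgen_of_cop n (isMap_pSys.mp hap) (fun v hv => hai.mem hv) (cop_of_pow hao le_rfl)
    have haE : (a : MulAut P) ∈ E.autGroup P :=
      autGroup_mem_of_isMap ((ht.emap n).mono (le_inf le_rfl (hP.trans hHT)))
    exact autGroup_mem_of_isMap (hRE.cop P hP _ haE hao)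
  have hRD : Res D E₁ p := res_of_index hRS n.pgroup hDs hE₁s hE₁D hDH
  refine ⟨D, ⟨hDs, hDF, hDH, fun D₁ E₁' hD₁ hE₁' P => ?_⟩, fun D' hs hsub hH hsame P => ?_⟩
  · rw [hEres E₁' hE₁' P]
    exact residual_hom_eq hRS n.pgroup hE₁s hE₁D hDH D₁ hD₁ P
  haveI := finite_of_le ((hyperfocal_le (F := D') (p := p)).trans hRS)
  obtain ⟨D₁, hD₁s, hD₁i⟩ := PPow.exists_pPowerIndex _ R D' inferInstance rfl hRp hs
    (D'.hyperfocalSubgroup p) hyperfocal_le le_rfl
  have hRD' : Res D' E₁ p := res_of_residual hRS n.pgroup hs E₁ hH D₁ ⟨hD₁s, hD₁i⟩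
    fun Q => hsame D₁ E₁ ⟨hD₁s, hD₁i⟩ ⟨hE₁s, hE₁i⟩ Q
  -- `E` lies in it
  have hEsub : ∀ P f, IsMap E P f → IsMap D' P f := by
    refine match_le hTR hRS n.pgroup hRE hRD' fun U hU hct β hβ hβo => ?_
    have hβi := (mem_autGroup (hU.trans hTR)).mp hβ
    have hQT : U ⊓ H ≤ R := inf_le_right.trans hHR
    haveI := finite_of_le hQT
    obtain ⟨γ, hγ, hγe⟩ := (isIso_inf hRD'.closed hβi).exists_aut
    obtain ⟨j, hj, hje⟩ := cop_of_pow (p := p) hβo (le_refl U)
    have hβE : IsMap E₁ (U ⊓ H) (autFun β) :=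
      (hRD'.cop _ inf_le_right γ hγ (orderOf_coprime_of_cop (f := autFun β)
        ⟨j, hj, fun x hx => hje x hx.1⟩ hγe)).congr hγe
    exact emap_of_residual n hRE hU hct (autGroup_mono (hsub U) hβ) hβo
      (fun x hx => hRD'.hyp (mem_hyp (hU.trans hTR) hβ hβo hx)) hβE
  have hTcl : D'.StronglyClosed T := stronglyClosed_iff.mpr ⟨hTR, fun P f hf x hx hxT =>
    Fusion92.closed_apply n.closed (hf.of_isSubsystemOf hsub) hx hxT⟩
  -- it lies in the system
  have hsub1 : ∀ P f, IsMap D' P f → IsMap D P f := by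
    refine alperin_induction_cr hRp hs (fun P f => IsMap D P f) (fun P f g h he => h.congr he)
      (fun P Q f g hf _ h1 h2 => h1.comp h2 fun v hv => hf.mem hv) (fun P Q f _ hle h => h.mono hle) ?_
    intro U hUc hUr hUn f hf
    have hUR := hUn.1
    haveI := finite_of_le hUR
    haveI := finite_mulAut U
    obtain ⟨Y, hY⟩ := (fullyAutomized_of_fullyNormalized hRp hs hUn).2
    obtain ⟨a, ha, hae⟩ := hf.exists_aut
    have hle : (⊤ : Subgroup (D'.autGroup U)) ≤ (D.autGroup U).subgroupOf (D'.autGroup U) := by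
      refine le_of_eq (eq_top_of_sylow_coprime Y _ (fun b hb => ?_) fun b hb => ?_).symm
      · rw [hY, Subgroup.mem_subgroupOf] at hb
        exact Subgroup.mem_subgroupOf.mpr (autInducedBy_le_autGroup hUR hb)
      · have hbo : (orderOf (b : MulAut U)).Coprime p := by rwa [Subgroup.orderOf_coe]
        have hbi := (mem_autGroup hUR).mp b.2
        have hctT : CT F T (U ⊓ T) :=
          ct_frattini n.invariant hEsub (ct_of_cr hRS n.pgroup hs hTcl hUc hUr)
        have hctH : CT D' H (U ⊓ H) := ct_of_cr hRS n.pgroup hs hRD'.closed hUc hUr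
        have hVH : U ⊓ T ⊓ H = U ⊓ H := by
          rw [inf_assoc, inf_eq_right.mpr hHT]
        have hctE : CT E H (U ⊓ T ⊓ H) := by
          rw [hVH]
          refine ⟨hctH.1, fun Q hQ => hctH.2 Q ?_⟩
          obtain ⟨g, hg⟩ := isConj_iff.mp hQ
          exact IsIso.isConj ⟨hEsub _ _ hg.1, hg.2⟩
        have hmod : ∀ x ∈ U, x⁻¹ * autFun (b : MulAut U) x ∈ H := fun x hx =>
          hRD'.hyp (mem_hyp hUR b.2 hbo hx)
        have hbF : IsIso F U U (autFun (b : MulAut U)) := ⟨hbi.1.of_isSubsystemOf hsub, hbi.2⟩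
        obtain ⟨j, hj, hje⟩ := cop_of_pow (p := p) hbo (le_refl U)
        have hQR : U ⊓ H ≤ R := inf_le_right.trans hHR
        haveI := finite_of_le hQR
        obtain ⟨γ, hγ, hγe⟩ := (isIso_inf hRD'.closed hbi).exists_aut
        have hbE₁ : IsMap E₁ (U ⊓ H) (autFun (b : MulAut U)) :=
          (hRD'.cop _ inf_le_right γ hγ (orderOf_coprime_of_cop (f := autFun (b : MulAut U))
            ⟨j, hj, fun x hx => hje x hx.1⟩ hγe)).congr hγe
        have hTU : U ⊓ T ≤ S := inf_le_right.trans hTS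
        haveI := finite_of_le hTU
        obtain ⟨δ, hδ, hδe⟩ := (isIso_inf n.closed hbF).exists_aut
        have hδE : δ ∈ E.autGroup (U ⊓ T) := emap_of_residual n hRE inf_le_right hctE hδ
          (orderOf_coprime_of_cop (f := autFun (b : MulAut U)) ⟨j, hj, fun x hx => hje x hx.1⟩ hδe)
          (fun x hx => by rw [hδe hx]; exact hmod x hx.1)
          ((hVH.symm ▸ hbE₁).congr fun x hx => (hδe (show x ∈ U ⊓ T from hx.1)).symm)
        have hM : MCo F E p U (autFun (b : MulAut U)) := ⟨hbF, hctT, cop_of_pow hbo le_rfl,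
          fun x hx => hHT (hmod x hx), ((mem_autGroup inf_le_right).mp hδE).1.congr hδe⟩
        exact Subgroup.mem_subgroupOf.mpr (hcoD hUR _
          ((mem_autGroup (hUR.trans hRS)).mpr (hM.isIso_pSys n)) hbo)
    exact ((mem_autGroup hUR).mp (Subgroup.mem_subgroupOf.mp
      (hle (Subgroup.mem_top (⟨a, ha⟩ : D'.autGroup U))))).1.congr hae
  have hsub2 : ∀ P f, IsMap D P f → IsMap D' P f :=
    match_le le_rfl hRS n.pgroup hRD hRD' fun U hU _ β hβ _ =>
      autGroup_mono (hom_subset_of_isMap (hsub1 U)) hβ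
  exact Set.Subset.antisymm (hom_subset_of_isMap (hsub1 P)) (hom_subset_of_isMap (hsub2 P))

end Cfsg.Agent.Fusion.Prod
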